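import Groth.Agent.GenBCLib.FlatCoh
import Groth.Agent.GenBCLib.SecLocFree
import Groth.Agent.GenBCLib.Helpers
import Groth.Agent.CAlgBasics.FlatAux
import Groth.Agent.ProjBundleLib.EpiClosed
import Groth.Agent.CohCmpLib.Inj
import Groth.Agent.DevLib.Sub

/-!
# Pulling back short exact sequences with flat cokernel
-/

set_option autoImplicit false
set_option backward.isDefEq.respectTransparency false
set_option linter.style.haveILetI false
set_option linter.unusedSectionVars false

universe u

open CategoryTheory CategoryTheory.Limits AlgebraicGeometry TopologicalSpace Opposite TensorProduct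
open Groth.Agent.PullbackMod

noncomputable section

namespace Groth.Agent.QuotRep

/-- Base change along a pushout of an injection whose cokernel is flat over the base. -/
theorem injective_baseChange_of_flat_cokernel {A A' B B' : Type u} [CommRing A] [CommRing A'] [CommRing B] [CommRing B']
    [Algebra A A'] [Algebra A B] [Algebra A' B'] [Algebra B B'] [Algebra A B'] [IsScalarTower A B B']
    [IsScalarTower A A' B'] [Algebra.IsPushout A A' B B'] {K F Q : Type u} [AddCommGroup K] [AddCommGroup F]
    [AddCommGroup Q] [Module B K] [Module B F] [Module B Q] [Module A K] [Module A F] [Module A Q]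
    [IsScalarTower A B K] [IsScalarTower A B F] [IsScalarTower A B Q] [Module.Flat A Q]
    (f : K →ₗ[B] F) (g : F →ₗ[B] Q) (hf : Function.Injective f) (hfg : Function.Exact f g)
    (hg : Function.Surjective g) : Function.Injective (f.lTensor B') := by
  let c₁ := Algebra.IsPushout.cancelBaseChange A A' B B' K
  let c₂ := Algebra.IsPushout.cancelBaseChange A A' B B' F
  have hsq : ∀ z, c₂ (f.lTensor B' z) = (f.restrictScalars A).lTensor A' (c₁ z) := by
    intro z
    obtain ⟨y, rfl⟩ := c₁.symm.surjective z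
    rw [LinearEquiv.apply_symm_apply]
    induction y using TensorProduct.induction_on with
    | zero => simp
    | tmul s n =>
      apply c₂.symm.injective
      rw [LinearEquiv.symm_apply_apply]
      simp only [c₁, c₂, Algebra.IsPushout.cancelBaseChange_symm_tmul, LinearMap.lTensor_tmul]
      rfl
    | add x y hx hy => simp only [map_add, hx, hy]
  have h : Function.Injective ((f.restrictScalars A).rTensor A') :=
    CAlgBasics.rTensor_injective_of_flat_quotient (g := g.restrictScalars A) hf hfg hg A'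
  have h' : Function.Injective ((f.restrictScalars A).lTensor A') := by
    rw [← LinearMap.comm_comp_rTensor_comp_comm_eq]
    simp only [LinearMap.coe_comp, LinearEquiv.coe_coe]
    exact (TensorProduct.comm A F A').injective.comp (h.comp (TensorProduct.comm A A' K).injective)
  intro z w hzw
  exact c₁.injective (h' (by rw [← hsq, ← hsq, hzw]))

variable {X S X' S' : Scheme.{u}} {f : X ⟶ S} {f' : X' ⟶ S'} {g' : X' ⟶ X} {g : S' ⟶ S}

/-- Pullback along a base change keeps injective a map with flat cokernel. -/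
theorem mono_pullback_of_flat (hc : IsPullback g' f' f g) {T : ShortComplex X.Modules} (hT : T.ShortExact)
    [Coh.IsQCoh T.X₁] [Coh.IsQCoh T.X₂] [Coh.IsQCoh T.X₃] (hfl : FlatMod.IsFlatOver f T.X₃) :
    Mono ((Scheme.Modules.pullback g').map T.f) := by
  let φ := (Scheme.Modules.pullback g').map T.f
  haveI := isQCoh_pullback g' T.X₁
  haveI := isQCoh_pullback g' T.X₂
  haveI : Coh.IsQCoh (kernel φ) := (QCohLib.isQCoh_image φ inferInstance inferInstance).1
  refine Preadditive.mono_of_kernel_zero (?_ : kernel.ι φ = 0)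
  refine (eq_zero_iff_stalk _).2 fun x' => LinearMap.ext fun z => ?_
  suffices hz : z = 0 by rw [hz, map_zero, LinearMap.zero_apply]
  obtain ⟨V, W, V', hV, hW, hV', e, e', hxW, hxV'⟩ := exists_affines hc x'
  obtain ⟨hW', hpo⟩ := isPushout_appLE hc hV hW hV' e e'
  let W' := g' ⁻¹ᵁ W ⊓ f' ⁻¹ᵁ V'
  letI : Algebra Γ(S, V) Γ(X, W) := (f.appLE V W e).hom.toAlgebra
  letI : Algebra Γ(S, V) Γ(S', V') := (g.appLE V V' e').hom.toAlgebra
  letI : Algebra Γ(X, W) Γ(X', W') := (g'.appLE W W' inf_le_left).hom.toAlgebra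
  letI : Algebra Γ(S', V') Γ(X', W') := (f'.appLE V' W' inf_le_right).hom.toAlgebra
  letI : Algebra Γ(S, V) Γ(X', W') :=
    ((g'.appLE W W' inf_le_left).hom.comp (f.appLE V W e).hom).toAlgebra
  haveI : IsScalarTower Γ(S, V) Γ(X, W) Γ(X', W') := .of_algebraMap_eq fun _ => rfl
  haveI : IsScalarTower Γ(S, V) Γ(S', V') Γ(X', W') := .of_algebraMap_eq' (by
    show ((f.appLE V W e) ≫ g'.appLE W _ inf_le_left).hom =
      ((g.appLE V V' e') ≫ f'.appLE V' _ inf_le_right).hom
    simp only [Scheme.Hom.appLE_comp_appLE, hc.w])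
  haveI : Algebra.IsPushout Γ(S, V) Γ(S', V') Γ(X, W) Γ(X', W') := hpo
  letI : Module Γ(S, V) Γ(T.X₁, W) := Module.compHom _ (f.appLE V W e).hom
  letI : Module Γ(S, V) Γ(T.X₂, W) := Module.compHom _ (f.appLE V W e).hom
  letI : Module Γ(S, V) Γ(T.X₃, W) := Module.compHom _ (f.appLE V W e).hom
  haveI : IsScalarTower Γ(S, V) Γ(X, W) Γ(T.X₁, W) := .of_algebraMap_smul fun _ _ => rfl
  haveI : IsScalarTower Γ(S, V) Γ(X, W) Γ(T.X₂, W) := .of_algebraMap_smul fun _ _ => rfl
  haveI : IsScalarTower Γ(S, V) Γ(X, W) Γ(T.X₃, W) := .of_algebraMap_smul fun _ _ => rfl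
  haveI : Module.Flat Γ(S, V) Γ(T.X₃, W) := GenBCLib.flat_sections_over f T.X₃ hfl hV hW e
  let lin {M N : X.Modules} (ψ : M ⟶ N) : Γ(M, W) →ₗ[Γ(X, W)] Γ(N, W) :=
    { toFun := ψ.app W, map_add' := fun a b => map_add _ a b, map_smul' := fun a b => Scheme.Modules.Hom.app_smul ψ a b }
  haveI := hT.mono_f
  haveI := hT.epi_g
  have hinj := injective_baseChange_of_flat_cokernel (A := Γ(S, V)) (A' := Γ(S', V')) (B' := Γ(X', W'))
    (lin T.f) (lin T.g) (CohCmpLib.injective_app_of_mono T.f W)
    (fun s => ⟨fun h => QCohLib.app_exact hT W s h, by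
      rintro ⟨t, rfl⟩
      exact congr($(T.zero).app W t)⟩)
    (ProjBundleLib.surjective_app_of_epi (inferInstance : Coh.IsQCoh T.X₂) inferInstance T.g hW)
  letI : Module Γ(X, W) Γ((Scheme.Modules.pullback g').obj T.X₁, W') := Module.compHom _ (g'.appLE W W' inf_le_left).hom
  letI : Module Γ(X, W) Γ((Scheme.Modules.pullback g').obj T.X₂, W') := Module.compHom _ (g'.appLE W W' inf_le_left).hom
  haveI : IsScalarTower Γ(X, W) Γ(X', W') Γ((Scheme.Modules.pullback g').obj T.X₁, W') :=
    .of_algebraMap_smul fun _ _ => rfl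
  haveI : IsScalarTower Γ(X, W) Γ(X', W') Γ((Scheme.Modules.pullback g').obj T.X₂, W') :=
    .of_algebraMap_smul fun _ _ => rfl
  have h1 := isBaseChange_pullMapL g' T.X₁ hW hW' (inf_le_left : W' ≤ g' ⁻¹ᵁ W)
  have h2 := isBaseChange_pullMapL g' T.X₂ hW hW' (inf_le_left : W' ≤ g' ⁻¹ᵁ W)
  have hsq : ∀ t, φ.app W' (h1.equiv t) = h2.equiv ((lin T.f).lTensor Γ(X', W') t) := by
    intro t
    induction t using TensorProduct.induction_on with
    | zero => simp only [map_zero]
    | tmul b m =>
      rw [LinearMap.lTensor_tmul, IsBaseChange.equiv_tmul, IsBaseChange.equiv_tmul, Scheme.Modules.Hom.app_smul]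
      exact congrArg (b • ·) (pullMap_natural g' T.f (inf_le_left : W' ≤ g' ⁻¹ᵁ W) m)
    | add a b ha hb => simp only [map_add, ha, hb]
  have happ : Function.Injective (φ.app W') := by
    intro a b hab
    obtain ⟨a, rfl⟩ := h1.equiv.surjective a
    obtain ⟨b, rfl⟩ := h1.equiv.surjective b
    rw [hsq, hsq] at hab
    rw [hinj (h2.equiv.injective hab)]
  haveI : Subsingleton Γ(kernel φ, W') := ⟨fun a b => CohCmpLib.injective_app_of_mono (kernel.ι φ) W' (happ (by
    rw [← ConcreteCategory.comp_apply, ← ConcreteCategory.comp_apply, ← Scheme.Modules.Hom.comp_app,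
      kernel.condition]
    rfl))⟩
  have hzero := GenBCLib.isZero_of_sections (M := kernel φ) (D := W') hW'
  obtain ⟨O, hxO, s, rfl⟩ := TopCat.Presheaf.exists_germ_eq (kernel φ).presheaf z
  haveI := GenBCLib.subsingleton_of_isZero_restrict (inf_le_right : O ⊓ W' ≤ W') hzero
  rw [← (kernel φ).presheaf.germ_res_apply (homOfLE (inf_le_left : O ⊓ W' ≤ O)) x' ⟨hxO, hxW, hxV'⟩ s,
    Subsingleton.elim ((kernel φ).presheaf.map (homOfLE (inf_le_left : O ⊓ W' ≤ O)).op s) 0, map_zero]

/-- Pullback along a base change keeps short exact a sequence with flat cokernel. -/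
theorem shortExact_pullback_of_flat (hc : IsPullback g' f' f g) {T : ShortComplex X.Modules} (hT : T.ShortExact)
    [Coh.IsQCoh T.X₁] [Coh.IsQCoh T.X₂] [Coh.IsQCoh T.X₃] (hfl : FlatMod.IsFlatOver f T.X₃) :
    (T.map (Scheme.Modules.pullback g')).ShortExact := by
  haveI := mono_pullback_of_flat hc hT hfl
  haveI := hT.epi_g
  haveI : (Scheme.Modules.pullback g').IsLeftAdjoint :=
    (Scheme.Modules.pullbackPushforwardAdjunction g').isLeftAdjoint
  have hl := CokernelCofork.mapIsColimit _ hT.gIsCokernel (Scheme.Modules.pullback g')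
  exact { exact := ShortComplex.exact_of_g_is_cokernel _ hl, mono_f := mono_pullback_of_flat hc hT hfl,
          epi_g := inferInstanceAs (Epi ((Scheme.Modules.pullback g').map T.g)) }

end Groth.Agent.QuotRep
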