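import Groth.Agent.QuotRepLib.Basic
import Groth.Agent.QCohLib.Push
import Groth.Agent.EtAlgEasy.PrinPartFlat
import Groth.Agent.QCohLib.Coherent
import Groth.Agent.GrassShLib.Kernel
import Groth.Agent.S14008

/-!
# Extending flat quotients over a discrete valuation ring
-/

set_option autoImplicit false
set_option backward.isDefEq.respectTransparency false
set_option linter.style.haveILetI false
set_option linter.unusedSectionVars false

universe u

open CategoryTheory CategoryTheory.Limits AlgebraicGeometry TopologicalSpace Opposite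
open Groth.Agent.PullbackMod Groth.Agent.DCohLib

noncomputable section

namespace Groth.Agent.QuotRep

/-- A section is zero in a direct image as soon as a unit kills it. -/
theorem stalk_push_eq_zero {Y Z : Scheme.{u}} (j : Y ⟶ Z) (N : Y.Modules) (γ : Γ(Z, ⊤))
    (hγ : IsUnit (j.appTop γ)) (z : Z) (m : ((Scheme.Modules.pushforward j).obj N).presheaf.stalk z)
    (hm : (Z.presheaf.germ ⊤ z trivial γ : Z.presheaf.stalk z) • m = 0) : m = 0 := by
  let J := (Scheme.Modules.pushforward j).obj N
  obtain ⟨V, hzV, σ, rfl⟩ := TopCat.Presheaf.exists_germ_eq J.presheaf m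
  rw [← Z.presheaf.germ_res_apply (homOfLE (le_top : V ≤ ⊤)) z hzV γ] at hm
  have h1 : J.presheaf.germ V z hzV (Z.presheaf.map (homOfLE (le_top : V ≤ ⊤)).op γ • σ) = 0 :=
    (PresheafOfModules.germ_smul (R := Z.presheaf) J.val z V hzV _ σ).trans hm
  obtain ⟨V', hzV', i, i', hV'⟩ := TopCat.Presheaf.germ_eq J.presheaf z hzV hzV _ 0 (h1.trans (map_zero _).symm)
  rw [map_zero, Scheme.Modules.map_smul] at hV'
  have hu : IsUnit (j.app V' (Z.presheaf.map i.op (Z.presheaf.map (homOfLE (le_top : V ≤ ⊤)).op γ))) := by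
    rw [← ConcreteCategory.comp_apply (Z.presheaf.map (homOfLE (le_top : V ≤ ⊤)).op), ← Z.presheaf.map_comp,
      ← ConcreteCategory.comp_apply, j.naturality, ConcreteCategory.comp_apply]
    exact hγ.map _
  have h2 : (show Γ(N, j ⁻¹ᵁ V') from J.presheaf.map i.op σ) = 0 :=
    hu.smul_eq_zero.1 (show j.app V' _ • (show Γ(N, j ⁻¹ᵁ V') from J.presheaf.map i.op σ) = 0 from hV')
  rw [← J.presheaf.germ_res_apply i z hzV' σ]
  exact (congrArg _ h2).trans (map_zero _)

variable {A : Type u} [CommRing A] [IsDomain A] [IsPrincipalIdealRing A]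

/-- A submodule of a direct image from where all non-zero scalars are units is flat. -/
theorem isFlatOver_of_mono_push {Y Z : Scheme.{u}} (p : Z ⟶ Spec (CommRingCat.of A)) (j : Y ⟶ Z) (N : Y.Modules)
    (hj : ∀ a : A, a ≠ 0 → IsUnit (j.appTop (p.appTop ((Scheme.ΓSpecIso (CommRingCat.of A)).inv a))))
    {M : Z.Modules} (ι : M ⟶ (Scheme.Modules.pushforward j).obj N) [Mono ι] :
    FlatMod.IsFlatOver p M := by
  intro z
  let s := p z
  letI := FlatMod.moduleStalkOver p M z
  letI : Algebra (CommRingCat.of A) ((Spec (CommRingCat.of A)).presheaf.stalk s) :=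
    StructureSheaf.stalkAlgebra (CommRingCat.of A) s
  haveI : IsLocalization.AtPrime ((Spec (CommRingCat.of A)).presheaf.stalk s) s.asIdeal :=
    StructureSheaf.IsLocalization.to_stalk (CommRingCat.of A) s
  letI : Module A (M.presheaf.stalk z) :=
    Module.compHom _ (algebraMap (CommRingCat.of A) ((Spec (CommRingCat.of A)).presheaf.stalk s))
  haveI : IsScalarTower (CommRingCat.of A) ((Spec (CommRingCat.of A)).presheaf.stalk s) (M.presheaf.stalk z) :=
    .of_algebraMap_smul fun _ _ => rfl
  show Module.Flat ((Spec (CommRingCat.of A)).presheaf.stalk s) (M.presheaf.stalk z)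
  rw [Module.flat_iff_of_isLocalization ((Spec (CommRingCat.of A)).presheaf.stalk s) s.asIdeal.primeCompl]
  haveI : IsBezout (CommRingCat.of A) := inferInstanceAs (IsBezout A)
  haveI : IsDomain (CommRingCat.of A) := inferInstanceAs (IsDomain A)
  rw [Module.Flat.flat_iff_torsion_eq_bot_of_isBezout, eq_bot_iff]
  rintro m ⟨⟨a, ha⟩, hm⟩
  rw [Submodule.mem_bot]
  have hinj := (mono_iff_stalk ι).1 inferInstance z
  refine hinj ?_
  rw [map_zero]
  refine stalk_push_eq_zero j N (p.appTop ((Scheme.ΓSpecIso (CommRingCat.of A)).inv a))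
    (hj a (nonZeroDivisors.ne_zero ha)) z _ ?_
  rw [← map_smul]
  refine (congrArg (stalkLin ι z) ?_).trans (map_zero _)
  refine Eq.trans ?_ hm
  show _ • m = p.stalkMap z (algebraMap (CommRingCat.of A) ((Spec (CommRingCat.of A)).presheaf.stalk s) a) • m
  congr 1
  exact (Scheme.Hom.germ_stalkMap_apply p ⊤ z trivial _).symm

variable {X S : Scheme.{u}} (f : X ⟶ S) (E : X.Modules)

/-- A flat family over the fraction field extends. -/
theorem exists_extension [IsProper f] [IsLocallyNoetherian S] [IsNoetherianRing A] (hE : Coh.IsCoh E)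
    (h : Spec (CommRingCat.of A) ⟶ S) {U : Over S} (j : U ⟶ Over.mk h) [IsOpenImmersion j.left] [IsAffine U.left]
    (hj : ∀ a : A, a ≠ 0 → IsUnit (j.left.appTop ((Scheme.ΓSpecIso (CommRingCat.of A)).inv a)))
    (K : FGA.QuotSet f E U) : ∃ K' : FGA.QuotSet f E (Over.mk h), FGA.quotPull f E j K'.1 = K.1 := by
  let T : Over S := Over.mk h
  let jX := PicF.XTmap f j
  haveI : IsOpenImmersion jX :=
    MorphismProperty.of_isPullback (P := @IsOpenImmersion) (isPullback_XTmap f j).flip inferInstance
  haveI : IsAffine T.left := inferInstanceAs (IsAffine (Spec (CommRingCat.of A)))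
  haveI : QuasiCompact j.left := inferInstance
  haveI : QuasiCompact jX := MorphismProperty.of_isPullback (P := @QuasiCompact) (isPullback_XTmap f j).flip ‹_›
  haveI : IsLocallyNoetherian T.left := inferInstanceAs (IsLocallyNoetherian (Spec (CommRingCat.of A)))
  haveI : IsProper (PicF.XTproj f T) := MorphismProperty.pullback_snd (P := @IsProper) _ _ ‹_›
  haveI : IsLocallyNoetherian (PicF.XT f T) := LocallyOfFiniteType.isLocallyNoetherian (PicF.XTproj f T)
  let N := cokernel K.1.arrow
  haveI := K.2.1.1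
  haveI : Coh.IsQCoh ((Scheme.Modules.pushforward jX).obj N) := QCohLib.isQCoh_pushforward _ jX
  have hET : Coh.IsCoh (FGA.ET f E T) := PullbackMod.isCoh_pullback _ _ hE
  haveI := hET.1
  let adj := Scheme.Modules.pullbackPushforwardAdjunction jX
  let ψ : (Scheme.Modules.pullback jX).obj (FGA.ET f E T) ⟶ N := (FGA.ETiso f E j).hom ≫ cokernel.π K.1.arrow
  let φ := (adj.homEquiv _ _) ψ
  let K' : Subobject (FGA.ET f E T) := kernelSubobject φ
  let e : cokernel K'.arrow ≅ Abelian.coimage φ :=
    cokernelIsoOfEq (kernelSubobject_arrow φ).symm ≪≫ cokernelEpiComp _ _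
  let ι : cokernel K'.arrow ⟶ (Scheme.Modules.pushforward jX).obj N := e.hom ≫ Abelian.factorThruCoimage φ
  haveI : Mono ι := mono_comp _ _
  have hker : Coh.IsQCoh (kernel φ) := (QCohLib.isQCoh_image φ hET.1 inferInstance).1
  have hcoh : Coh.IsCoh (cokernel K'.arrow) := by
    have hk : Coh.IsCoh (kernel φ) := QCohLib.isCoh_of_mono (kernel.ι φ) hET hker
    exact TildeOpenLib.isCoh_of_iso' e.symm (QCohLib.isCoh_kernel_cokernel (kernel.ι φ) hk hET).2
  have hflat : FlatMod.IsFlatOver (PicF.XTproj f T) (cokernel K'.arrow) := by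
    refine isFlatOver_of_mono_push (PicF.XTproj f T) jX N (fun a ha => ?_) ι
    rw [← ConcreteCategory.comp_apply, ← Scheme.Hom.comp_appTop, XTmap_proj f j, Scheme.Hom.comp_appTop,
      ConcreteCategory.comp_apply]
    exact (hj a ha).map _
  refine ⟨⟨K', hcoh, hflat⟩, ?_⟩
  show FGA.quotPull f E j K' = K.1
  -- pulling back gives the kernel of the map to `N`
  have hψ : (Scheme.Modules.pullback jX).map φ ≫ adj.counit.app N = ψ :=
    ((Adjunction.homEquiv_counit adj _ _ φ).symm).trans ((adj.homEquiv _ _).symm_apply_apply ψ)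
  haveI : IsIso adj.counit := adj.counit_isIso_of_R_fully_faithful
  let S₀ := ShortComplex.mk K'.arrow φ (kernelSubobject_arrow_comp φ)
  have hex : S₀.Exact := (ShortComplex.exact_iff_image_eq_kernel _).2 (by
    show imageSubobject K'.arrow = kernelSubobject φ
    rw [imageSubobject_mono, Subobject.mk_arrow])
  haveI : PreservesFiniteLimits (Scheme.Modules.pullback jX) :=
    Groth.Agent.EtAlgEasy.PrinPartFlat.preservesFiniteLimits_pullback_of_flat jX
  have hex' : (S₀.map (Scheme.Modules.pullback jX)).Exact := hex.map_of_mono_of_preservesKernel _ inferInstance inferInstance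
  have hw : ((Scheme.Modules.pullback jX).map K'.arrow ≫ (FGA.ETiso f E j).hom) ≫ cokernel.π K.1.arrow = 0 := by
    have h0 : (Scheme.Modules.pullback jX).map K'.arrow ≫ ψ = 0 := by
      rw [← hψ, ← Functor.map_comp_assoc, kernelSubobject_arrow_comp, Functor.map_zero, zero_comp]
    exact (Category.assoc _ _ _).trans h0
  have hex'' : (ShortComplex.mk _ _ hw).Exact :=
    (ShortComplex.exact_iff_of_iso (S₁ := S₀.map (Scheme.Modules.pullback jX))
      (S₂ := ShortComplex.mk _ _ hw)
      (ShortComplex.isoMk (Iso.refl _) (FGA.ETiso f E j) (asIso (adj.counit.app N))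
        (Category.id_comp _) hψ.symm)).1 hex'
  refine ((ShortComplex.exact_iff_image_eq_kernel _).1 hex'').trans ?_
  have h := ((ShortComplex.mk K.1.arrow (cokernel.π K.1.arrow) (cokernel.condition _)).exact_iff_image_eq_kernel.1
    (ShortComplex.exact_cokernel _))
  rw [← h, imageSubobject_mono, Subobject.mk_arrow]

end Groth.Agent.QuotRep
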