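import Groth.Agent.QuotRepLib.Core
import Groth.Agent.QuotRepLib.Extend
import Groth.Agent.S4450

/-!
# The valuative criterion for the Quot scheme
-/

set_option autoImplicit false
set_option backward.isDefEq.respectTransparency false
set_option linter.style.haveILetI false
set_option linter.unusedSectionVars false

universe u

open CategoryTheory CategoryTheory.Limits AlgebraicGeometry

noncomputable section

namespace Groth.Agent.QuotRep

theorem isOpenImmersion_spec_fraction (A K : Type u) [CommRing A] [IsDomain A] [IsDiscreteValuationRing A]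
    [Field K] [Algebra A K] [IsFractionRing A K] :
    IsOpenImmersion (Spec.map (CommRingCat.ofHom (algebraMap A K))) := by
  obtain ⟨π, hπ⟩ := IsDiscreteValuationRing.exists_irreducible A
  have hinj : Function.Injective (algebraMap A K) := IsFractionRing.injective A K
  haveI : IsLocalization.Away π K := by
    constructor
    constructor
    · rintro ⟨_, n, rfl⟩
      exact IsUnit.mk0 _ fun h => pow_ne_zero n hπ.ne_zero ((map_eq_zero_iff _ hinj).1 h)
    · intro z
      obtain ⟨⟨a, b⟩, hab⟩ := IsLocalization.surj (nonZeroDivisors A) z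
      obtain ⟨n, u, hb⟩ := IsDiscreteValuationRing.eq_unit_mul_pow_irreducible (nonZeroDivisors.ne_zero b.2) hπ
      refine ⟨⟨a * ↑u⁻¹, ⟨_, n, rfl⟩⟩, ?_⟩
      calc z * algebraMap A K (π ^ n)
          = z * algebraMap A K (↑u * π ^ n) * algebraMap A K ↑u⁻¹ := by
            rw [mul_assoc, ← map_mul, mul_comm (↑u : A), mul_assoc, Units.mul_inv, mul_one]
        _ = algebraMap A K (a * ↑u⁻¹) := by rw [← hb, hab, ← map_mul]
    · intro a b h
      exact ⟨1, by rw [hinj h]⟩
  exact IsOpenImmersion.of_isLocalization (S := K) π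

variable {X S : Scheme.{u}} {f : X ⟶ S} {E L : X.Modules} {Φ : Polynomial ℚ}

/-- Euler characteristics are constant along a flat family over a connected base. -/
theorem hilbCond_of_point [IsProper f] [IsNoetherian S] (hL : PicF.IsInvertible L) {T : Over S}
    [IsLocallyNoetherian T.left] [PreconnectedSpace T.left] (K : FGA.QuotSet f E T) (t₀ : T.left)
    (h : ∀ n : ℕ, (HilbStratLib.eul (PicF.XTproj f T) (cokernel K.1.arrow) (FGA.ET f L T) t₀ n : ℚ) = Φ.eval (n : ℚ)) :
    HilbCond f L Φ T (cokernel K.1.arrow) := by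
  intro t n
  haveI : IsProper (PicF.XTproj f T) := MorphismProperty.pullback_snd (P := @IsProper) _ _ ‹_›
  haveI : LocallyOfFinitePresentation (PicF.XTproj f T) := S14008.lfp_of_lft _
  haveI := isLocallyNoetherian_XT (f := f) (T := T)
  have hlc : IsLocallyConstant fun t : T.left =>
      HilbStratLib.eul (PicF.XTproj f T) (cokernel K.1.arrow) (FGA.ET f L T) t := by
    refine (IsLocallyConstant.iff_eventually_eq _).2 fun t => ?_
    obtain ⟨U, htU, hU⟩ := S7761.result _ T.left (PicF.XTproj f T) _ (QCohLib.isFP_of_isCoh _ K.2.1) K.2.2 1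
      (fun _ => FGA.ET f L T) (fun _ => AmpleLib.isInvertible_pullback _ hL) t
    exact Filter.eventually_of_mem (U.isOpen.mem_nhds htU) fun y hy => funext fun m => hU y hy fun _ => m
  rw [congrFun (hlc.apply_eq_of_preconnectedSpace t t₀) n]
  exact h n

/-- A representing immersion into a proper scheme is a closed immersion. -/
theorem isClosedImmersion_of_universal [IsNoetherian S] [IsProper f] (hE : Coh.IsCoh E) (hL : PicF.IsInvertible L)
    (Q : Over S) [IsLocallyNoetherian Q.left] (K : FGA.QuotSet f E Q) (hK : HilbCond f L Φ Q (cokernel K.1.arrow))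
    {G : Scheme.{u}} (π : G ⟶ S) [IsProper π] (e : Q.left ⟶ G) [IsImmersion e] [QuasiCompact e] (he : e ≫ π = Q.hom)
    (huniv : ∀ (T : Over S) [IsLocallyNoetherian T.left] (K' : FGA.QuotSet f E T),
      HilbCond f L Φ T (cokernel K'.1.arrow) → ∃! g : T ⟶ Q, FGA.quotPull f E g K.1 = K'.1) :
    IsClosedImmersion e := by
  haveI : IsLocallyNoetherian G := LocallyOfFiniteType.isLocallyNoetherian π
  suffices hs : SpecializingMap e by
    exact IsClosedImmersion.of_isPreimmersion e ((isClosedMap_iff_specializingMap e).2 hs).isClosed_range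
  intro x y' hsp
  by_cases hne : y' = e x
  · exact ⟨x, specializes_refl x, hne.symm⟩
  obtain ⟨A, h, hA, hcl, hgen⟩ := S4450.result e x y' hsp hne
  haveI := hA
  let TA : Over S := Over.mk (h ≫ π)
  let j₀ : Spec (Q.left.residueField x) ⟶ Spec (CommRingCat.of A) := Spec.map (CommRingCat.ofHom A.subtype)
  let U : Over S := Over.mk (Q.left.fromSpecResidueField x ≫ Q.hom)
  have hj₀ : j₀ ≫ TA.hom = U.hom := by
    show Spec.map (CommRingCat.ofHom A.subtype) ≫ h ≫ π = Q.left.fromSpecResidueField x ≫ Q.hom
    rw [← Category.assoc, hgen, Category.assoc, he]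
  let j : U ⟶ TA := Over.homMk j₀ hj₀
  let pt : U ⟶ Q := Over.homMk (Q.left.fromSpecResidueField x) rfl
  haveI : IsOpenImmersion j.left := isOpenImmersion_spec_fraction A (Q.left.residueField x)
  haveI : IsAffine U.left := inferInstanceAs (IsAffine (Spec (Q.left.residueField x)))
  haveI : IsLocallyNoetherian U.left := inferInstanceAs (IsLocallyNoetherian (Spec (Q.left.residueField x)))
  haveI : IsLocallyNoetherian TA.left := inferInstanceAs (IsLocallyNoetherian (Spec (CommRingCat.of A)))
  have hunit : ∀ a : A, a ≠ 0 → IsUnit (j.left.appTop ((Scheme.ΓSpecIso (CommRingCat.of A)).inv a)) := by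
    intro a ha
    have h1 := ConcreteCategory.congr_hom (Scheme.ΓSpecIso_inv_naturality (CommRingCat.ofHom A.subtype)) a
    change (Scheme.ΓSpecIso (Q.left.residueField x)).inv (A.subtype a) =
      j.left.appTop ((Scheme.ΓSpecIso (CommRingCat.of A)).inv a) at h1
    rw [← h1]
    exact (IsUnit.mk0 (A.subtype a) fun h0 => ha (Subtype.ext h0)).map _
  let KU := qPull f E pt K
  obtain ⟨KA, hKA⟩ := exists_extension f E hE (h ≫ π) j hunit KU
  have hKU : HilbCond f L Φ U (cokernel KU.1.arrow) := hilbCond_qPull hL pt K hK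
  obtain ⟨u⟩ : Nonempty U.left := inferInstanceAs (Nonempty (Spec (Q.left.residueField x)))
  haveI : PreconnectedSpace TA.left := inferInstanceAs (PreconnectedSpace (Spec (CommRingCat.of A)))
  have hKA' : HilbCond f L Φ TA (cokernel KA.1.arrow) := by
    refine hilbCond_of_point hL KA (j.left u) fun n => ?_
    haveI := isLocallyNoetherian_XT (f := f) (T := TA)
    rw [← eul_XTmap j (QCohLib.isFP_of_isCoh _ KA.2.1) hL u]
    obtain ⟨i⟩ := nonempty_cokernel_quotPull f E j KA.1
    rw [hKA] at i
    exact hilbCond_iso i hKU u n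
  obtain ⟨g, hg, -⟩ := huniv TA KA hKA'
  obtain ⟨g₀, -, huq⟩ := huniv U KU hKU
  have hag : j ≫ g = pt :=
    (huq (j ≫ g) (show FGA.quotPull f E (j ≫ g) K.1 = KU.1 by rw [← quotPull_comp, hg, hKA])).trans
      (huq pt rfl).symm
  haveI : IsReduced TA.left := inferInstanceAs (IsReduced (Spec (CommRingCat.of A)))
  haveI : IsIntegral TA.left := inferInstanceAs (IsIntegral (Spec (CommRingCat.of A)))
  haveI : IsDominant j.left :=
    ⟨IsOpen.dense j.left.isOpenEmbedding.isOpen_range ⟨_, u, rfl⟩⟩
  have heq : g.left ≫ e = h := by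
    refine ext_of_isDominant_of_isSeparated π ?_ j.left ?_
    · rw [Category.assoc, he]; exact Over.w g
    · rw [← Category.assoc, ← Over.comp_left, hag]
      exact hgen.symm
  refine ⟨g.left (IsLocalRing.closedPoint A), ?_, ?_⟩
  · have hηc : j.left u ⤳ IsLocalRing.closedPoint A := IsLocalRing.specializes_closedPoint _
    have hux : g.left (j.left u) = x := by
      rw [← Scheme.Hom.comp_apply, ← Over.comp_left, hag]
      exact Scheme.fromSpecResidueField_apply x u
    exact (specializes_of_eq hux.symm).trans (hηc.map g.left.continuous)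
  · rw [← Scheme.Hom.comp_apply, heq]
    exact hcl

end Groth.Agent.QuotRep
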