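import Groth.Agent.QuotRepLib.Core
import Groth.Agent.FlatStratLib.Proj
import Groth.Agent.FlatStratLib.Reduce
import Groth.Agent.HilbStratLib.ProjFibre
import Groth.Agent.HilbStratLib.RegularFibres
import Groth.Agent.GenSeesawLib.ProjFibre
import Groth.Agent.IntLib.Push
import Groth.Agent.DevLib.Closed
import Groth.Agent.ProjTwistLib.Mul
import Groth.Agent.DCohLib.ProjMap

/-!
# Hilbert conditions for closed subschemes of projective space
-/

set_option autoImplicit false
set_option backward.isDefEq.respectTransparency false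
set_option linter.style.haveILetI false
set_option linter.unusedSectionVars false

universe u

open CategoryTheory CategoryTheory.Limits AlgebraicGeometry

noncomputable section

namespace Groth.Agent.QuotRep

variable {n : ℕ} {S X : Scheme.{u}} (i : X ⟶ CohB1.ProjSpaceOver n S)

/-- The structure morphism. -/
abbrev stF : X ⟶ S := i ≫ CohB1.ProjSpaceOver.toBase n S

/-- The restrictions of the twists. -/
abbrev twX (m : ℤ) : X.Modules := (Scheme.Modules.pullback i).obj (Twist.twistOver n S m)

theorem isInvertible_twX (m : ℤ) : PicF.IsInvertible (twX i m) :=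
  AmpleLib.isInvertible_pullback i (GenSeesawLib.isInvertible_twistOver n S m)

theorem nonempty_twX_mul {a b c : ℤ} (h : a + b = c) : Nonempty (CohB1.tensorMod (twX i a) (twX i b) ≅ twX i c) :=
  (HilbStratLib.nonempty_twistOver_mul (n := n) (S := S) h).map fun e =>
    (AmpleLib.pullTensor i _ _).symm ≪≫ (Scheme.Modules.pullback i).mapIso e

theorem nonempty_twX_zero : Nonempty (twX i 0 ≅ Coh.structureModule X) :=
  (ProjTwistLib.nonempty_zero_iso (𝒜 := CohB1.polyGrading n (ULift.{u} ℤ))).map fun e =>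
    (Scheme.Modules.pullback i).mapIso ((Scheme.Modules.pullback _).mapIso e ≪≫ DCohLib.pullStructureIso _) ≪≫
      DCohLib.pullStructureIso i

theorem nonempty_twX_pow : ∀ k : ℕ, Nonempty (CohB1.tensorPow (twX i 1) k ≅ twX i k)
  | 0 => (nonempty_twX_zero i).map fun e => (Iso.refl (Coh.structureModule X)) ≪≫ e.symm
  | k + 1 => by
    obtain ⟨e⟩ := nonempty_twX_pow k
    obtain ⟨e'⟩ := nonempty_twX_mul i (show (k : ℤ) + 1 = ((k + 1 : ℕ) : ℤ) by push_cast; ring)
    exact ⟨AmpleLib.tIso e (Iso.refl _) ≪≫ e'⟩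

/-- The Euler characteristic of a twist on a fibre. -/
def chiX (T : Over S) (Q : (PicF.XT (stF i) T).Modules) (t : T.left) (m : ℤ) : ℤ :=
  letI : (FGA.fibreAt (stF i) T t).left.Over (Spec (CommRingCat.of (T.left.residueField t))) :=
    ⟨(FGA.fibreAt (stF i) T t).hom⟩
  Curv2.euler (T.left.residueField t) (FGA.fibreAt (stF i) T t).left
    (CohB1.tensorMod (FGA.restrFibre (stF i) T t Q) (FGA.restrFibre (stF i) T t (FGA.ET (stF i) (twX i m) T)))

variable {i}

theorem eul_eq_chiX [IsClosedImmersion i] {T : Over S} {Q : (PicF.XT (stF i) T).Modules} (t : T.left) (a : ℤ) (k : ℕ) :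
    HilbStratLib.eul (PicF.XTproj (stF i) T) (CohB1.tensorMod Q (FGA.ET (stF i) (twX i a) T))
        (FGA.ET (stF i) (twX i 1) T) t k = chiX i T Q t (a + k) := by
  let f := stF i
  let fT := PicF.XTproj f T
  haveI : IsProper (CohB1.ProjSpaceOver.toBase n S) := BCLib.isProper_toBase n S
  letI : (fT.fiber t).Over (Spec (CommRingCat.of (T.left.residueField t))) := ⟨fT.fiberToSpecResidueField t⟩
  haveI : IsProper fT := MorphismProperty.pullback_snd (P := @IsProper) _ _ (inferInstance : IsProper f)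
  haveI : IsProper ((fT.fiber t) ↘ Spec (CommRingCat.of (T.left.residueField t))) :=
    MorphismProperty.pullback_snd (P := @IsProper) _ _ ‹IsProper fT›
  obtain ⟨e⟩ := nonempty_twX_pow i k
  obtain ⟨e'⟩ := nonempty_twX_mul i (show a + (k : ℤ) = a + k from rfl)
  let p := pullback.fst f T.hom
  exact CurveLib.euler_iso (K := T.left.residueField t)
    ((Scheme.Modules.pullback (fT.fiberι t)).mapIso
      (AmpleLib.assoc _ _ _ ≪≫ AmpleLib.tIso (Iso.refl Q)
        (AmpleLib.tIso (Iso.refl _) ((AmpleLib.pullPow p (twX i 1) k).symm ≪≫ (Scheme.Modules.pullback p).mapIso e) ≪≫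
          (AmpleLib.pullTensor p _ _).symm ≪≫ (Scheme.Modules.pullback p).mapIso e')) ≪≫
      AmpleLib.pullTensor (fT.fiberι t) _ _)

theorem eulerCharLE_eq_chiX [IsClosedImmersion i] {T : Over S} [IsLocallyNoetherian T.left]
    {Q : (PicF.XT (stF i) T).Modules} (hQ : Coh.IsCoh Q) (t : T.left) (m : ℤ) :
    FGA.eulerCharLE (T.left.residueField t) (FGA.fibreAt (stF i) T t).left
        (CohB1.tensorMod (FGA.restrFibre (stF i) T t Q) (FGA.restrFibre (stF i) T t (FGA.ET (stF i) (twX i m) T))) n =
      chiX i T Q t m := by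
  let f := stF i
  let π := CohB1.ProjSpaceOver.toBase n S
  let fT := PicF.XTproj f T
  let κ := T.left.residueField t
  haveI : IsProper π := BCLib.isProper_toBase n S
  haveI : IsProper fT := MorphismProperty.pullback_snd (P := @IsProper) _ _ (inferInstance : IsProper f)
  let Y := fT.fiber t
  letI : Y.Over (Spec (CommRingCat.of κ)) := ⟨fT.fiberToSpecResidueField t⟩
  haveI : IsProper (Y ↘ Spec (CommRingCat.of κ)) := MorphismProperty.pullback_snd (P := @IsProper) _ _ ‹IsProper fT›
  haveI := EulerIneqLib.isNoetherian_proper (X := Y) κ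
  let a := T.left.fromSpecResidueField t ≫ T.hom
  let k' := fT.fiberι t ≫ pullback.fst f T.hom
  have hY : IsPullback k' (fT.fiberToSpecResidueField t) f a :=
    (IsPullback.of_hasPullback fT (T.left.fromSpecResidueField t)).paste_horiz (IsPullback.of_hasPullback f T.hom)
  let j₀ : Y ⟶ CohB1.ProjSpaceOver n (Spec (CommRingCat.of κ)) :=
    (FlatStrat.isPullback_projMap a).lift (k' ≫ i) (fT.fiberToSpecResidueField t) (by
      rw [Category.assoc]; exact hY.w)
  have hj₀ : j₀ ≫ CohB1.ProjSpaceOver.toBase n (Spec (CommRingCat.of κ)) = fT.fiberToSpecResidueField t :=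
    IsPullback.lift_snd _ _ _ _
  have hsq : IsPullback k' j₀ i (FGA.projMap n a) :=
    IsPullback.of_bot (by erw [hj₀]; exact hY) (IsPullback.lift_fst _ _ _ _).symm (FlatStrat.isPullback_projMap a)
  haveI : IsClosedImmersion j₀ := MorphismProperty.of_isPullback (P := @IsClosedImmersion) hsq inferInstance
  letI := GenSeesawLib.intAlg κ
  have h2 : IsPullback (GenSeesawLib.bcMap n (ULift.{u} ℤ) κ) (CohB1.ProjSpace.toSpec n κ)
      (CohB1.ProjSpace.toSpec n (ULift.{u} ℤ)) (specULiftZIsTerminal.from (Spec (CommRingCat.of κ))) := by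
    rw [specULiftZIsTerminal.hom_ext (specULiftZIsTerminal.from (Spec (CommRingCat.of κ)))
      (Spec.map (CommRingCat.ofHom (algebraMap (ULift.{u} ℤ) κ)))]
    exact GenSeesawLib.isPullback_bcMap n (ULift.{u} ℤ) κ
  let j : Y ⟶ CohB1.ProjSpace n κ := j₀ ≫ h2.isoPullback.inv
  have hj : j ≫ (CohB1.ProjSpace n κ ↘ Spec (CommRingCat.of κ)) = Y ↘ Spec (CommRingCat.of κ) := by
    rw [Category.assoc]
    exact (congrArg (j₀ ≫ ·) h2.isoPullback_inv_snd).trans hj₀
  haveI := isLocallyNoetherian_XT (f := f) (T := T)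
  let F := CohB1.tensorMod (FGA.restrFibre f T t Q) (FGA.restrFibre f T t (FGA.ET f (twX i m) T))
  have hF : Coh.IsCoh (X := Y) F := CMRegLib.isCoh_tensor_inv (PullbackMod.isCoh_pullback (fT.fiberι t) Q hQ)
    (AmpleLib.isInvertible_pullback _ (AmpleLib.isInvertible_pullback _ (isInvertible_twX i m)))
  haveI := hF.1
  haveI := CMRegLib.isNoetherian_projSpace (k := κ) (n := n)
  refine (CurveLib.euler_eq_sum (K := κ) (X := Y) F (n + 1) fun p hp => ?_).symm
  have hP := DevLib.isCoh_pushforward_closed j hF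
  haveI := hP.1
  have h := CMRegLib.vanish_high hP 0 (show n < p by omega)
  obtain ⟨e0⟩ := ProjTwistLib.nonempty_zero_iso (𝒜 := CohB1.polyGrading n κ)
  haveI : Subsingleton (Coh.HH (CohB1.ProjSpace n κ) ((Scheme.Modules.pushforward j).obj F) p) :=
    @ProjCoh.subsingleton_of_iso _ _ _ (AmpleLib.tIso (Iso.refl _) e0 ≪≫ AmpleLib.unitR _) p h
  obtain ⟨e, -⟩ := ProperFin.exists_pushEquiv j (M := F)
    (fun _ hV m => CohBase.affine_vanishing F (hV.preimage j) m) p
  exact e.toEquiv.subsingleton

/-- Hilbert polynomials may be tested on high twists. -/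
theorem chiX_iff [IsClosedImmersion i] {T : Over S} [IsNoetherian S] [IsLocallyNoetherian T.left]
    {Q : (PicF.XT (stF i) T).Modules} (hQ : Coh.IsCoh Q) (Φ : Polynomial ℚ) (a : ℤ) :
    (∀ (t : T.left) (m : ℤ), (chiX i T Q t m : ℚ) = Φ.eval (m : ℚ)) ↔
      HilbCond (stF i) (twX i 1) (Φ.comp (Polynomial.X + Polynomial.C (a : ℚ))) T
        (CohB1.tensorMod Q (FGA.ET (stF i) (twX i a) T)) := by
  let f := stF i
  haveI : IsProper (CohB1.ProjSpaceOver.toBase n S) := BCLib.isProper_toBase n S
  haveI : IsProper (PicF.XTproj f T) := MorphismProperty.pullback_snd (P := @IsProper) _ _ (inferInstance : IsProper f)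
  haveI := isLocallyNoetherian_XT (f := f) (T := T)
  haveI : LocallyOfFinitePresentation (PicF.XTproj f T) := S14008.lfp_of_lft _
  have hco : ∀ b : ℤ, CohB1.IsFP (CohB1.tensorMod Q (FGA.ET f (twX i b) T)) := fun b =>
    QCohLib.isFP_of_isCoh _ (CMRegLib.isCoh_tensor_inv hQ (AmpleLib.isInvertible_pullback _ (isInvertible_twX i b)))
  have hsimp : ∀ (b : ℤ) (k : ℕ), (Φ.comp (Polynomial.X + Polynomial.C (b : ℚ))).eval (k : ℚ) =
      Φ.eval ((b + k : ℤ) : ℚ) := fun b k => by
    rw [Polynomial.eval_comp, Polynomial.eval_add, Polynomial.eval_X, Polynomial.eval_C]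
    push_cast
    rw [add_comm]
  constructor
  · intro h t k
    rw [eul_eq_chiX t a k, h t, hsimp]
  · intro h t m
    let N : ℤ := min a m
    obtain ⟨P, hP⟩ := FlatStrat.exists_poly_eul (PicF.XTproj f T) (hco N)
      (AmpleLib.isInvertible_pullback (pullback.fst f T.hom) (isInvertible_twX i 1)) t
    have hP' : ∀ k : ℕ, P.eval (k : ℚ) = (chiX i T Q t (N + k) : ℚ) := fun k => by rw [← hP, eul_eq_chiX]
    have hPΦ : P = Φ.comp (Polynomial.X + Polynomial.C (N : ℚ)) := by
      refine Polynomial.eq_of_infinite_eval_eq _ _ (Set.Infinite.mono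
        (s := Set.range fun k : ℕ => (((a - N).toNat + k : ℕ) : ℚ)) ?_
        (Set.infinite_range_of_injective fun x y h => by simpa using h))
      rintro _ ⟨k, rfl⟩
      show P.eval _ = _
      rw [hP', hsimp, show N + (((a - N).toNat + k : ℕ) : ℤ) = a + k by omega, ← eul_eq_chiX, h t k, hsimp]
    have := hP' (m - N).toNat
    rw [hPΦ, hsimp, show N + ((m - N).toNat : ℤ) = m by omega] at this
    exact this.symm

end Groth.Agent.QuotRep
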