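import Groth.Agent.GrassShLib.Proper
import Groth.Agent.GrassRepLib.MapEpi
import Groth.Agent.ProjBundleLib.AffinePn
import Groth.Agent.FlatStratLib.Proj

/-!
# Grassmannians of modules coming from the integers are projective
-/

set_option autoImplicit false
set_option backward.isDefEq.respectTransparency false
set_option linter.style.haveILetI false
set_option linter.unusedSectionVars false

universe u

open CategoryTheory CategoryTheory.Limits AlgebraicGeometry Grass
open Groth.Agent.FlagLib Groth.Agent.GrassShLib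

noncomputable section

namespace Groth.Agent.QuotRep

variable {X₀ S T G₀ G' : Scheme.{u}} {g : S ⟶ X₀} {π₀ : G₀ ⟶ X₀} {π' : G' ⟶ S} {k : G' ⟶ G₀}

/-- Base change of a quotient along a composite. -/
theorem qb_comp_pullback {W : X₀.Modules} {U : G₀.Modules} (q₀ : (Scheme.Modules.pullback π₀).obj W ⟶ U)
    (hk : k ≫ π₀ = π' ≫ g) {a : T ⟶ S} {h : T ⟶ G'} (hh : h ≫ π' = a) (hg : (h ≫ k) ≫ π₀ = a ≫ g) :
    qb ((Scheme.Modules.pullbackComp π' g).hom.app W ≫ qb q₀ hk) hh ≫
        (Scheme.Modules.pullbackComp h k).hom.app U =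
      (Scheme.Modules.pullbackComp a g).hom.app W ≫ qb q₀ hg := by
  subst hh
  have h1 := qb_qb q₀ hk (rfl : h ≫ k = h ≫ k) (show h ≫ π' ≫ g = (h ≫ π') ≫ g by rw [Category.assoc]) hg
    (𝟙 ((Scheme.Modules.pullback k).obj U))
  rw [Category.comp_id, qb_rfl (𝟙 ((Scheme.Modules.pullback k).obj U)), (Scheme.Modules.pullback h).map_id] at h1
  erw [Category.comp_id] at h1
  have h2 : qb q₀ hg = qb (qb q₀ hk) (show h ≫ π' ≫ g = (h ≫ π') ≫ g by rw [Category.assoc]) ≫
      (Scheme.Modules.pullbackComp h k).hom.app U := by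
    refine Eq.symm ((congrArg (· ≫ (Scheme.Modules.pullbackComp h k).hom.app U) h1).trans ?_)
    refine (Category.assoc (qb q₀ hg) _ _).trans ?_
    rw [Iso.inv_hom_id_app]
    exact Category.comp_id _
  have h3 := assoc_app h π' g W
  have h4 : (Scheme.Modules.pullbackComp h π').inv.app ((Scheme.Modules.pullback g).obj W) ≫
      (Scheme.Modules.pullback h).map ((Scheme.Modules.pullbackComp π' g).hom.app W) =
      (Scheme.Modules.pullbackComp (h ≫ π') g).hom.app W ≫
        (Scheme.Modules.pullbackCongr (Category.assoc h π' g).symm).inv.app W ≫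
          (Scheme.Modules.pullbackComp h (π' ≫ g)).inv.app W := by
    rw [← cancel_mono ((Scheme.Modules.pullback h).map ((Scheme.Modules.pullbackComp π' g).inv.app W))]
    simp only [Category.assoc]
    rw [h3, Iso.inv_hom_id_app_assoc, Iso.hom_inv_id_app_assoc, ← Functor.map_comp, Iso.hom_inv_id_app]
    simp
  rw [h2]
  simp only [qb, quotBC, Functor.map_comp, Category.assoc]
  rw [reassoc_of% h4]
  simp [Scheme.Modules.pullbackCongr]

theorem isGrass_baseChange (hsq : IsPullback k π' π₀ g) {W : X₀.Modules} {q : ℕ} {U : G₀.Modules}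
    {q₀ : (Scheme.Modules.pullback π₀).obj W ⟶ U} (hG : IsGrass π₀ W q U q₀) :
    IsGrass π' ((Scheme.Modules.pullback g).obj W) q ((Scheme.Modules.pullback k).obj U)
      ((Scheme.Modules.pullbackComp π' g).hom.app W ≫ qb q₀ hsq.w) := by
  haveI := hG.epi
  haveI := epi_qb q₀ hsq.w
  refine ⟨rank_pullback k U hG.rank, epi_comp _ _, fun T a L hL s hs => ?_⟩
  haveI := hs
  let s₀ : (Scheme.Modules.pullback (a ≫ g)).obj W ⟶ L := (Scheme.Modules.pullbackComp a g).inv.app W ≫ s
  obtain ⟨h₀, ⟨hg₀, e, he⟩, huniq⟩ := hG.univ T (a ≫ g) L hL s₀ (epi_comp _ _)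
  let h := hsq.lift h₀ a hg₀
  refine ⟨h, ⟨hsq.lift_snd _ _ _, (Scheme.Modules.pullbackComp h k).app U ≪≫
    (Scheme.Modules.pullbackCongr (hsq.lift_fst h₀ a hg₀)).app U ≪≫ e, ?_⟩, fun h' ⟨hh', e', he'⟩ => ?_⟩
  · have hw : (h ≫ k) ≫ π₀ = a ≫ g := by rw [hsq.lift_fst]; exact hg₀
    simp only [Iso.trans_hom, Iso.app_hom]
    rw [← qb_eq, reassoc_of% (qb_comp_pullback q₀ hsq.w (hsq.lift_snd h₀ a hg₀) hw),
      reassoc_of% (qb_congr q₀ (hsq.lift_fst h₀ a hg₀) hw hg₀), qb_eq, he]
    simp [s₀]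
  · have hw : (h' ≫ k) ≫ π₀ = a ≫ g := by rw [Category.assoc, hsq.w, ← Category.assoc, hh']
    have hkey : h' ≫ k = h₀ := by
      refine huniq _ ⟨hw, ((Scheme.Modules.pullbackComp h' k).app U).symm ≪≫ e', ?_⟩
      simp only [Iso.trans_hom, Iso.symm_hom, Iso.app_inv]
      rw [← cancel_epi ((Scheme.Modules.pullbackComp a g).hom.app W), ← qb_eq,
        ← reassoc_of% (qb_comp_pullback q₀ hsq.w hh' hw), Iso.hom_inv_id_app_assoc, qb_eq, he']
      simp [s₀]
    exact hsq.hom_ext (hkey.trans (hsq.lift_fst _ _ _).symm) (hh'.trans (hsq.lift_snd _ _ _).symm)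

/-- A closed immersion into projective space for a Grassmannian of a quotient of a module from an affine base. -/
theorem exists_closed_grass [IsAffine X₀] [IsLocallyNoetherian X₀] (g : S ⟶ X₀) {W : X₀.Modules} (hW : Coh.IsCoh W)
    {W' : S.Modules} [Coh.IsQCoh W'] (γ : (Scheme.Modules.pullback g).obj W ⟶ W') [Epi γ] {q : ℕ}
    {G : Scheme.{u}} {π : G ⟶ S} {U : G.Modules} {u : (Scheme.Modules.pullback π).obj W' ⟶ U}
    (hG : IsGrass π W' q U u) :
    ∃ (r : ℕ) (c : G ⟶ CohB1.ProjSpaceOver r S), IsClosedImmersion c ∧ c ≫ CohB1.ProjSpaceOver.toBase r S = π := by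
  classical
  haveI := hW.1
  obtain ⟨G₀, π₀, U₀, q₀, hG₀⟩ := GrassShLib.exists_isGrass W hW q
  obtain ⟨L, hq, hft, hL⟩ := exists_isExtPow_isFT W hW.2 q
  haveI := hq
  obtain ⟨P, p, O1, φ, ⟨D⟩⟩ := ProjBundleLib.exists_bundle (E := L) inferInstance
  let hP := isGrass_of_pdata D
  haveI := D.isProper hft
  have hfin := QCohLib.finite_sections L hft (isAffineOpen_top X₀)
  obtain ⟨s, hs⟩ := hfin.fg_top
  let e : Fin (s.card + 1) → Γ(L, ⊤) := Fin.cons 0 fun a => (s.equivFin.symm a : Γ(L, ⊤))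
  obtain ⟨m, i, hi, hip, -⟩ := ProjBundleLib.isRelVeryAmplePn_O1 D e fun v => by
    have hv : v ∈ Submodule.span Γ(X₀, ⊤) (Set.range e) := by
      refine Submodule.span_mono ?_ (hs.ge Submodule.mem_top)
      intro w hw
      exact ⟨(s.equivFin ⟨w, hw⟩).succ, by simp [e]⟩
    exact Submodule.mem_span_range_iff_exists_fun _ |>.1 hv
  haveI := hi
  haveI : IsProper (i ≫ CohB1.ProjSpaceOver.toBase m X₀) := by
    rw [show i ≫ CohB1.ProjSpaceOver.toBase m X₀ = p from hip]; infer_instance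
  haveI : IsProper (CohB1.ProjSpaceOver.toBase m X₀) := BCLib.isProper_toBase m X₀
  haveI : IsProper i := IsProper.of_comp i (CohB1.ProjSpaceOver.toBase m X₀)
  haveI : IsClosedImmersion i := IsClosedImmersion.of_isPreimmersion i (i.isClosedMap.isClosed_range)
  haveI := isClosedImmersion_plMap hG₀ hW.2 hL hP
  let c₀ := plMap hG₀ hW.2 hL hP ≫ i
  have hc₀ : c₀ ≫ CohB1.ProjSpaceOver.toBase m X₀ = π₀ := by
    rw [Category.assoc, show i ≫ CohB1.ProjSpaceOver.toBase m X₀ = p from hip]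
    exact plMap_comp hG₀ hW.2 hL hP
  -- the base change
  let G' := pullback π₀ g
  have hsq := IsPullback.of_hasPullback π₀ g
  have hG' := isGrass_baseChange hsq hG₀
  haveI : Coh.IsQCoh ((Scheme.Modules.pullback g).obj W) := PullbackMod.isQCoh_pullback g W
  haveI := GrassRepLib.isClosedImmersion_mapOfEpi hG' hG γ inferInstance inferInstance
  let c' : G' ⟶ CohB1.ProjSpaceOver m S :=
    (FlatStrat.isPullback_projMap g).lift (pullback.fst π₀ g ≫ c₀) (pullback.snd π₀ g)
      (by rw [Category.assoc, hc₀]; exact pullback.condition)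
  have hc' : c' ≫ CohB1.ProjSpaceOver.toBase m S = pullback.snd π₀ g := IsPullback.lift_snd _ _ _ _
  have hsq' : IsPullback (pullback.fst π₀ g) c' c₀ (FGA.projMap m g) :=
    IsPullback.of_bot (by rw [hc', hc₀]; exact hsq) (IsPullback.lift_fst _ _ _ _).symm
      (FlatStrat.isPullback_projMap g)
  haveI : IsClosedImmersion c' := MorphismProperty.of_isPullback (P := @IsClosedImmersion) hsq' inferInstance
  exact ⟨m, hG'.mapOfEpi hG γ ≫ c', inferInstance, by rw [Category.assoc, hc', Grass.IsGrass.mapOfEpi_comp]⟩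

end Groth.Agent.QuotRep
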