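import Groth.Agent.QuotRepLib.Core
import Groth.Agent.HomFibreLib.Lift
import Groth.Agent.GrassShLib.Kernel
import Groth.Agent.CurveLib.TensorExact
import Groth.Agent.VBLib.Twist
import Groth.Agent.AmpleEmb.Inverse
import Groth.Agent.TwistFlatLib.Flat
import Groth.Agent.CMRegLib.Seq

/-!
# Twisting quotients by an invertible module
-/

set_option autoImplicit false
set_option backward.isDefEq.respectTransparency false
set_option linter.style.haveILetI false
set_option linter.unusedSectionVars false
set_option maxHeartbeats 400000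

universe u

open CategoryTheory CategoryTheory.Limits AlgebraicGeometry
open Groth.Agent.PullbackMod Groth.Agent.DCohLib
open scoped TensorProduct

noncomputable section

namespace Groth.Agent.QuotRep

theorem map_comp_inv_hom {C D : Type*} [Category C] [Category D] (F : C ⥤ D) {A B B' : C} {Z : D} (a : A ⟶ B)
    (i : B' ≅ B) (r : F.obj B ⟶ Z) : F.map a ≫ F.map i.inv ≫ F.map i.hom ≫ r = F.map a ≫ r := by
  rw [← F.map_comp_assoc i.inv, i.inv_hom_id, F.map_id, Category.id_comp]

theorem stalkTensor_tIso {X : Scheme.{u}} {L L' M M' : X.Modules} (e : L ≅ L') (f : M ≅ M') (x : X)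
    (a : L.presheaf.stalk x) (b : M.presheaf.stalk x) :
    stalkLin (AmpleLib.tIso e f).hom x (stalkTensor x L M (a ⊗ₜ b)) =
      stalkTensor x L' M' (stalkLin e.hom x a ⊗ₜ stalkLin f.hom x b) := by
  have h1 := stalkTensor_natural_left x (N := M) e.hom (a ⊗ₜ b)
  rw [LinearMap.rTensor_tmul] at h1
  have h2 := stalkTensor_natural_right x (M := L') f.hom (stalkLin e.hom x a ⊗ₜ b)
  rw [LinearMap.lTensor_tmul] at h2
  have h3 : (AmpleLib.tIso e f).hom =
      ((DCoh.tensorBi (X := X)).map e.hom).app M ≫ ((DCoh.tensorBi (X := X)).obj L').map f.hom := rfl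
  refine (congrArg (fun φ => stalkLin φ x _) h3).trans ?_
  refine (LinearMap.congr_fun (stalkLin_comp _ _ x) _).trans ?_
  exact (congrArg (stalkLin _ x) h1).trans h2

theorem tIso_interchange {Y : Scheme.{u}} {A A' A'' B B' : Y.Modules} (φ : A ⟶ A') (e : A' ≅ A'') (b : B ≅ B') :
    (AmpleLib.tIso (Iso.refl A) b).hom ≫ (CurveLib.tensR B').map (φ ≫ e.hom) =
      (CurveLib.tensR B).map φ ≫ (AmpleLib.tIso e b).hom := by
  show ((((DCoh.tensorBi (X := Y)).map (𝟙 A)).app B) ≫ ((DCoh.tensorBi (X := Y)).obj A).map b.hom) ≫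
      ((DCoh.tensorBi (X := Y)).map (φ ≫ e.hom)).app B' =
    ((DCoh.tensorBi (X := Y)).map φ).app B ≫ ((DCoh.tensorBi (X := Y)).map e.hom).app B ≫
      ((DCoh.tensorBi (X := Y)).obj A'').map b.hom
  simp only [CategoryTheory.Functor.map_id, Functor.map_comp, NatTrans.comp_app, NatTrans.id_app, Category.id_comp,
    Category.assoc, NatTrans.naturality_assoc, NatTrans.naturality]

/-- The comparison for a tensor product is compatible with composition. -/
theorem pullTensor_comp {W U T : Scheme.{u}} (a : W ⟶ U) (t : U ⟶ T) {τ : W ⟶ T} (h : a ≫ t = τ) (L M : T.Modules) :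
    (Scheme.Modules.pullback a).map (AmpleLib.pullTensor t L M).hom ≫
        (AmpleLib.pullTensor a ((Scheme.Modules.pullback t).obj L) ((Scheme.Modules.pullback t).obj M)).hom ≫
        (AmpleLib.tIso ((Scheme.Modules.pullbackComp a t).app L ≪≫ (Scheme.Modules.pullbackCongr h).app L)
          ((Scheme.Modules.pullbackComp a t).app M ≪≫ (Scheme.Modules.pullbackCongr h).app M)).hom =
      ((Scheme.Modules.pullbackComp a t).hom.app (CohB1.tensorMod L M) ≫
        (Scheme.Modules.pullbackCongr h).hom.app (CohB1.tensorMod L M)) ≫ (AmpleLib.pullTensor τ L M).hom := by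
  subst h
  rw [← cancel_epi ((Scheme.Modules.pullbackComp a t).inv.app (CohB1.tensorMod L M))]
  refine HomFibreLib.hom_ext_pullStalk (a ≫ t) fun w z => ?_
  obtain ⟨z, rfl⟩ := (stalkTensor (t (a w)) L M).surjective z
  induction z using TensorProduct.induction_on with
  | zero => simp only [map_zero]
  | tmul x y =>
    have hz := GrassShLib.pullStalk_comp (M := CohB1.tensorMod L M) a t w (stalkTensor (t (a w)) L M (x ⊗ₜ y))
    simp only [Scheme.Modules.pullbackCongr, eqToIso_refl, Iso.refl_hom, NatTrans.id_app, Category.comp_id,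
      Iso.inv_hom_id_app_assoc]
    refine (congrArg (stalkLin _ w) hz.symm).trans ?_
    rw [← LinearMap.comp_apply, ← stalkLin_comp, Iso.hom_inv_id_app_assoc]
    simp only [stalkLin_comp, LinearMap.comp_apply]
    refine Eq.trans ?_ (HomFibreLib.pullTensor_pullStalk (a ≫ t) L M w x y).symm
    have h1 := pullStalk_natural a (AmpleLib.pullTensor t L M).hom w
      (pullStalk t (CohB1.tensorMod L M) (a w) (stalkTensor (t (a w)) L M (x ⊗ₜ y)))
    have h2 := HomFibreLib.pullTensor_pullStalk t L M (a w) x y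
    have h3 := HomFibreLib.pullTensor_pullStalk a ((Scheme.Modules.pullback t).obj L)
      ((Scheme.Modules.pullback t).obj M) w (pullStalk t L (a w) x) (pullStalk t M (a w) y)
    let tI := AmpleLib.tIso ((Scheme.Modules.pullbackComp a t).app L ≪≫ Iso.refl _)
      ((Scheme.Modules.pullbackComp a t).app M ≪≫ Iso.refl _)
    have h4 := congrArg (fun z => pullStalk a (CohB1.tensorMod ((Scheme.Modules.pullback t).obj L)
      ((Scheme.Modules.pullback t).obj M)) w z) h2
    have h5 := h1.trans h4
    have h6 := congrArg (fun z => stalkLin (AmpleLib.pullTensor a ((Scheme.Modules.pullback t).obj L)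
      ((Scheme.Modules.pullback t).obj M)).hom w z) h5
    have h7 := congrArg (fun z => stalkLin tI.hom w z) (h6.trans h3)
    refine (Eq.trans ?_ h7).trans ?_
    · rfl
    refine (stalkTensor_tIso _ _ w _ _).trans ?_
    simp only [Iso.trans_hom, Iso.app_hom, Iso.refl_hom, NatTrans.id_app, Category.comp_id]
    exact congrArg₂ (fun p q => stalkTensor w ((Scheme.Modules.pullback (a ≫ t)).obj L)
      ((Scheme.Modules.pullback (a ≫ t)).obj M) (p ⊗ₜ q)) (GrassShLib.pullStalk_comp (M := L) a t w x)
      (GrassShLib.pullStalk_comp (M := M) a t w y)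
  | add x y hx hy => simp only [map_add, hx, hy]

/-- The comparison for a tensor product is natural in the first variable. -/
theorem pullTensor_natural {U T : Scheme.{u}} (t : U ⟶ T) {L L' : T.Modules} (φ : L ⟶ L') (M : T.Modules) :
    (Scheme.Modules.pullback t).map ((CurveLib.tensR M).map φ) ≫ (AmpleLib.pullTensor t L' M).hom =
      (AmpleLib.pullTensor t L M).hom ≫
        (CurveLib.tensR ((Scheme.Modules.pullback t).obj M)).map ((Scheme.Modules.pullback t).map φ) := by
  refine HomFibreLib.hom_ext_pullStalk t fun w z => ?_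
  obtain ⟨z, rfl⟩ := (stalkTensor (t w) L M).surjective z
  induction z using TensorProduct.induction_on with
  | zero => simp only [map_zero]
  | tmul x y =>
    simp only [stalkLin_comp, LinearMap.comp_apply]
    have h1 := pullStalk_natural t ((CurveLib.tensR M).map φ) w (stalkTensor (t w) L M (x ⊗ₜ y))
    have h2 := stalkTensor_natural_left (t w) (N := M) φ (x ⊗ₜ y)
    rw [LinearMap.rTensor_tmul] at h2
    refine (congrArg (stalkLin _ w) (h1.trans (congrArg _ h2))).trans ?_
    refine (HomFibreLib.pullTensor_pullStalk t L' M w (stalkLin φ (t w) x) y).trans ?_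
    refine Eq.symm ((congrArg (stalkLin _ w) (HomFibreLib.pullTensor_pullStalk t L M w x y)).trans ?_)
    refine (stalkTensor_natural_left w ((Scheme.Modules.pullback t).map φ) _).trans ?_
    rw [LinearMap.rTensor_tmul, pullStalk_natural]
  | add x y hx hy => simp only [map_add, hx, hy]

variable {X S : Scheme.{u}} (f : X ⟶ S) (E M : X.Modules)

/-- The inverse image of a twist. -/
abbrev etTw (T : Over S) : FGA.ET f (CohB1.tensorMod E M) T ≅ CohB1.tensorMod (FGA.ET f E T) (FGA.ET f M T) :=
  AmpleLib.pullTensor (pullback.fst f T.hom) E M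

/-- The twist of a submodule. -/
def twSub (T : Over S) (K : Subobject (FGA.ET f E T)) : Subobject (FGA.ET f (CohB1.tensorMod E M) T) :=
  imageSubobject ((CurveLib.tensR (FGA.ET f M T)).map K.arrow ≫ (etTw f E M T).inv)

variable {f E M}

theorem twSub_image (T : Over S) {A : (PicF.XT f T).Modules} (φ : A ⟶ FGA.ET f E T) :
    twSub f E M T (imageSubobject φ) = imageSubobject ((CurveLib.tensR (FGA.ET f M T)).map φ ≫ (etTw f E M T).inv) := by
  haveI : Epi ((CurveLib.tensR (FGA.ET f M T)).map (factorThruImageSubobject φ)) :=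
    inferInstance
  refine (image_eq_of_epi ((CurveLib.tensR (FGA.ET f M T)).map (factorThruImageSubobject φ)) _ ?_).symm
  rw [← Functor.map_comp_assoc, imageSubobject_arrow_comp]

theorem twSub_natural {T T' : Over S} (g : T' ⟶ T) (K : Subobject (FGA.ET f E T)) :
    FGA.quotPull f (CohB1.tensorMod E M) g (twSub f E M T K) = twSub f E M T' (FGA.quotPull f E g K) := by
  rw [twSub, quotPull_image, FGA.quotPull, twSub_image]
  let pt := AmpleLib.pullTensor (PicF.XTmap f g) ((K : (PicF.XT f T).Modules)) (FGA.ET f M T)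
  let eM : CohB1.tensorMod ((Scheme.Modules.pullback (PicF.XTmap f g)).obj (K : (PicF.XT f T).Modules))
      ((Scheme.Modules.pullback (PicF.XTmap f g)).obj (FGA.ET f M T)) ≅
      CohB1.tensorMod ((Scheme.Modules.pullback (PicF.XTmap f g)).obj (K : (PicF.XT f T).Modules)) (FGA.ET f M T') :=
    AmpleLib.tIso (Iso.refl _) (FGA.ETiso f M g)
  refine image_eq_of_epi (pt.hom ≫ eM.hom) _ ?_
  have hco := pullTensor_comp (PicF.XTmap f g) (pullback.fst f T.hom) (FGA.XTmap_fst f g) E M
  have hna := pullTensor_natural (PicF.XTmap f g) K.arrow (FGA.ET f M T)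
  have hsq := tIso_interchange ((Scheme.Modules.pullback (PicF.XTmap f g)).map K.arrow) (FGA.ETiso f E g) (FGA.ETiso f M g)
  rw [← cancel_mono (etTw f E M T').hom]
  simp only [Category.assoc, Iso.inv_hom_id, Category.comp_id, Functor.map_comp]
  rw [show (FGA.ETiso f (CohB1.tensorMod E M) g).hom ≫ (etTw f E M T').hom =
    (Scheme.Modules.pullback (PicF.XTmap f g)).map (etTw f E M T).hom ≫
      (AmpleLib.pullTensor (PicF.XTmap f g) (FGA.ET f E T) (FGA.ET f M T)).hom ≫
        (AmpleLib.tIso (FGA.ETiso f E g) (FGA.ETiso f M g)).hom from hco.symm]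
  refine (map_comp_inv_hom (Scheme.Modules.pullback (PicF.XTmap f g)) _ (etTw f E M T) _).trans ?_
  refine (reassoc_of% hna) _ |>.trans ?_
  rw [← Functor.map_comp]
  exact congrArg (pt.hom ≫ ·) hsq.symm

variable (hM : PicF.IsInvertible M)
include hM

theorem isEquivalence_tens (T : Over S) : (CurveLib.tensR (FGA.ET f M T)).IsEquivalence := by
  obtain ⟨N, -, ⟨η⟩⟩ := AmpleEmb.exists_isInverseOf (AmpleLib.isInvertible_pullback (pullback.fst f T.hom) hM)
  exact VBLib.isEquivalence_tensR η

theorem nonempty_cokernel_twSub (T : Over S) (K : Subobject (FGA.ET f E T)) :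
    Nonempty (cokernel (twSub f E M T K).arrow ≅ CohB1.tensorMod (cokernel K.arrow) (FGA.ET f M T)) := by
  haveI := isEquivalence_tens (f := f) hM T
  exact ⟨(cokernelEpiComp (factorThruImageSubobject _) _).symm ≪≫
    cokernelIsoOfEq (imageSubobject_arrow_comp _) ≪≫ cokernelCompIsIso _ _ ≪≫
      (PreservesCokernel.iso (CurveLib.tensR (FGA.ET f M T)) K.arrow).symm⟩

theorem twSub_injective (T : Over S) : Function.Injective (twSub f E M T) := by
  haveI := isEquivalence_tens (f := f) hM T
  have key : ∀ K K' : Subobject (FGA.ET f E T), twSub f E M T K ≤ twSub f E M T K' → K ≤ K' := by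
    intro K K' h
    let m := (CurveLib.tensR (FGA.ET f M T)).map K.arrow ≫ (etTw f E M T).inv
    let m' := (CurveLib.tensR (FGA.ET f M T)).map K'.arrow ≫ (etTw f E M T).inv
    have h0 : twSub f E M T K' = Subobject.mk m' := imageSubobject_mono _
    have h1 : twSub f E M T K = Subobject.mk m := imageSubobject_mono _
    rw [h0, h1] at h
    let x := Subobject.ofMkLEMk m m' h
    refine Subobject.le_of_comm ((CurveLib.tensR (FGA.ET f M T)).preimage x) ?_
    apply (CurveLib.tensR (FGA.ET f M T)).map_injective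
    rw [Functor.map_comp, Functor.map_preimage, ← cancel_mono (etTw f E M T).inv, Category.assoc]
    exact Subobject.ofMkLEMk_comp h
  exact fun K K' h => le_antisymm (key K K' h.le) (key K' K h.ge)

theorem twSub_surjective (T : Over S) : Function.Surjective (twSub f E M T) := fun L => by
  haveI := isEquivalence_tens (f := f) hM T
  let F := CurveLib.tensR (FGA.ET f M T)
  let θ := F.objObjPreimageIso (L : (PicF.XT f T).Modules)
  let m : F.objPreimage (L : (PicF.XT f T).Modules) ⟶ FGA.ET f E T :=
    F.preimage (θ.hom ≫ L.arrow ≫ (etTw f E M T).hom)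
  refine ⟨imageSubobject m, ?_⟩
  rw [twSub_image, show (CurveLib.tensR (FGA.ET f M T)).map m = _ from Functor.map_preimage _ _]
  simp only [Category.assoc, Iso.hom_inv_id, Category.comp_id]
  exact (image_eq_of_epi θ.hom _ rfl).trans (by rw [imageSubobject_mono, Subobject.mk_arrow])

/-- The twist of a family of quotients. -/
def qTw [IsProper f] {T : Over S} [IsLocallyNoetherian T.left] (K : FGA.QuotSet f E T) :
    FGA.QuotSet f (CohB1.tensorMod E M) T :=
  ⟨twSub f E M T K.1, by
    haveI := isLocallyNoetherian_XT (f := f) (T := T)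
    have hMT := AmpleLib.isInvertible_pullback (pullback.fst f T.hom) hM
    have hc := CMRegLib.isCoh_tensor_inv K.2.1 hMT
    haveI := K.2.1.1
    haveI : Coh.IsQCoh (DCohLib.tmod (cokernel K.1.arrow) (FGA.ET f M T)) := hc.1
    obtain ⟨e⟩ := nonempty_cokernel_twSub hM T K.1
    exact ⟨TildeOpenLib.isCoh_of_iso' e.symm hc,
      DCohMore.isFlatOver_of_iso _ e.symm (TwistFlat.isFlatOver_tensor _ hMT K.2.2)⟩⟩

theorem qTw_surjective [IsProper f] {T : Over S} [IsLocallyNoetherian T.left]
    (K : FGA.QuotSet f (CohB1.tensorMod E M) T) : ∃ K₀ : FGA.QuotSet f E T, qTw hM K₀ = K := by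
  haveI := isLocallyNoetherian_XT (f := f) (T := T)
  obtain ⟨L, hL⟩ := twSub_surjective hM T K.1
  obtain ⟨e⟩ := nonempty_cokernel_twSub hM T L
  rw [hL] at e
  have hMT := AmpleLib.isInvertible_pullback (pullback.fst f T.hom) hM
  obtain ⟨N, hN, ⟨η⟩⟩ := AmpleEmb.exists_isInverseOf hMT
  let e' : CohB1.tensorMod (cokernel K.1.arrow) N ≅ cokernel L.arrow :=
    AmpleLib.tIso e (Iso.refl _) ≪≫ AmpleLib.assoc _ _ _ ≪≫ AmpleLib.tIso (Iso.refl _) η ≪≫ AmpleLib.unitR _
  have hc := CMRegLib.isCoh_tensor_inv K.2.1 hN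
  haveI := K.2.1.1
  haveI : Coh.IsQCoh (DCohLib.tmod (cokernel K.1.arrow) N) := hc.1
  exact ⟨⟨L, TildeOpenLib.isCoh_of_iso' e' hc,
    DCohMore.isFlatOver_of_iso _ e' (TwistFlat.isFlatOver_tensor _ hN K.2.2)⟩, Subtype.ext hL⟩

end Groth.Agent.QuotRep
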