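import Groth.Agent.QuotRepLib.ProjAmb
import Groth.Agent.QuotRepLib.ProjGrass
import Groth.Agent.QuotRepLib.ProjChi
import Groth.Agent.QuotRepLib.Twist
import Groth.Agent.QuotRepLib.Closed
import Groth.Agent.SerreAff.Basic
import Groth.Agent.AmpleEmb.RelVanish

/-!
# Quot schemes with a fixed Hilbert polynomial are projective
-/

set_option autoImplicit false
set_option backward.isDefEq.respectTransparency false
set_option linter.style.haveILetI false
set_option linter.unusedSectionVars false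

universe u

open CategoryTheory CategoryTheory.Limits AlgebraicGeometry

noncomputable section

namespace Groth.Agent.QuotRep

variable {n : ℕ} {S X : Scheme.{u}}

theorem twistOver_pow (n : ℕ) (S : Scheme.{u}) (k : ℕ) :
    Nonempty (CohB1.tensorPow (Twist.twistOver n S 1) k ≅ Twist.twistOver n S k) :=
  (nonempty_twX_pow (𝟙 (CohB1.ProjSpaceOver n S)) k).map fun e =>
    AmpleLib.powCongr ((Scheme.Modules.pullbackId _).app _).symm k ≪≫ e ≪≫ (Scheme.Modules.pullbackId _).app _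

theorem isRelAmple_twX [IsNoetherian S] (i : X ⟶ CohB1.ProjSpaceOver n S) [IsClosedImmersion i] :
    RelAmple.IsRelAmple (stF i) (twX i 1) := by
  haveI : IsProper (CohB1.ProjSpaceOver.toBase n S) := BCLib.isProper_toBase n S
  refine ⟨inferInstance, fun V => ?_⟩
  exact AmpleEmb.ampleOn_of_isRelVeryAmplePn (stF i) ⟨n, i, inferInstance, rfl, ⟨Iso.refl _⟩⟩ V.2

/-- Restriction to a closed subscheme is surjective. -/
theorem exists_epi_unit {Y Z : Scheme.{u}} (i : Z ⟶ Y) [IsClosedImmersion i] (F : Y.Modules) :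
    ∃ v : F ⟶ (Scheme.Modules.pushforward i).obj
      (CohB1.tensorMod (Coh.structureModule Z) ((Scheme.Modules.pullback i).obj F)), Epi v := by
  haveI := SerreAff.epi_unitToPush i
  haveI : Epi ((CurveLib.tensR F).map (ClSub.unitToPush i)) := inferInstance
  haveI h2 : Epi (((DCoh.tensorBi (X := Y)).map (ClSub.unitToPush i)).app F) := this
  refine ⟨(AmpleLib.unitL F).inv ≫ ((DCoh.tensorBi (X := Y)).map (ClSub.unitToPush i)).app F ≫
    (DCohLib.projIso i (Coh.structureModule Z) F).hom, ?_⟩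
  exact @epi_comp _ _ _ _ _ _ inferInstance _ (@epi_comp _ _ _ _ _ _ h2 _ inferInstance)

/-- A module on a closed subscheme generated by twisted sections is a quotient of the direct image of a free module. -/
theorem exists_beta [IsNoetherian S] (i : X ⟶ CohB1.ProjSpaceOver n S) [IsClosedImmersion i] {E : X.Modules}
    (hE : Coh.IsCoh E) (p : ℕ) (ν : ℤ) (q : (∐ fun _ : Fin p => twX i ν) ⟶ E) [Epi q] :
    ∃ β : FlatMod.freeMod (CohB1.ProjSpaceOver n S) p ⟶
      (Scheme.Modules.pushforward i).obj (CohB1.tensorMod E (twX i (-ν))), Epi β := by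
  haveI : IsProper (CohB1.ProjSpaceOver.toBase n S) := BCLib.isProper_toBase n S
  let P := CohB1.ProjSpaceOver n S
  haveI : IsLocallyNoetherian P := LocallyOfFiniteType.isLocallyNoetherian (CohB1.ProjSpaceOver.toBase n S)
  haveI : IsLocallyNoetherian X := LocallyOfFiniteType.isLocallyNoetherian i
  have hE₀ : Coh.IsCoh (CohB1.tensorMod E (twX i (-ν))) := CMRegLib.isCoh_tensor_inv hE (isInvertible_twX i _)
  obtain ⟨e⟩ := nonempty_twX_mul i (show ν + -ν = 0 by ring)
  obtain ⟨e0⟩ := nonempty_twX_zero i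
  haveI : PreservesFiniteCoproducts (CurveLib.tensR (twX i (-ν))) := inferInstance
  let a : FlatMod.freeMod X p ≅ (CurveLib.tensR (twX i (-ν))).obj (∐ fun _ : Fin p => twX i ν) :=
    Sigma.mapIso (fun _ => (e ≪≫ e0).symm) ≪≫
      (PreservesCoproduct.iso (CurveLib.tensR (twX i (-ν))) fun _ : Fin p => twX i ν).symm
  let β' : (Scheme.Modules.pullback i).obj (FlatMod.freeMod P p) ⟶ CohB1.tensorMod E (twX i (-ν)) :=
    (DCohLib.pullFreeIso i p ≪≫ a).hom ≫ (CurveLib.tensR (twX i (-ν))).map q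
  haveI : Epi β' := epi_comp _ _
  have hpf : Coh.IsCoh ((Scheme.Modules.pullback i).obj (FlatMod.freeMod P p)) :=
    PullbackMod.isCoh_pullback i _ (isCoh_freeMod' P p)
  let b := (AmpleLib.unitL ((Scheme.Modules.pullback i).obj (FlatMod.freeMod P p))).hom ≫ β'
  haveI : Epi b := epi_comp _ _
  haveI : IsAffineHom i := inferInstance
  have hq : Coh.IsQCoh (CohB1.tensorMod (Coh.structureModule X) ((Scheme.Modules.pullback i).obj (FlatMod.freeMod P p))) :=
    (TildeOpenLib.isCoh_of_iso' (AmpleLib.unitL _).symm hpf).1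
  haveI : Epi ((Scheme.Modules.pushforward i).map b) := DCohMore.epi_push_of_qcoh (f := i) hq hE₀.1 b
  obtain ⟨v, hv⟩ := exists_epi_unit i (FlatMod.freeMod P p)
  exact ⟨v ≫ (Scheme.Modules.pushforward i).map b, epi_comp _ _⟩

/-- The kernel of a twist. -/
theorem nonempty_kernel_tensR {Y : Scheme.{u}} {A B : Y.Modules} (φ : A ⟶ B) [Epi φ] {L : Y.Modules}
    (hL : PicF.IsInvertible L) :
    Nonempty (kernel ((CurveLib.tensR L).map φ) ≅ CohB1.tensorMod (kernel φ) L) :=
  ⟨((CurveLib.shortExact_tensR (CMRegLib.shortExact_ker φ) fun x =>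
    CurveLib.freeAt_one_of_isInvertible hL x).fIsKernel.conePointUniqueUpToIso (limit.isLimit _)).symm⟩

/-- The Quot scheme of a Hilbert polynomial on a closed subscheme of projective space is projective. -/
theorem exists_quot_proj [IsNoetherian S] (i : X ⟶ CohB1.ProjSpaceOver n S) [IsClosedImmersion i] {E : X.Modules}
    (hE : Coh.IsCoh E) (p : ℕ) (ν : ℤ) (q : (∐ fun _ : Fin p => twX i ν) ⟶ E) [Epi q] (Φ : Polynomial ℚ) :
    ∃ (Q : Over S) (K : FGA.QuotSet (stF i) E Q),
      IsLocallyNoetherian Q.left ∧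
      (∀ (t : Q.left) (m : ℤ), (chiX i Q (cokernel K.1.arrow) t m : ℚ) = Φ.eval (m : ℚ)) ∧
      (∀ (T : Over S) [IsLocallyNoetherian T.left] (K' : FGA.QuotSet (stF i) E T),
        (∀ (t : T.left) (m : ℤ), (chiX i T (cokernel K'.1.arrow) t m : ℚ) = Φ.eval (m : ℚ)) →
        ∃! g : T ⟶ Q, FGA.quotPull (stF i) E g K.1 = K'.1) ∧
      ∃ (r : ℕ) (c : Q.left ⟶ CohB1.ProjSpaceOver r S),
        IsClosedImmersion c ∧ c ≫ CohB1.ProjSpaceOver.toBase r S = Q.hom := by
  let π := CohB1.ProjSpaceOver.toBase n S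
  let P := CohB1.ProjSpaceOver n S
  let f := stF i
  haveI : IsProper π := BCLib.isProper_toBase n S
  haveI : IsLocallyNoetherian P := LocallyOfFiniteType.isLocallyNoetherian π
  haveI : IsLocallyNoetherian X := LocallyOfFiniteType.isLocallyNoetherian i
  obtain ⟨β₀, hβ₀⟩ := exists_beta i hE p ν q
  haveI := hβ₀
  have hE₀ : Coh.IsCoh (CohB1.tensorMod E (twX i (-ν))) := CMRegLib.isCoh_tensor_inv hE (isInvertible_twX i _)
  have hC : Coh.IsCoh (kernel β₀) := (QCohLib.isCoh_kernel_cokernel β₀ (isCoh_freeMod' P p)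
    (DevLib.isCoh_pushforward_closed i hE₀)).1
  haveI : HasInjectiveResolutions P.Modules := inferInstance
  obtain ⟨N, hN⟩ := AmpleEmb.exists_isZero_rpush_tensorPow π (GenSeesawLib.isInvertible_twistOver n S 1)
    FlatStrat.ampleOn_twist hC
  let Φ₁ := Φ.comp (Polynomial.X - Polynomial.C (ν : ℚ))
  obtain ⟨m₀, hm₀⟩ := exists_regular_bound.{u} n p Φ₁
  let d := m₀ + N
  let M := twX i ((d : ℤ) - ν)
  have hM : PicF.IsInvertible M := isInvertible_twX i _
  let E₁ := CohB1.tensorMod E M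
  have hE₁ : Coh.IsCoh E₁ := CMRegLib.isCoh_tensor_inv hE hM
  obtain ⟨eM⟩ := nonempty_twX_mul i (show -ν + (d : ℤ) = (d : ℤ) - ν by ring)
  have hd := GenSeesawLib.isInvertible_twistOver n S (d : ℤ)
  let t := (CurveLib.tensR (Twist.twistOver n S (d : ℤ))).map β₀
  let ψ : CohB1.tensorMod ((Scheme.Modules.pushforward i).obj (CohB1.tensorMod E (twX i (-ν))))
      (Twist.twistOver n S (d : ℤ)) ≅ (Scheme.Modules.pushforward i).obj E₁ :=
    DCohLib.projIso i (CohB1.tensorMod E (twX i (-ν))) (Twist.twistOver n S (d : ℤ)) ≪≫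
      (Scheme.Modules.pushforward i).mapIso (AmpleLib.assoc _ _ _ ≪≫ AmpleLib.tIso (Iso.refl E) eM)
  let β : ambMod n p d S ⟶ (Scheme.Modules.pushforward i).obj E₁ := t ≫ ψ.hom
  haveI : Epi β := epi_comp _ _
  have hamb := amb_proj (S := S) hm₀ (show m₀ ≤ d by omega)
  let qn := ⌊Φ₁.eval (d : ℚ)⌋.toNat
  let Φ' := Φ₁.comp (Polynomial.X + Polynomial.C (d : ℚ))
  have hΦ' : Φ' = Φ.comp (Polynomial.X + Polynomial.C ((((d : ℤ) - ν) : ℤ) : ℚ)) := by
    simp only [Φ', Φ₁, Polynomial.comp_assoc, Polynomial.sub_comp, Polynomial.X_comp, Polynomial.C_comp]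
    push_cast
    rw [map_sub, Polynomial.C_eq_intCast]
    congr 1
    ring
  have hgood : ∀ (T : Over S) [IsLocallyNoetherian T.left] (K : FGA.QuotSet f E₁ T),
      HilbCond f (twX i 1) Φ' T (cokernel K.1.arrow) → Good f E₁ qn T K.1 := fun T _ K hK =>
    good_of_amb i π isCoh_ambMod (GenSeesawLib.isInvertible_twistOver n S 1) hE₁ β hamb T K hK
  obtain ⟨Q, K₁, G, πG, U, w, e, hG, hπG, hei, heq, heπ, hQn, hK₁, huniv⟩ :=
    representable (f := f) (E := E₁) (L := twX i 1) (Φ := Φ') hE₁ (isRelAmple_twX i) qn hgood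
  haveI := hπG; haveI := hei; haveI := heq; haveI := hQn
  haveI : IsClosedImmersion e :=
    isClosedImmersion_of_universal hE₁ (isInvertible_twX i 1) Q K₁ hK₁ πG e heπ huniv
  -- transfer along the twist
  have htr : ∀ (T : Over S) [IsLocallyNoetherian T.left] (K : FGA.QuotSet f E T),
      HilbCond f (twX i 1) Φ' T (cokernel (qTw hM K).1.arrow) ↔
        ∀ (t : T.left) (m : ℤ), (chiX i T (cokernel K.1.arrow) t m : ℚ) = Φ.eval (m : ℚ) := by
    intro T _ K
    obtain ⟨ec⟩ := nonempty_cokernel_twSub (f := f) hM T K.1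
    rw [chiX_iff K.2.1 Φ ((d : ℤ) - ν), ← hΦ']
    exact ⟨hilbCond_iso ec, hilbCond_iso ec.symm⟩
  obtain ⟨K₀, hK₀⟩ := qTw_surjective hM K₁
  refine ⟨Q, K₀, hQn, (htr Q K₀).1 (by rw [hK₀]; exact hK₁), fun T _ K' hK' => ?_, ?_⟩
  · obtain ⟨g, hg, hu⟩ := huniv T (qTw hM K') ((htr T K').2 hK')
    have key : ∀ g : T ⟶ Q, FGA.quotPull f E₁ g K₁.1 = (qTw hM K').1 ↔ FGA.quotPull f E g K₀.1 = K'.1 := fun g => by
      rw [← hK₀]
      show FGA.quotPull f E₁ g (twSub f E M Q K₀.1) = twSub f E M T K'.1 ↔ _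
      rw [twSub_natural]
      exact ⟨fun h => twSub_injective hM T h, fun h => congrArg _ h⟩
    exact ⟨g, (key g).1 hg, fun g' hg' => hu g' ((key g').2 hg')⟩
  -- the embedding
  let Z := Spec (CommRingCat.of (ULift.{u} ℤ))
  haveI : IsNoetherianRing (ULift.{u} ℤ) := isNoetherianRing_of_ringEquiv ℤ ULift.ringEquiv.symm
  haveI : IsLocallyNoetherian Z := inferInstance
  haveI : IsNoetherian Z := { }
  let g₀ : S ⟶ Z := specULiftZIsTerminal.from S
  let πZ := CohB1.ProjSpaceOver.toBase n Z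
  haveI : IsProper πZ := BCLib.isProper_toBase n Z
  haveI := GenSeesawLib.lfp_toBase n Z
  haveI : IsLocallyNoetherian (CohB1.ProjSpaceOver n Z) := LocallyOfFiniteType.isLocallyNoetherian πZ
  haveI : Coh.IsQCoh (ambMod n p d Z) := (isCoh_ambMod (n := n) (p := p) (d := d) (S := Z)).1
  have hWZ : Coh.IsCoh ((Scheme.Modules.pushforward πZ).obj (ambMod n p d Z)) := RpushLib.isCoh_push πZ isCoh_ambMod
  haveI := isIso_bc0_ambMod (p := p) (d := d) (FlatStrat.isPullback_projMap (n := n) g₀)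
  let ea : (Scheme.Modules.pullback (FGA.projMap n g₀)).obj (ambMod n p d Z) ≅ ambMod n p d S :=
    AmpleLib.pullTensor _ _ _ ≪≫ AmpleLib.tIso (DCohLib.pullFreeIso _ p) (FlatStrat.pullTwist g₀ (d : ℤ))
  obtain ⟨ek⟩ := nonempty_kernel_tensR β₀ hd
  obtain ⟨eo⟩ := twistOver_pow n S d
  haveI : Epi ((Scheme.Modules.pushforward π).map t) := by
    refine SpSeqLib.epi_map_of_isZero_rightDerived_one (S := Scheme.Modules.pushforward π) (CMRegLib.shortExact_ker t) ?_
    exact (hN d (by omega) 1 one_pos).of_iso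
      ((Coh.Rpush π 1).mapIso (ek ≪≫ AmpleLib.tIso (Iso.refl _) eo.symm))
  let γ : (Scheme.Modules.pullback g₀).obj ((Scheme.Modules.pushforward πZ).obj (ambMod n p d Z)) ⟶ Wd f E₁ :=
    CohBC.bc0 πZ g₀ π (FGA.projMap n g₀) (FlatStrat.isPullback_projMap g₀).w (ambMod n p d Z) ≫
      (Scheme.Modules.pushforward π).map ea.hom ≫ (Scheme.Modules.pushforward π).map t ≫
        (Scheme.Modules.pushforward π).map ψ.hom ≫ pushTwo (iT := i) (π' := π) rfl E₁
  haveI : Epi γ := epi_comp' inferInstance (epi_comp' inferInstance (epi_comp' inferInstance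
    (epi_comp' inferInstance inferInstance)))
  haveI := hE₁.1
  haveI : Coh.IsQCoh (Wd f E₁) := (RpushLib.isCoh_push f hE₁).1
  obtain ⟨r, c, hc, hcπ⟩ := exists_closed_grass g₀ hWZ γ hG
  haveI := hc
  exact ⟨r, e ≫ c, inferInstance, by rw [Category.assoc, hcπ, heπ]⟩

end Groth.Agent.QuotRep
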