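import Groth.Agent.QuotRepLib.Sheaf
import Groth.Agent.QuotRepLib.Closed
import Groth.Agent.FlatStratLib.Reduce
import Mathlib.AlgebraicGeometry.Limits

/-!
# The Quot scheme as the disjoint union over all Hilbert polynomials
-/

set_option autoImplicit false
set_option backward.isDefEq.respectTransparency false
set_option linter.style.haveILetI false
set_option linter.unusedSectionVars false

universe u

open CategoryTheory CategoryTheory.Limits AlgebraicGeometry

noncomputable section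

namespace Groth.Agent.QuotRep

variable {X S : Scheme.{u}} {f : X ⟶ S} {E L : X.Modules}

/-- Over an empty scheme there is only one submodule. -/
theorem subobject_eq_of_isEmpty {T : Over S} [IsEmpty T.left] (K K' : Subobject (FGA.ET f E T)) : K = K' :=
  quot_ext f E (σ := PEmpty.{u + 1}) (U := fun i => i.elim) (fun i => i.elim) (fun x => isEmptyElim x) fun i => i.elim

/-- A Hilbert polynomial is unique. -/
theorem hilbCond_unique {Φ Φ' : Polynomial ℚ} {T : Over S} [Nonempty T.left] {Q : (PicF.XT f T).Modules}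
    (h : HilbCond f L Φ T Q) (h' : HilbCond f L Φ' T Q) : Φ = Φ' := by
  obtain ⟨t⟩ := ‹Nonempty T.left›
  refine Polynomial.eq_of_infinite_eval_eq _ _ (Set.Infinite.mono (s := Set.range fun k : ℕ => (k : ℚ)) ?_
    (Set.infinite_range_of_injective Nat.cast_injective))
  rintro _ ⟨k, rfl⟩
  exact (h t k).symm.trans (h' t k)

/-- The open subscheme of the base of a family. -/
abbrev openOver (T : Over S) (U : T.left.Opens) : Over S := Over.mk (U.ι ≫ T.hom)

/-- Its inclusion. -/
abbrev openIncl (T : Over S) (U : T.left.Opens) : openOver T U ⟶ T := Over.homMk U.ι rfl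

/-- A family has a Hilbert polynomial near each point. -/
theorem exists_hilbCond_nhd [IsProper f] [IsNoetherian S] (hL : PicF.IsInvertible L) {T : Over S}
    [IsLocallyNoetherian T.left] (K : FGA.QuotSet f E T) (t : T.left) :
    ∃ (U : T.left.Opens) (Φ : Polynomial ℚ), t ∈ U ∧
      HilbCond f L Φ (openOver T U) (cokernel (qPull f E (openIncl T U) K).1.arrow) := by
  haveI : IsProper (PicF.XTproj f T) := MorphismProperty.pullback_snd (P := @IsProper) _ _ ‹_›
  haveI : LocallyOfFinitePresentation (PicF.XTproj f T) := S14008.lfp_of_lft _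
  haveI := isLocallyNoetherian_XT (f := f) (T := T)
  have hFP := QCohLib.isFP_of_isCoh _ K.2.1
  obtain ⟨Φ, hΦ⟩ := FlatStrat.exists_poly_eul (PicF.XTproj f T) hFP (AmpleLib.isInvertible_pullback _ hL) t
  obtain ⟨U, htU, hU⟩ := S7761.result _ T.left (PicF.XTproj f T) _ hFP K.2.2 1
    (fun _ => FGA.ET f L T) (fun _ => AmpleLib.isInvertible_pullback _ hL) t
  refine ⟨U, Φ, htU, hilbCond_iso (nonempty_cokernel_quotPull f E (openIncl T U) K.1).some.symm fun y m => ?_⟩
  rw [eul_XTmap (openIncl T U) hFP hL y, ← hΦ m]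
  exact congrArg (fun z : ℤ => (z : ℚ)) (hU _ y.2 fun _ => m)

theorem quotPull_congr {T T' : Over S} {g g' : T' ⟶ T} (h : g = g') (K : Subobject (FGA.ET f E T)) :
    FGA.quotPull f E g K = FGA.quotPull f E g' K := by subst h; rfl

/-- The Quot scheme from its pieces. -/
theorem exists_union [IsProper f] [IsNoetherian S] (hE : Coh.IsCoh E) (hL : PicF.IsInvertible L)
    (R : Over S → Prop)
    (hpiece : ∀ Φ : Polynomial ℚ, ∃ (Q : Over S) (K : FGA.QuotSet f E Q), IsLocallyNoetherian Q.left ∧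
      HilbCond f L Φ Q (cokernel K.1.arrow) ∧ R Q ∧
      ∀ (T : Over S) [IsLocallyNoetherian T.left] (K' : FGA.QuotSet f E T),
        HilbCond f L Φ T (cokernel K'.1.arrow) → ∃! g : T ⟶ Q, FGA.quotPull f E g K.1 = K'.1) :
    ∃ (Q : Over S) (K : FGA.QuotSet f E Q), FGA.QuotRepresentedBy f E Q K ∧
      ∃ (ι : Type u) (P : ι → Scheme.{u}) (e : (∐ P) ≅ Q.left),
        ∀ a, ∃ h : P a ⟶ S, h = Sigma.ι P a ≫ e.hom ≫ Q.hom ∧ R (Over.mk h) := by
  choose Qp Kp hQn hKp hR huniv using hpiece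
  let σ := ULift.{u} (Polynomial ℚ)
  let P : σ → Scheme.{u} := fun a => (Qp a.down).left
  let Q : Over S := Over.mk (Sigma.desc fun a : σ => (Qp a.down).hom)
  let g : ∀ a : σ, Qp a.down ⟶ Q := fun a => Over.homMk (Sigma.ι P a) (Sigma.ι_desc _ a)
  haveI : ∀ a, IsOpenImmersion (g a).left := fun a => inferInstanceAs (IsOpenImmersion (Sigma.ι P a))
  let 𝒰 : (∐ P).OpenCover := (sigmaOpenCover P)
  have hcov : ∀ x : Q.left, ∃ a y, (g a).left y = x := fun x => by
    obtain ⟨y, hy⟩ := 𝒰.covers x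
    exact ⟨_, y, hy⟩
  have hdisj : ∀ (a b : σ) (x : P a) (y : P b), (g a).left x = (g b).left y → a = b := fun a b x y h => by
    by_contra hne
    have hd := eq_bot_iff.1 (disjoint_iff.1 (disjoint_opensRange_sigmaι P a b hne))
    exact hd (show (g a).left x ∈ (Sigma.ι P a).opensRange ⊓ (Sigma.ι P b).opensRange from ⟨⟨x, rfl⟩, ⟨y, h.symm⟩⟩)
  haveI hQln : IsLocallyNoetherian Q.left := by
    refine (isLocallyNoetherian_iff_openCover 𝒰).2 fun a => hQn _
  haveI : ∀ Φ, IsLocallyNoetherian (Qp Φ).left := hQn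
  obtain ⟨K, hK⟩ := quot_glue f E g hcov hE (fun a => Kp a.down) fun a b V p q hpq => by
    cases isEmpty_or_nonempty V.left with
    | inl h => exact subobject_eq_of_isEmpty _ _
    | inr h =>
      obtain ⟨v⟩ := h
      obtain rfl : a = b := hdisj a b (p.left v) (q.left v) (congrArg (fun z : V ⟶ Q => z.left v) hpq)
      exact quotPull_congr (Over.OverMorphism.ext ((cancel_mono (g a).left).1 (congrArg CommaMorphism.left hpq))) _
  refine ⟨Q, K, ⟨hQln, fun T _ K' => ?_⟩, σ, P, Iso.refl _, fun a => ⟨(Qp a.down).hom, ?_, hR _⟩⟩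
  swap
  · simp [Q, P]
  choose U Φ htU hUΦ using exists_hilbCond_nhd (E := E) hL K'
  have hUn : ∀ t, IsLocallyNoetherian (openOver T (U t)).left := fun t =>
    isLocallyNoetherian_of_isOpenImmersion (U t).ι
  choose h hh huh using fun t => huniv (Φ t) (openOver T (U t)) (qPull f E (openIncl T (U t)) K') (hUΦ t)
  -- a family with a polynomial only maps to that piece
  have hone : ∀ (V : Over S) [IsLocallyNoetherian V.left] (v : V ⟶ T) (t : T.left),
      (∀ y, v.left y ∈ U t) → ∀ w : V ⟶ Q, FGA.quotPull f E w K.1 = FGA.quotPull f E v K'.1 →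
      ∀ y : V.left, ∃ z, (g ⟨Φ t⟩).left z = w.left y := by
    intro V _ v t hv w hw y
    obtain ⟨b, z, hz⟩ := hcov (w.left y)
    suffices hb : b = ⟨Φ t⟩ by subst hb; exact ⟨z, hz⟩
    let O : V.left.Opens := w.left ⁻¹ᵁ (g b).left.opensRange
    have hyO : y ∈ O := ⟨z, hz⟩
    let W := openOver V O
    haveI : IsLocallyNoetherian W.left := isLocallyNoetherian_of_isOpenImmersion O.ι
    haveI : Nonempty W.left := ⟨⟨y, hyO⟩⟩
    let o := openIncl V O
    let p : W ⟶ Qp b.down := Over.homMk (IsOpenImmersion.lift (g b).left (O.ι ≫ w.left) (by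
        rintro _ ⟨x, rfl⟩; exact x.2)) (by
      show IsOpenImmersion.lift _ _ _ ≫ (Qp b.down).hom = O.ι ≫ V.hom
      rw [← Over.w (g b), IsOpenImmersion.lift_fac_assoc, Category.assoc, Over.w w])
    have hp : p ≫ g b = o ≫ w := Over.OverMorphism.ext (IsOpenImmersion.lift_fac _ _ _)
    let p' : W ⟶ openOver T (U t) := Over.homMk (IsOpenImmersion.lift (U t).ι (O.ι ≫ v.left) (by
        rintro _ ⟨x, rfl⟩; exact ⟨⟨_, hv _⟩, rfl⟩)) (by
      show IsOpenImmersion.lift _ _ _ ≫ (U t).ι ≫ T.hom = O.ι ≫ V.hom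
      rw [IsOpenImmersion.lift_fac_assoc, Category.assoc, Over.w v])
    have hp' : p' ≫ openIncl T (U t) = o ≫ v := Over.OverMorphism.ext (IsOpenImmersion.lift_fac _ _ _)
    have h1 := hilbCond_qPull hL p (Kp b.down) (hKp b.down)
    have h2 := hilbCond_qPull hL p' (qPull f E (openIncl T (U t)) K') (hUΦ t)
    have he : (qPull f E p (Kp b.down)).1 = (qPull f E p' (qPull f E (openIncl T (U t)) K')).1 := by
      show FGA.quotPull f E p (Kp b.down).1 = FGA.quotPull f E p' (FGA.quotPull f E (openIncl T (U t)) K'.1)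
      rw [← hK b, quotPull_comp, quotPull_comp, quotPull_congr hp, quotPull_congr hp', ← quotPull_comp,
        ← quotPull_comp, hw]
    rw [he] at h1
    exact ULift.ext _ _ (hilbCond_unique h1 h2)
  have hloc : ∀ (V : Over S) [IsLocallyNoetherian V.left] (v : V ⟶ T) (t : T.left) (hv : ∀ y, v.left y ∈ U t)
      (w : V ⟶ Q), FGA.quotPull f E w K.1 = FGA.quotPull f E v K'.1 →
      ∀ v' : V ⟶ openOver T (U t), v' ≫ openIncl T (U t) = v → w = v' ≫ h t ≫ g ⟨Φ t⟩ := by
    intro V _ v t hv w hw v' hv'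
    let p : V ⟶ Qp (Φ t) := Over.homMk (IsOpenImmersion.lift (g ⟨Φ t⟩).left w.left (by
        rintro _ ⟨y, rfl⟩; exact hone V v t hv w hw y)) (by
      show IsOpenImmersion.lift _ _ _ ≫ (Qp (Φ t)).hom = V.hom
      rw [← Over.w (g ⟨Φ t⟩), IsOpenImmersion.lift_fac_assoc, Over.w w])
    have hp : p ≫ g ⟨Φ t⟩ = w := Over.OverMorphism.ext (IsOpenImmersion.lift_fac _ _ _)
    have he : p = v' ≫ h t := by
      refine (huniv (Φ t) V (qPull f E v' (qPull f E (openIncl T (U t)) K'))
        (hilbCond_qPull hL v' _ (hUΦ t))).unique ?_ ?_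
      · show _ = FGA.quotPull f E v' (FGA.quotPull f E (openIncl T (U t)) K'.1)
        rw [quotPull_comp, quotPull_congr hv', ← hw, ← quotPull_congr hp, ← quotPull_comp, hK]
      · show _ = FGA.quotPull f E v' _
        rw [← quotPull_comp, hh t]
    rw [← hp, he, Category.assoc]
  let 𝒱 := T.left.openCoverOfIsOpenCover U (.mk (top_le_iff.1 fun x _ => TopologicalSpace.Opens.mem_iSup.2 ⟨x, htU x⟩))
  have hG : ∀ t, FGA.quotPull f E (h t ≫ g ⟨Φ t⟩) K.1 = FGA.quotPull f E (openIncl T (U t)) K'.1 := fun t => by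
    rw [← quotPull_comp, hK, hh t]
    rfl
  let w₀ : T.left ⟶ Q.left := 𝒱.glueMorphisms (fun t => (h t ≫ g ⟨Φ t⟩).left) fun s t => by
    let V : Over S := Over.mk (pullback.fst (U s).ι (U t).ι ≫ (U s).ι ≫ T.hom)
    let a : V ⟶ openOver T (U s) := Over.homMk (pullback.fst _ _) rfl
    let b : V ⟶ openOver T (U t) := Over.homMk (pullback.snd (U s).ι (U t).ι) (by
      show pullback.snd _ _ ≫ (U t).ι ≫ T.hom = pullback.fst (U s).ι (U t).ι ≫ (U s).ι ≫ T.hom
      rw [← pullback.condition_assoc])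
    haveI : IsLocallyNoetherian V.left := isLocallyNoetherian_of_isOpenImmersion (pullback.fst (U s).ι (U t).ι)
    have hab : a ≫ openIncl T (U s) = b ≫ openIncl T (U t) := Over.OverMorphism.ext pullback.condition
    have hk := hloc V (b ≫ openIncl T (U t)) t (fun y => (b.left y).2) (a ≫ h s ≫ g ⟨Φ s⟩)
      (by rw [← quotPull_comp, hG, quotPull_comp, quotPull_congr hab]) b rfl
    exact congrArg CommaMorphism.left hk
  have hw₀ : ∀ t, (U t).ι ≫ w₀ = (h t ≫ g ⟨Φ t⟩).left := fun t => 𝒱.ι_glueMorphisms _ _ t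
  let w : T ⟶ Q := Over.homMk w₀ (by
    apply 𝒱.hom_ext
    intro t
    exact (reassoc_of% (hw₀ t)) _ |>.trans (Over.w (h t ≫ g ⟨Φ t⟩)))
  have hwt : ∀ t, openIncl T (U t) ≫ w = h t ≫ g ⟨Φ t⟩ := fun t => Over.OverMorphism.ext (hw₀ t)
  refine ⟨w, ?_, fun w' hw' => ?_⟩
  · haveI : ∀ t, IsOpenImmersion (openIncl T (U t)).left := fun t => inferInstanceAs (IsOpenImmersion (U t).ι)
    refine quot_ext f E (fun t => openIncl T (U t)) (fun x => ⟨x, ⟨x, htU x⟩, rfl⟩) fun t => ?_
    rw [quotPull_comp, quotPull_congr (hwt t)]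
    exact hG t
  · refine Over.OverMorphism.ext (𝒱.hom_ext _ _ fun t => ?_)
    have := hloc (openOver T (U t)) (openIncl T (U t)) t (fun y => y.2) (openIncl T (U t) ≫ w')
      (by rw [← quotPull_comp, hw']) (𝟙 _) (Category.id_comp _)
    rw [Category.id_comp, ← hwt t] at this
    exact congrArg CommaMorphism.left this

end Groth.Agent.QuotRep
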