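import Groth.Agent.QuotRepLib.Main
import Groth.Agent.QuotRepLib.Union

/-!
# Quot schemes of closed subschemes of projective space
-/

set_option autoImplicit false
set_option backward.isDefEq.respectTransparency false
set_option linter.style.haveILetI false
set_option linter.unusedSectionVars false

universe u

open CategoryTheory CategoryTheory.Limits AlgebraicGeometry

noncomputable section

namespace Groth.Agent.QuotRep

variable {n : ℕ} {S X : Scheme.{u}}

theorem chiX_iff_hilbCond [IsNoetherian S] (i : X ⟶ CohB1.ProjSpaceOver n S) [IsClosedImmersion i] {T : Over S}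
    [IsLocallyNoetherian T.left] {Q : (PicF.XT (stF i) T).Modules} (hQ : Coh.IsCoh Q) (Φ : Polynomial ℚ) :
    (∀ (t : T.left) (m : ℤ), (chiX i T Q t m : ℚ) = Φ.eval (m : ℚ)) ↔ HilbCond (stF i) (twX i 1) Φ T Q := by
  haveI : IsProper (CohB1.ProjSpaceOver.toBase n S) := BCLib.isProper_toBase n S
  obtain ⟨e0⟩ := nonempty_twX_zero i
  let e : CohB1.tensorMod Q (FGA.ET (stF i) (twX i 0) T) ≅ Q :=
    AmpleLib.tIso (Iso.refl Q) ((Scheme.Modules.pullback (pullback.fst (stF i) T.hom)).mapIso e0 ≪≫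
      DCohLib.pullStructureIso _) ≪≫ AmpleLib.unitR Q
  rw [chiX_iff hQ Φ 0, show Φ.comp (Polynomial.X + Polynomial.C (((0 : ℤ) : ℚ))) = Φ by simp]
  exact ⟨hilbCond_iso e, hilbCond_iso e.symm⟩

/-- The Quot scheme is a disjoint union of projective schemes. -/
theorem exists_quot_union [IsNoetherian S] (i : X ⟶ CohB1.ProjSpaceOver n S) [IsClosedImmersion i] {E : X.Modules}
    (hE : Coh.IsCoh E) (p : ℕ) (ν : ℤ) (q : (∐ fun _ : Fin p => twX i ν) ⟶ E) [Epi q] :
    ∃ (Q : Over S) (K : FGA.QuotSet (stF i) E Q), FGA.QuotRepresentedBy (stF i) E Q K ∧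
      ∃ (ι : Type u) (P : ι → Scheme.{u}) (e : (∐ P) ≅ Q.left) (m : ι → ℕ)
        (c : ∀ a, P a ⟶ CohB1.ProjSpaceOver (m a) S),
        ∀ a, IsClosedImmersion (c a) ∧
          c a ≫ CohB1.ProjSpaceOver.toBase (m a) S = Sigma.ι P a ≫ e.hom ≫ Q.hom := by
  haveI : IsProper (CohB1.ProjSpaceOver.toBase n S) := BCLib.isProper_toBase n S
  obtain ⟨Q, K, hQ, ι, P, e, h⟩ := exists_union (f := stF i) hE (isInvertible_twX i 1)
    (fun P => ∃ (r : ℕ) (c : P.left ⟶ CohB1.ProjSpaceOver r S),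
      IsClosedImmersion c ∧ c ≫ CohB1.ProjSpaceOver.toBase r S = P.hom) fun Φ => by
    obtain ⟨Q, K, hQn, hK, hu, hc⟩ := exists_quot_proj i hE p ν q Φ
    haveI := hQn
    exact ⟨Q, K, hQn, (chiX_iff_hilbCond i K.2.1 Φ).1 hK, hc, fun T _ K' hK' =>
      hu T K' ((chiX_iff_hilbCond i K'.2.1 Φ).2 hK')⟩
  choose h' hh' hR using h
  choose m c hc hcp using hR
  exact ⟨Q, K, hQ, ι, P, e, m, c, fun a => ⟨hc a, (hcp a).trans (hh' a)⟩⟩

/-- Transfer of a Quot scheme along an equality of structure morphisms. -/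
theorem exists_union_congr {f f' : X ⟶ S} (h : f = f') {E : X.Modules}
    (H : ∃ (Q : Over S) (K : FGA.QuotSet f E Q), FGA.QuotRepresentedBy f E Q K ∧
      ∃ (ι : Type u) (P : ι → Scheme.{u}) (e : (∐ P) ≅ Q.left) (m : ι → ℕ)
        (c : ∀ a, P a ⟶ CohB1.ProjSpaceOver (m a) S),
        ∀ a, IsClosedImmersion (c a) ∧
          c a ≫ CohB1.ProjSpaceOver.toBase (m a) S = Sigma.ι P a ≫ e.hom ≫ Q.hom) :
    ∃ (Q : Over S) (K : FGA.QuotSet f' E Q), FGA.QuotRepresentedBy f' E Q K ∧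
      ∃ (ι : Type u) (P : ι → Scheme.{u}) (e : (∐ P) ≅ Q.left) (m : ι → ℕ)
        (c : ∀ a, P a ⟶ CohB1.ProjSpaceOver (m a) S),
        ∀ a, IsClosedImmersion (c a) ∧
          c a ≫ CohB1.ProjSpaceOver.toBase (m a) S = Sigma.ι P a ≫ e.hom ≫ Q.hom := by
  subst h
  exact H

end Groth.Agent.QuotRep
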