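import Groth.Agent.QuotRepLib.Basic
import Groth.Agent.GrassShLib.Props

/-!
# The submodule attached to a quotient of the direct image
-/

set_option autoImplicit false
set_option backward.isDefEq.respectTransparency false
set_option linter.style.haveILetI false
set_option linter.unusedSectionVars false

universe u

open CategoryTheory CategoryTheory.Limits AlgebraicGeometry TopologicalSpace Opposite Grass
open Groth.Agent.FlagLib Groth.Agent.GrassShLib

noncomputable section

namespace Groth.Agent.QuotRep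

variable {X S : Scheme.{u}} (f : X ⟶ S) (E : X.Modules)

/-- The direct image whose quotients are parametrised. -/
abbrev Wd : S.Modules := (Scheme.Modules.pushforward f).obj E

/-- The base change map to `X_T`. -/
def vT (T : Over S) :
    (Scheme.Modules.pullback T.hom).obj (Wd f E) ⟶ (Scheme.Modules.pushforward (PicF.XTproj f T)).obj (FGA.ET f E T) :=
  CohBC.bc0 f T.hom (PicF.XTproj f T) (pullback.fst f T.hom) pullback.condition E

theorem bc0_congr_eq {Y' S' : Scheme.{u}} {h : Y' ⟶ S'} {g₁ g₂ : S' ⟶ S} {k₁ k₂ : Y' ⟶ X} (hg : g₁ = g₂)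
    (hk : k₁ = k₂) (w₁ : k₁ ≫ f = h ≫ g₁) (w₂ : k₂ ≫ f = h ≫ g₂) :
    CohBC.bc0 f g₁ h k₁ w₁ E ≫ (Scheme.Modules.pushforward h).map ((Scheme.Modules.pullbackCongr hk).hom.app E) =
      (Scheme.Modules.pullbackCongr hg).hom.app (Wd f E) ≫ CohBC.bc0 f g₂ h k₂ w₂ E := by
  subst hg hk
  simp [Scheme.Modules.pullbackCongr]

variable {f E}

theorem vT_map {T T' : Over S} (a : T' ⟶ T) :
    (Scheme.Modules.pullback a.left).map (vT f E T) ≫
        CohBC.bc0 (PicF.XTproj f T) a.left (PicF.XTproj f T') (PicF.XTmap f a) (XTmap_proj f a) (FGA.ET f E T) ≫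
        (Scheme.Modules.pushforward (PicF.XTproj f T')).map (FGA.ETiso f E a).hom =
      (Scheme.Modules.pullbackComp a.left T.hom).hom.app (Wd f E) ≫
        (Scheme.Modules.pullbackCongr (Over.w a)).hom.app (Wd f E) ≫ vT f E T' := by
  have w : (PicF.XTmap f a ≫ pullback.fst f T.hom) ≫ f = PicF.XTproj f T' ≫ a.left ≫ T.hom := by
    rw [Category.assoc, pullback.condition, ← Category.assoc, XTmap_proj f a, Category.assoc]
  have h := FlatStrat.bc0_comp (pullback.condition (f := f) (g := T.hom)) (XTmap_proj f a) w E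
  have h' := bc0_congr_eq f E (Over.w a) (FGA.XTmap_fst f a) w pullback.condition
  change _ = (Scheme.Modules.pullback a.left).map (vT f E T) ≫ _ at h
  have hE : (FGA.ETiso f E a).hom = (Scheme.Modules.pullbackComp (PicF.XTmap f a) (pullback.fst f T.hom)).hom.app E ≫
      (Scheme.Modules.pullbackCongr (FGA.XTmap_fst f a)).hom.app E := rfl
  rw [hE, Functor.map_comp]
  refine Eq.trans ?_ ((congrArg (· ≫ (Scheme.Modules.pushforward (PicF.XTproj f T')).map
    ((Scheme.Modules.pullbackCongr (FGA.XTmap_fst f a)).hom.app E)) h.symm).trans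
    ((Category.assoc _ _ _).trans (congrArg ((Scheme.Modules.pullbackComp a.left T.hom).hom.app (Wd f E) ≫ ·) h')))
  simp only [Category.assoc]

variable {q : ℕ}

variable (f E) in
/-- The submodule of `E_T` generated by the kernel of a quotient of the direct image. -/
def sub (T : Over S) (D : QData (Wd f E) q T.hom) : Subobject (FGA.ET f E T) :=
  imageSubobject (((Scheme.Modules.pullbackPushforwardAdjunction (PicF.XTproj f T)).homEquiv _ _).symm
    (kernel.ι D.s ≫ vT f E T))

theorem sub_congr {T : Over S} {D D' : QData (Wd f E) q T.hom} (h : D.cls = D'.cls) : sub f E T D = sub f E T D' := by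
  haveI := D.epi
  haveI := D'.epi
  obtain ⟨e, he⟩ := exists_iso_of_kerS_eq D.s D'.s (congrArg Subtype.val h)
  let k : kernel D.s ⟶ kernel D'.s := kernel.lift _ (kernel.ι D.s) (by rw [← he, kernel.condition_assoc, zero_comp])
  haveI : IsIso k := ⟨kernel.lift _ (kernel.ι D'.s)
    (by rw [← cancel_mono e.hom, Category.assoc, he, kernel.condition, zero_comp]),
    by rw [← cancel_mono (kernel.ι D.s)]; simp [k], by rw [← cancel_mono (kernel.ι D'.s)]; simp [k]⟩
  have hk : kernel.ι D.s ≫ vT f E T = k ≫ kernel.ι D'.s ≫ vT f E T := by simp [k]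
  refine (image_congr (congrArg _ hk)).trans ?_
  exact image_eq_of_epi _ _ (Adjunction.homEquiv_naturality_left_symm _ _ _)

theorem qb_kernel_exists {T T' : Scheme.{u}} {g : T ⟶ S} {g' : T' ⟶ S} {W : S.Modules}
    (D : QData W q g) (a : T' ⟶ T) (ha : a ≫ g = g') :
    ∃ k : (Scheme.Modules.pullback a).obj (kernel D.s) ⟶ kernel (D.bc a ha).s, Epi k ∧
      k ≫ kernel.ι (D.bc a ha).s = (Scheme.Modules.pullback a).map (kernel.ι D.s) ≫
        (Scheme.Modules.pullbackComp a g).hom.app W ≫ (Scheme.Modules.pullbackCongr ha).hom.app W := by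
  haveI := D.epi
  haveI : (Scheme.Modules.pullback a).IsLeftAdjoint :=
    (Scheme.Modules.pullbackPushforwardAdjunction a).isLeftAdjoint
  let c := (Scheme.Modules.pullback a).map (kernel.ι D.s) ≫
    (Scheme.Modules.pullbackComp a g).hom.app W ≫ (Scheme.Modules.pullbackCongr ha).hom.app W
  have hc : c ≫ (D.bc a ha).s = 0 := by
    show ((Scheme.Modules.pullback a).map (kernel.ι D.s) ≫ _ ≫ _) ≫ qb D.s ha = 0
    simp [qb, quotBC, ← Functor.map_comp]
  refine ⟨kernel.lift _ c hc, ?_, kernel.lift_ι _ _ _⟩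
  let S₀ := ShortComplex.mk (kernel.ι D.s) D.s (kernel.condition _)
  have hl := CokernelCofork.mapIsColimit _
    (Abelian.epiIsCokernelOfKernel (KernelFork.ofι (kernel.ι D.s) (kernel.condition _)) (kernelIsKernel D.s))
    (Scheme.Modules.pullback a)
  have hex : (S₀.map (Scheme.Modules.pullback a)).Exact := ShortComplex.exact_of_g_is_cokernel _ hl
  refine (ShortComplex.exact_iff_epi_kernel_lift (ShortComplex.mk c (D.bc a ha).s hc)).1 ?_
  refine (ShortComplex.exact_iff_of_iso ?_).1 hex
  exact ShortComplex.isoMk (Iso.refl _) ((Scheme.Modules.pullbackComp a g).app W ≪≫ (Scheme.Modules.pullbackCongr ha).app W)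
    (Iso.refl _) (by simp [S₀, c]) (by
      show ((Scheme.Modules.pullbackComp a g).app W ≪≫ (Scheme.Modules.pullbackCongr ha).app W).hom ≫ qb D.s ha = _
      simp [qb, quotBC, S₀])

/-- The construction commutes with pullback. -/
theorem quotPull_sub {T T' : Over S} (a : T' ⟶ T) (D : QData (Wd f E) q T.hom) :
    FGA.quotPull f E a (sub f E T D) = sub f E T' (D.bc a.left (Over.w a)) := by
  obtain ⟨k, hk, hkι⟩ := qb_kernel_exists D a.left (Over.w a)
  haveI := hk
  rw [sub, quotPull_image, image_pullback_transpose (XTmap_proj f a)]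
  have : (Scheme.Modules.pullback a.left).map (kernel.ι D.s ≫ vT f E T) ≫
      CohBC.bc0 (PicF.XTproj f T) a.left (PicF.XTproj f T') (PicF.XTmap f a) (XTmap_proj f a) (FGA.ET f E T) ≫
        (Scheme.Modules.pushforward (PicF.XTproj f T')).map (FGA.ETiso f E a).hom =
      k ≫ kernel.ι (D.bc a.left (Over.w a)).s ≫ vT f E T' := by
    rw [Functor.map_comp, Category.assoc, vT_map a, reassoc_of% hkι]
  refine (image_congr (congrArg _ this)).trans ?_
  exact image_eq_of_epi _ _ (Adjunction.homEquiv_naturality_left_symm _ _ _)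

end Groth.Agent.QuotRep
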