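import Groth.Agent.HilbObsLib.Cocycle
import Groth.Agent.GenBCLib.BCMain
import Groth.Agent.GenBCLib.Comp
import Groth.Agent.GenBCLib.Deg0
import Groth.Agent.FlatStratLib.BC
import Groth.Agent.PullbackMod.GenPSp
import Groth.Agent.TildeOpenLib.Basic
import Groth.Prelude.Def_FGA

/-!
# Submodules cut out by maps to direct images
-/

set_option autoImplicit false
set_option backward.isDefEq.respectTransparency false
set_option linter.style.haveILetI false
set_option linter.unusedSectionVars false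

universe u

open CategoryTheory CategoryTheory.Limits AlgebraicGeometry TopologicalSpace Opposite
open Groth.Agent.PullbackMod Groth.Agent.GenBCLib

noncomputable section

namespace Groth.Agent.QuotRep

variable {X S : Scheme.{u}} (f : X ⟶ S) (E : X.Modules)

theorem XTmap_comp {T T' T'' : Over S} (g' : T'' ⟶ T') (g : T' ⟶ T) :
    PicF.XTmap f g' ≫ PicF.XTmap f g = PicF.XTmap f (g' ≫ g) := by
  apply pullback.hom_ext <;> simp [PicF.XTmap, pullback.map]

theorem XTmap_proj {T T' : Over S} (g : T' ⟶ T) :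
    PicF.XTmap f g ≫ PicF.XTproj f T = PicF.XTproj f T' ≫ g.left := by
  simp [PicF.XTmap, PicF.XTproj, pullback.map]

theorem quotPull_comp {T T' T'' : Over S} (g' : T'' ⟶ T') (g : T' ⟶ T) (K : Subobject (FGA.ET f E T)) :
    FGA.quotPull f E g' (FGA.quotPull f E g K) = FGA.quotPull f E (g' ≫ g) K :=
  HilbObsLib.quotPull_comp f E g' g (XTmap_comp f g' g) K

theorem quotPull_image {T T' : Over S} (g : T' ⟶ T) {A : (PicF.XT f T).Modules} (φ : A ⟶ FGA.ET f E T) :
    FGA.quotPull f E g (imageSubobject φ) =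
      imageSubobject ((Scheme.Modules.pullback (PicF.XTmap f g)).map φ ≫ (FGA.ETiso f E g).hom) := by
  have h : (Scheme.Modules.pullback (PicF.XTmap f g)).map φ ≫ (FGA.ETiso f E g).hom =
      (Scheme.Modules.pullback (PicF.XTmap f g)).map (factorThruImageSubobject φ) ≫
        ((Scheme.Modules.pullback (PicF.XTmap f g)).map (imageSubobject φ).arrow ≫ (FGA.ETiso f E g).hom) := by
    rw [← Category.assoc, ← Functor.map_comp, imageSubobject_arrow_comp]
  refine Eq.trans ?_ (congrArg (fun z => imageSubobject z) h).symm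
  exact (HilbObsLib.imageSubobject_of_epi _ _).symm

theorem image_eq_of_epi {C : Type*} [Category C] [Abelian C] {A A' B : C} {x : A ⟶ B} (e : A ⟶ A') [Epi e]
    (y : A' ⟶ B) (h : x = e ≫ y) : imageSubobject x = imageSubobject y := by
  subst h
  exact HilbObsLib.imageSubobject_of_epi e y

theorem image_congr {C : Type*} [Category C] [Abelian C] {A B : C} {x y : A ⟶ B} (h : x = y) :
    imageSubobject x = imageSubobject y := by
  subst h
  rfl

/-- The cokernel of a pulled back submodule is the pulled back cokernel. -/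
theorem nonempty_cokernel_quotPull {T T' : Over S} (g : T' ⟶ T) (K : Subobject (FGA.ET f E T)) :
    Nonempty (cokernel (FGA.quotPull f E g K).arrow ≅
      (Scheme.Modules.pullback (PicF.XTmap f g)).obj (cokernel K.arrow)) := by
  let F := (Scheme.Modules.pullback (PicF.XTmap f g)).map K.arrow ≫ (FGA.ETiso f E g).hom
  have hcomm : (Scheme.Modules.pullback (PicF.XTmap f g)).map K.arrow ≫ (FGA.ETiso f E g).hom =
      factorThruImageSubobject F ≫ (imageSubobject F).arrow := (imageSubobject_arrow_comp F).symm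
  obtain ⟨i₁⟩ := HilbObsLib.nonempty_cokernel_iso (FGA.ETiso f E g) hcomm
  exact ⟨i₁.symm ≪≫ (PreservesCokernel.iso (Scheme.Modules.pullback (PicF.XTmap f g)) K.arrow).symm⟩

theorem isPullback_XTmap {T T' : Over S} (g : T' ⟶ T) :
    IsPullback (PicF.XTmap f g) (PicF.XTproj f T') (PicF.XTproj f T) g.left :=
  PullbackMod.isPullback_XTmap f g

/-- Pulling back an element of the Quot functor. -/
def qPull {T T' : Over S} (g : T' ⟶ T) (K : FGA.QuotSet f E T) : FGA.QuotSet f E T' :=
  haveI := K.2.1.1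
  ⟨FGA.quotPull f E g K.1,
    TildeOpenLib.isCoh_of_iso' (nonempty_cokernel_quotPull f E g K.1).some.symm
      (PullbackMod.isCoh_pullback _ _ K.2.1),
    fun w => PullbackMod.isFlatOverAt_of_iso (nonempty_cokernel_quotPull f E g K.1).some.symm _ w
      (PullbackMod.isFlatOverAt_baseChange (isPullback_XTmap f g) _ w (K.2.2 _))⟩

theorem qPull_val {T T' : Over S} (g : T' ⟶ T) (K : FGA.QuotSet f E T) :
    (qPull f E g K).1 = FGA.quotPull f E g K.1 := rfl

theorem imageSubobject_le_iff {C : Type*} [Category C] [Abelian C] {A B : C} (φ : A ⟶ B) (K : Subobject B) :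
    imageSubobject φ ≤ K ↔ φ ≫ cokernel.π K.arrow = 0 := by
  constructor
  · intro h
    rw [← imageSubobject_arrow_comp φ, ← Subobject.ofLE_arrow h, Category.assoc, Category.assoc,
      cokernel.condition, comp_zero, comp_zero]
  · intro h
    exact imageSubobject_le φ ((Abelian.monoLift K.arrow φ h)) (Abelian.monoLift_comp K.arrow φ h)

section transpose

variable {P U V W : Scheme.{u}} {π : P ⟶ U} {a : W ⟶ U} {π' : V ⟶ W} {a' : V ⟶ P}

/-- The transpose of a map to a direct image, pulled back. -/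
theorem exists_transpose (w : a' ≫ π = π' ≫ a) {A : U.Modules} {M : P.Modules}
    (φ : A ⟶ (Scheme.Modules.pushforward π).obj M) :
    ∃ e : (Scheme.Modules.pullback π').obj ((Scheme.Modules.pullback a).obj A) ⟶
        (Scheme.Modules.pullback a').obj ((Scheme.Modules.pullback π).obj A), IsIso e ∧
      e ≫ (Scheme.Modules.pullback a').map
          (((Scheme.Modules.pullbackPushforwardAdjunction π).homEquiv _ _).symm φ) =
        ((Scheme.Modules.pullbackPushforwardAdjunction π').homEquiv _ _).symm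
          ((Scheme.Modules.pullback a).map φ ≫ CohBC.bc0 π a π' a' w M) := by
  let c₁ := (Scheme.Modules.pullbackComp π' a).app A
  let c₂ := (Scheme.Modules.pullbackComp a' π).app A
  let c₃ := (Scheme.Modules.pullbackCongr w.symm).app A
  refine ⟨c₁.hom ≫ c₃.hom ≫ c₂.inv, inferInstance, ?_⟩
  let α := ((Scheme.Modules.pullbackPushforwardAdjunction π).homEquiv _ _).symm φ
  let β := ((Scheme.Modules.pullbackPushforwardAdjunction π').homEquiv _ _).symm
    ((Scheme.Modules.pullback a).map φ ≫ CohBC.bc0 π a π' a' w M)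
  suffices key : c₃.hom ≫ c₂.inv ≫ (Scheme.Modules.pullback a').map α = c₁.inv ≫ β by
    rw [Category.assoc, Category.assoc, key, Iso.hom_inv_id_assoc]
  refine pullback_hom_ext (π' ≫ a) fun O m y hy => ⟨O, le_rfl, hy, ?_⟩
  generalize A.presheaf.map (homOfLE (le_refl O)).op m = s
  have le := CohCmp.sqLE π a π' a' w O
  have h₁ : c₁.inv.app ((π' ≫ a) ⁻¹ᵁ O) (pullMap (π' ≫ a) A le_rfl s) =
      pullMap π' _ (le_refl (π' ⁻¹ᵁ (a ⁻¹ᵁ O))) (pullMap a A (le_refl (a ⁻¹ᵁ O)) s) := by
    refine (congrArg (c₁.inv.app ((π' ≫ a) ⁻¹ᵁ O))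
      (pullMap_comp π' a A (le_refl (a ⁻¹ᵁ O)) (le_refl (π' ⁻¹ᵁ (a ⁻¹ᵁ O))) le_rfl s).symm).trans ?_
    exact congr($(c₁.hom_inv_id).app _ _)
  have h₃ : c₃.hom.app ((π' ≫ a) ⁻¹ᵁ O) (pullMap (π' ≫ a) A le_rfl s) =
      pullMap (a' ≫ π) A (show (π' ≫ a) ⁻¹ᵁ O ≤ (a' ≫ π) ⁻¹ᵁ O from le) s := by
    clear h₁
    have h : ∀ {k k' : V ⟶ U} (e : k = k') (l : k ⁻¹ᵁ O ≤ k' ⁻¹ᵁ O),
        ((Scheme.Modules.pullbackCongr e).app A).hom.app (k ⁻¹ᵁ O) (pullMap k A le_rfl s) = pullMap k' A l s := by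
      rintro k _ rfl l; rfl
    exact h _ _
  have h₂ : c₂.inv.app ((π' ≫ a) ⁻¹ᵁ O)
        (pullMap (a' ≫ π) A (show (π' ≫ a) ⁻¹ᵁ O ≤ (a' ≫ π) ⁻¹ᵁ O from le) s) =
      pullMap a' _ le (pullMap π A (le_refl (π ⁻¹ᵁ O)) s) := by
    refine (congrArg (c₂.inv.app ((π' ≫ a) ⁻¹ᵁ O))
      (pullMap_comp a' π A (le_refl (π ⁻¹ᵁ O)) le _ s).symm).trans ?_
    exact congr($(c₂.hom_inv_id).app _ _)
  have hL : α.app (π ⁻¹ᵁ O) (pullMap π A (le_refl (π ⁻¹ᵁ O)) s) = (show Γ(M, π ⁻¹ᵁ O) from φ.app O s) := by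
    refine (transpose_pullMap π φ _ s).trans ?_
    rw [show (homOfLE (le_refl (π ⁻¹ᵁ O))).op = 𝟙 _ from Subsingleton.elim _ _, CategoryTheory.Functor.map_id]
    rfl
  have hR : β.app (π' ⁻¹ᵁ (a ⁻¹ᵁ O)) (pullMap π' _ (le_refl (π' ⁻¹ᵁ (a ⁻¹ᵁ O))) (pullMap a A (le_refl (a ⁻¹ᵁ O)) s)) =
      pullMap a' M le (show Γ(M, π ⁻¹ᵁ O) from φ.app O s) := by
    refine (transpose_pullMap' π' _ _ _ (pullMap a' M le (show Γ(M, π ⁻¹ᵁ O) from φ.app O s)) ?_).trans ?_
    · simp only [Scheme.Modules.Hom.comp_app, ConcreteCategory.comp_apply]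
      rw [pullMap_natural a φ]
      exact bc0_pullMap w M le_rfl le _
    · rw [show (homOfLE (le_refl (π' ⁻¹ᵁ (a ⁻¹ᵁ O)))).op = 𝟙 _ from Subsingleton.elim _ _,
        CategoryTheory.Functor.map_id]
      rfl
  simp only [Scheme.Modules.Hom.comp_app, ConcreteCategory.comp_apply]
  rw [h₃, h₂]
  refine Eq.trans ?_ (hR.symm.trans (congrArg (β.app _) h₁.symm))
  exact (pullMap_natural a' α le _).trans (congrArg (pullMap a' M le) hL)

theorem image_pullback_transpose (w : a' ≫ π = π' ≫ a) {A : U.Modules} {M : P.Modules} {N : V.Modules}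
    (φ : A ⟶ (Scheme.Modules.pushforward π).obj M) (i : (Scheme.Modules.pullback a').obj M ⟶ N) :
    imageSubobject ((Scheme.Modules.pullback a').map
        (((Scheme.Modules.pullbackPushforwardAdjunction π).homEquiv _ _).symm φ) ≫ i) =
      imageSubobject (((Scheme.Modules.pullbackPushforwardAdjunction π').homEquiv _ _).symm
        ((Scheme.Modules.pullback a).map φ ≫ CohBC.bc0 π a π' a' w M ≫ (Scheme.Modules.pushforward π').map i)) := by
  obtain ⟨e, he, hcomm⟩ := exists_transpose w φ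
  haveI := he
  rw [← Category.assoc ((Scheme.Modules.pullback a).map φ),
    Adjunction.homEquiv_naturality_right_symm, ← hcomm, Category.assoc]
  exact (HilbObsLib.imageSubobject_of_epi _ _).symm

end transpose

end Groth.Agent.QuotRep
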