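import Groth.Agent.HilbObsLib.Ideal

/-!
# Inverse images of ideals as images of submodules
-/

set_option autoImplicit false
set_option backward.isDefEq.respectTransparency false
set_option linter.style.haveILetI false

universe u

open CategoryTheory CategoryTheory.Limits AlgebraicGeometry TopologicalSpace Opposite
open Groth.Agent.PullbackMod Groth.Agent.DCohLib Groth.Agent.ParaFLib Groth.Agent.HilbObsLib

noncomputable section

namespace Groth.Agent.QuotRep

variable {Z W : Scheme.{u}} {M : Z.Modules} (v : Coh.structureModule Z ≅ M)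

/-- Pulling back along any morphism is inverse image of ideals. -/
theorem imageSubobject_pull_idSub_any (j : W ⟶ Z) {M' : W.Modules}
    (v' : Coh.structureModule W ≅ M') (t : (Scheme.Modules.pullback j).obj M ≅ M') (I : Z.IdealSheafData) :
    imageSubobject ((Scheme.Modules.pullback j).map (idSub v I).arrow ≫ t.hom) = idSub v' (I.comap j) := by
  let F := (Scheme.Modules.pullback j).map (idSub v I).arrow ≫ t.hom
  let θ : ∀ w, M.presheaf.stalk (j w) →+ M'.presheaf.stalk w := fun w =>
    (stalkLin t.hom w).toAddMonoidHom.comp (pullStalk j M w)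
  have hθs : ∀ w r m, θ w (r • m) = j.stalkMap w r • θ w m := fun w r m => by
    show stalkLin t.hom w (pullStalk j M w (r • m)) = j.stalkMap w r • stalkLin t.hom w (pullStalk j M w m)
    rw [pullStalk_smul, map_smul]
  have hunit : ∀ w, ∃ c, IsUnit c ∧ θ w (gen v (j w)) = c • gen v' w := fun w => by
    obtain ⟨c, hc⟩ := (bijective_gen v' w).2 (θ w (gen v (j w)))
    obtain ⟨y, hy⟩ := ((isIso_iff_stalk t.hom).1 inferInstance w).2 (gen v' w)
    obtain ⟨a, ha⟩ : ∃ a : W.presheaf.stalk w, stalkLin t.hom w y = a • θ w (gen v (j w)) := by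
      clear hy
      letI : Algebra (Z.presheaf.stalk (j w)) (W.presheaf.stalk w) := (j.stalkMap w).hom.toAlgebra
      letI := Module.compHom (((Scheme.Modules.pullback j).obj M).presheaf.stalk w) (j.stalkMap w).hom
      haveI : IsScalarTower (Z.presheaf.stalk (j w)) (W.presheaf.stalk w)
          (((Scheme.Modules.pullback j).obj M).presheaf.stalk w) := .of_algebraMap_smul fun _ _ => rfl
      have hbc : IsBaseChange (W.presheaf.stalk w) (pullStalkL j M w) := isBaseChange_pullStalkL' j M w
      induction y using hbc.inductionOn with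
      | zero => exact ⟨0, by rw [map_zero, zero_smul]⟩
      | tmul y' =>
        obtain ⟨r, rfl⟩ := (bijective_gen v (j w)).2 y'
        exact ⟨j.stalkMap w r, hθs w r _⟩
      | smul a y hy =>
        obtain ⟨b, hb⟩ := hy
        exact ⟨a • b, by rw [map_smul, hb, smul_smul, smul_eq_mul]⟩
      | add y y' hy hy' =>
        obtain ⟨b, hb⟩ := hy
        obtain ⟨b', hb'⟩ := hy'
        exact ⟨b + b', by rw [map_add, hb, hb', add_smul]⟩
    refine ⟨c, IsUnit.of_mul_eq_one_right a ((bijective_gen v' w).1 ?_), hc.symm⟩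
    show (a * c) • gen v' w = (1 : W.presheaf.stalk w) • gen v' w
    rw [mul_smul, show c • gen v' w = θ w (gen v (j w)) from hc, one_smul, ← ha]
    exact hy
  have hF : ∀ w n, stalkLin F w (pullStalk j _ w n) = θ w (stalkLin (idSub v I).arrow (j w) n) :=
    fun w n => by
      rw [stalkLin_comp, LinearMap.comp_apply, pullStalk_natural]
      rfl
  refine le_antisymm (le_of_stalk _ _ fun w n => ?_) (le_of_stalk _ _ fun w n => ?_)
  · obtain ⟨y, rfl⟩ := (epi_iff_stalk (factorThruImageSubobject F)).1 inferInstance w n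
    letI : Algebra (Z.presheaf.stalk (j w)) (W.presheaf.stalk w) := (j.stalkMap w).hom.toAlgebra
    let N : Z.Modules := (idSub v I : Subobject M)
    letI := Module.compHom (((Scheme.Modules.pullback j).obj N).presheaf.stalk w) (j.stalkMap w).hom
    haveI : IsScalarTower (Z.presheaf.stalk (j w)) (W.presheaf.stalk w)
        (((Scheme.Modules.pullback j).obj N).presheaf.stalk w) := .of_algebraMap_smul fun _ _ => rfl
    have hbc : IsBaseChange (W.presheaf.stalk w) (pullStalkL j N w) := isBaseChange_pullStalkL' j N w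
    induction y using hbc.inductionOn with
    | zero => exact ⟨0, by rw [map_zero, map_zero, map_zero]⟩
    | tmul n' =>
      show ∃ m, _ = stalkLin _ w (stalkLin _ w (pullStalk j N w n'))
      obtain ⟨r, hr⟩ := (bijective_gen v (j w)).2 (stalkLin (idSub v I).arrow (j w) n')
      have hmem := (mem_range_idSub v I (j w) r).1 ⟨n', hr.symm⟩
      obtain ⟨c, -, hc⟩ := hunit w
      obtain ⟨m, hm⟩ := (mem_range_idSub v' (I.comap j) w (j.stalkMap w r * c)).2 (by
        rw [IdealStalkLib.stalkIdeal_comap]
        exact Ideal.mul_mem_right _ _ (Ideal.mem_map_of_mem _ hmem))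
      refine ⟨m, hm.trans ?_⟩
      rw [← LinearMap.comp_apply, ← stalkLin_comp, imageSubobject_arrow_comp, hF, ← hr]
      exact ((mul_smul _ _ _).trans (congrArg _ hc.symm)).trans (hθs w r _).symm
    | smul a y hy =>
      obtain ⟨m, hm⟩ := hy
      exact ⟨a • m, by simp only [map_smul, hm]⟩
    | add y y' hy hy' =>
      obtain ⟨m, hm⟩ := hy
      obtain ⟨m', hm'⟩ := hy'
      exact ⟨m + m', by simp only [map_add, hm, hm']⟩
  · obtain ⟨s, hs⟩ := (bijective_gen v' w).2 (stalkLin (idSub v' (I.comap j)).arrow w n)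
    have hmem := (mem_range_idSub v' (I.comap j) w s).1 ⟨n, hs.symm⟩
    obtain ⟨c, hu, hc⟩ := hunit w
    obtain ⟨d, rfl⟩ := hu
    rw [IdealStalkLib.stalkIdeal_comap] at hmem
    suffices hspan : ∀ x ∈ Ideal.map (j.stalkMap w).hom (IntMult.stalkIdeal I (j w)),
        ∃ m, stalkLin (imageSubobject F).arrow w m = x • θ w (gen v (j w)) by
      obtain ⟨m, hm⟩ := hspan _ (Ideal.mul_mem_right (↑d⁻¹ : W.presheaf.stalk w) _ hmem)
      refine ⟨m, hm.trans ?_⟩
      rw [hc, smul_smul, mul_assoc, Units.inv_mul, mul_one]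
      exact hs
    intro x hx
    induction hx using Submodule.span_induction with
    | mem y hy =>
      obtain ⟨r, hr, rfl⟩ := hy
      obtain ⟨n', hn'⟩ := (mem_range_idSub v I (j w) r).2 hr
      refine ⟨stalkLin (factorThruImageSubobject F) w (pullStalk j _ w n'), ?_⟩
      rw [← LinearMap.comp_apply, ← stalkLin_comp, imageSubobject_arrow_comp, hF, hn', hθs]
    | zero => exact ⟨0, by rw [map_zero, zero_smul]⟩
    | add a b _ _ ha hb =>
      obtain ⟨m, hm⟩ := ha
      obtain ⟨m', hm'⟩ := hb
      exact ⟨m + m', by rw [map_add, hm, hm', add_smul]⟩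
    | smul a b _ hb =>
      obtain ⟨m, hm⟩ := hb
      exact ⟨a • m, by rw [map_smul, hm, smul_smul, smul_eq_mul]⟩

end Groth.Agent.QuotRep
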