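import Groth.Agent.QuotRepLib.UnionProj
import Groth.Agent.QuotRepLib.IdealPull
import Groth.Agent.HilbObsLib.Hilb

/-!
# Hilbert schemes from Quot schemes of the structure sheaf
-/

set_option autoImplicit false
set_option backward.isDefEq.respectTransparency false
set_option linter.style.haveILetI false
set_option linter.unusedSectionVars false

universe u

open CategoryTheory CategoryTheory.Limits AlgebraicGeometry

noncomputable section

namespace Groth.Agent.QuotRep

variable {X S : Scheme.{u}} (f : X ⟶ S)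

/-- The structure sheaf of `X_T` as the inverse image of that of `X`. -/
abbrev strIso (T : Over S) : Coh.structureModule (PicF.XT f T) ≅ FGA.ET f (Coh.structureModule X) T :=
  (ProjCoh.pullUnit (pullback.fst f T.hom)).symm

theorem hilbPull_eq_comap {T T' : Over S} (g : T' ⟶ T) (I : (PicF.XT f T).IdealSheafData) :
    FGA.hilbPull f g I = I.comap (PicF.XTmap f g) := by
  show (pullback.snd I.subschemeι (PicF.XTmap f g)).ker = (pullback.fst (PicF.XTmap f g) I.subschemeι).ker
  rw [← pullbackSymmetry_hom_comp_fst, Scheme.Hom.ker_comp_of_isIso]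

theorem quotPull_idSub {T T' : Over S} (g : T' ⟶ T) (I : (PicF.XT f T).IdealSheafData) :
    FGA.quotPull f (Coh.structureModule X) g (HilbObsLib.idSub (strIso f T) I) =
      HilbObsLib.idSub (strIso f T') (FGA.hilbPull f g I) := by
  rw [hilbPull_eq_comap]
  exact imageSubobject_pull_idSub_any (strIso f T) (PicF.XTmap f g) (strIso f T')
    (FGA.ETiso f (Coh.structureModule X) g) I

variable [IsProper f]

/-- A family of closed subschemes as a family of quotients. -/
theorem exists_quotSet_of_hilb {T : Over S} [IsLocallyNoetherian T.left] (Y : FGA.HilbSet f T) :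
    ∃ K : FGA.QuotSet f (Coh.structureModule X) T, K.1 = HilbObsLib.idSub (strIso f T) Y.1 := by
  refine ⟨⟨HilbObsLib.idSub (strIso f T) Y.1, ?_⟩, rfl⟩
  obtain ⟨e⟩ := HilbObsLib.nonempty_cokernel_idSub (strIso f T) Y.1
  haveI := isLocallyNoetherian_XT (f := f) (T := T)
  haveI : IsLocallyNoetherian Y.1.subscheme := LocallyOfFiniteType.isLocallyNoetherian Y.1.subschemeι
  exact ⟨TildeOpenLib.isCoh_of_iso' e.symm
      (DevLib.isCoh_pushforward_closed Y.1.subschemeι (DevLib.isCoh_structureModule _)),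
    DCohMore.isFlatOver_of_iso _ e.symm ((HilbObsLib.isFlatOver_quotMod_iff _ Y.1).2 Y.2.2)⟩

theorem exists_hilb_of_quotSet {T : Over S} [IsLocallyNoetherian T.left] (hX : Coh.IsCoh (Coh.structureModule X))
    (K : FGA.QuotSet f (Coh.structureModule X) T) :
    ∃ Y : FGA.HilbSet f T, HilbObsLib.idSub (strIso f T) Y.1 = K.1 := by
  haveI := isLocallyNoetherian_XT (f := f) (T := T)
  have hk := (QCohLib.isCoh_kernel_cokernel (cokernel.π K.1.arrow)
    (PullbackMod.isCoh_pullback _ _ hX) K.2.1).1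
  let e : (K.1 : (PicF.XT f T).Modules) ≅ kernel (cokernel.π K.1.arrow) :=
    (Abelian.monoIsKernelOfCokernel (Cofork.ofπ (cokernel.π K.1.arrow) _)
      (cokernelIsCokernel K.1.arrow)).conePointUniqueUpToIso (limit.isLimit _)
  haveI : Coh.IsQCoh (K.1 : (PicF.XT f T).Modules) := (TildeOpenLib.isCoh_of_iso' e.symm hk).1
  obtain ⟨I, hI⟩ := HilbObsLib.exists_idSub (strIso f T) K.1.arrow
  rw [Subobject.mk_arrow] at hI
  obtain ⟨a⟩ := HilbObsLib.nonempty_cokernel_idSub (strIso f T) I
  rw [hI] at a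
  haveI : IsProper (PicF.XTproj f T) := MorphismProperty.pullback_snd (P := @IsProper) _ _ ‹_›
  exact ⟨⟨I, inferInstance, (HilbObsLib.isFlatOver_quotMod_iff _ I).1 (DCohMore.isFlatOver_of_iso _ a K.2.2)⟩, hI⟩

/-- The Quot scheme of the structure sheaf is the Hilbert scheme. -/
theorem exists_hilb_of_quot (hX : Coh.IsCoh (Coh.structureModule X)) {Q : Over S}
    {K : FGA.QuotSet f (Coh.structureModule X) Q} (h : FGA.QuotRepresentedBy f (Coh.structureModule X) Q K) :
    ∃ Z : FGA.HilbSet f Q, FGA.HilbRepresentedBy f Q Z := by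
  haveI := h.1
  obtain ⟨Z, hZ⟩ := exists_hilb_of_quotSet f hX K
  refine ⟨Z, h.1, fun T _ Y => ?_⟩
  obtain ⟨K', hK'⟩ := exists_quotSet_of_hilb f Y
  have key : ∀ g : T ⟶ Q, FGA.hilbPull f g Z.1 = Y.1 ↔ FGA.quotPull f (Coh.structureModule X) g K.1 = K'.1 := by
    intro g
    rw [← hZ, quotPull_idSub, hK']
    exact ⟨fun e => congrArg _ e, fun e => HilbObsLib.idSub_injective _ e⟩
  obtain ⟨g, hg, hu⟩ := h.2 T K'
  exact ⟨g, (key g).2 hg, fun g' hg' => hu g' ((key g').1 hg')⟩

end Groth.Agent.QuotRep
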