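import Groth.Agent.IdealStalkLib.Cartier
import Groth.Agent.BlowCompLib.Compose
import Groth.Agent.BlowCompLib.Flat
import Groth.Agent.RelDivLib.BaseChange
import Groth.Agent.S1570
import Groth.Agent.S14008

/-!
# The open locus where a flat family of closed subschemes consists of divisors
-/

set_option autoImplicit false
universe u
open CategoryTheory CategoryTheory.Limits AlgebraicGeometry TensorProduct RingTheory.Sequence IsLocalRing
open Groth.Agent.IdealStalkLib

namespace Groth.Agent.QuotRep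

variable {X S : Scheme.{u}}

set_option maxHeartbeats 800000 in
/-- The fibrewise criterion at a point. -/
theorem exists_chart_of_fibre_cartier (φ : X ⟶ S) [LocallyOfFinitePresentation φ] [Flat φ]
    (I : X.IdealSheafData) [Flat (I.subschemeι ≫ φ)] [LocallyOfFinitePresentation (I.subschemeι ≫ φ)]
    (x : X) (hfib : BlowUp.IsEffCartierIdeal (I.comap (φ.fiberι (φ x)))) :
    ∃ U : X.affineOpens, x ∈ U.1 ∧ ∃ g, g ∈ nonZeroDivisors Γ(X, U.1) ∧ I.ideal U = Ideal.span {g} := by
  by_cases hx : x ∈ I.support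
  swap
  · obtain ⟨U, hxU, hU⟩ := exists_unit_nhd I hx
    exact ⟨U, hxU, 1, one_mem _, by rw [hU, Ideal.span_singleton_one]⟩
  haveI : LocallyOfFinitePresentation I.subschemeι := FlatLocus.locallyOfFinitePresentation_of_comp (f := I.subschemeι) (g := φ)
  have hflat : (φ.stalkMap x).hom.Flat := Flat.stalkMap φ x
  have hgen : ∃ h : X.presheaf.stalk x, h ∈ IntMult.stalkIdeal I x ∧
      IntMult.stalkIdeal I x ≤ Ideal.span {h} ⊔ Ideal.map (φ.stalkMap x).hom (maximalIdeal (S.presheaf.stalk (φ x))) ∧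
      Ideal.Quotient.mk (Ideal.map (φ.stalkMap x).hom (maximalIdeal (S.presheaf.stalk (φ x)))) h ∈
        nonZeroDivisors (↑(X.presheaf.stalk x) ⧸ Ideal.map (φ.stalkMap x).hom (maximalIdeal (S.presheaf.stalk (φ x)))) := by
    suffices H : ∀ (s : S), BlowUp.IsEffCartierIdeal (I.comap (φ.fiberι s)) → ∀ (z : φ.fiber s), let x' := φ.fiberι s z; ∃ h : X.presheaf.stalk x', h ∈ IntMult.stalkIdeal I x' ∧
      IntMult.stalkIdeal I x' ≤ Ideal.span {h} ⊔ Ideal.map (φ.stalkMap x').hom (maximalIdeal (S.presheaf.stalk (φ x'))) ∧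
      Ideal.Quotient.mk (Ideal.map (φ.stalkMap x').hom (maximalIdeal (S.presheaf.stalk (φ x')))) h ∈
        nonZeroDivisors (↑(X.presheaf.stalk x') ⧸ Ideal.map (φ.stalkMap x').hom (maximalIdeal (S.presheaf.stalk (φ x')))) by
      have h1 := H (φ x) hfib (φ.asFiber x)
      rwa [φ.fiberι_asFiber x] at h1
    intro s hs' z
    obtain ⟨W, hzW, g, hg, hgW⟩ := hs' z
    let π := ((φ.fiberι s).stalkMap z).hom
    have hs := FlatLocus.fiberι_stalkMap_surjective φ s z
    have hker := FlatLocus.ker_fiberι_stalkMap φ s z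
    let gz := (φ.fiber s).presheaf.germ W z hzW g
    letI : Algebra Γ(φ.fiber s, W) ((φ.fiber s).presheaf.stalk z) := TopCat.Presheaf.algebra_section_stalk _ ⟨z, hzW⟩
    haveI := W.2.isLocalization_stalk ⟨z, hzW⟩
    have hgz : gz ∈ nonZeroDivisors _ := IsLocalization.map_nonZeroDivisors_le (W.2.primeIdealOf ⟨z, hzW⟩).asIdeal.primeCompl _ ⟨g, hg, rfl⟩
    have hI : (IntMult.stalkIdeal I (φ.fiberι s z)).map π = Ideal.span {gz} := by
      rw [← stalkIdeal_comap, stalkIdeal_eq _ W z hzW, hgW, Ideal.map_span, Set.image_singleton]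
    obtain ⟨h, hh, hπ⟩ := (Ideal.mem_map_iff_of_surjective π hs).1 (hI.ge (Ideal.mem_span_singleton_self gz))
    refine ⟨h, hh, ?_, ?_⟩
    · refine (Ideal.le_comap_map (f := π)).trans (le_of_eq ?_)
      rw [hI, ← hπ, ← Set.image_singleton, ← Ideal.map_span, Ideal.comap_map_of_surjective _ hs, ← RingHom.ker_eq_comap_bot, hker]
    · let e := (Ideal.quotEquivOfEq hker.symm).trans (RingHom.quotientKerEquivOfSurjective hs)
      refine mem_nonZeroDivisors_iff_right.2 fun w hw => e.injective ?_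
      rw [map_zero]
      refine mem_nonZeroDivisors_iff_right.1 hgz _ ?_
      rw [show gz = e (Ideal.Quotient.mk _ h) from hπ.symm, ← map_mul, hw, map_zero]
  obtain ⟨h, hh, hle, hnz⟩ := hgen
  have hm : h ∈ maximalIdeal (X.presheaf.stalk x) := stalkIdeal_le_maximal I hx hh
  obtain ⟨U, hU, hxU, b, hb, hwr, -, -, -, -, -⟩ := RegSeqSlice.exists_regular_slice φ x hflat (fun _ : Fin 1 => h) (fun _ => hm) (by
    simp only [List.ofFn_succ, List.ofFn_zero]
    rw [isWeaklyRegular_singleton_iff]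
    intro a c hac
    simp only [smul_eq_mul] at hac
    exact (isRegular_iff_mem_nonZeroDivisors.2 hnz).left hac)
  simp only [List.ofFn_succ, List.ofFn_zero, isWeaklyRegular_singleton_iff] at hwr
  let A := S.presheaf.stalk (φ x)
  let O := X.presheaf.stalk x
  let J := IntMult.stalkIdeal I x
  letI : Algebra A O := (φ.stalkMap x).hom.toAlgebra
  letI : Algebra Γ(X, U) O := TopCat.Presheaf.algebra_section_stalk X.presheaf ⟨x, hxU⟩
  haveI := hU.isLocalization_stalk ⟨x, hxU⟩
  have hfg : (I.ideal ⟨U, hU⟩).FG := by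
    have h1 := I.subschemeι.finitePresentation_appLE hU (hU.preimage I.subschemeι) le_rfl
    rw [← Scheme.Hom.app_eq_appLE] at h1
    letI := (I.subschemeι.app U).hom.toAlgebra
    haveI : Algebra.FinitePresentation Γ(X, U) Γ(I.subscheme, I.subschemeι ⁻¹ᵁ U) := h1
    rw [← I.ker_subschemeι_app ⟨U, hU⟩]
    exact Algebra.FinitePresentation.ker_fG_of_surjective (Algebra.ofId Γ(X, U) Γ(I.subscheme, I.subschemeι ⁻¹ᵁ U))
      (I.subschemeι.app_surjective U hU)
  have hJU : J = (I.ideal ⟨U, hU⟩).map (algebraMap Γ(X, U) O) := stalkIdeal_eq I ⟨U, hU⟩ x hxU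
  have hJflat : Module.Flat A (O ⧸ J) := by
    obtain ⟨z, rfl⟩ : ∃ z, I.subschemeι z = x := by
      rw [← Set.mem_range, Scheme.IdealSheafData.range_subschemeι]; exact hx
    have hker : RingHom.ker (I.subschemeι.stalkMap z).hom = J := ker_stalkMap_subschemeι I z
    have h1 : ((I.subschemeι ≫ φ).stalkMap z).hom.Flat := Flat.stalkMap _ z
    rw [Scheme.Hom.stalkMap_comp] at h1
    let e : (O ⧸ J) ≃+* I.subscheme.presheaf.stalk z :=
      (Ideal.quotEquivOfEq hker.symm).trans (RingHom.quotientKerEquivOfSurjective (I.subschemeι.stalkMap_surjective z))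
    letI := ((φ.stalkMap (I.subschemeι z)) ≫ I.subschemeι.stalkMap z).hom.toAlgebra
    haveI : Module.Flat A (I.subscheme.presheaf.stalk z) := h1
    exact Module.Flat.of_linearEquiv (AlgEquiv.ofRingEquiv (f := e) (fun a => rfl)).toLinearEquiv
  have hJ : J = Ideal.span {h} := by
    refine le_antisymm ?_ (Ideal.span_le.2 (Set.singleton_subset_iff.2 hh))
    refine Submodule.le_of_le_smul_of_le_jacobson_bot (I := maximalIdeal O) (by rw [hJU]; exact hfg.map _) (maximalIdeal_le_jacobson _) fun w hw => ?_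
    obtain ⟨u, hu, v, hv, rfl⟩ := Submodule.mem_sup.1 (hle hw)
    refine Submodule.add_mem_sup hu ?_
    have hv' : v ∈ J := by
      rw [show v = (u + v) - u by ring]
      exact sub_mem hw ((Ideal.span_le.2 (Set.singleton_subset_iff.2 hh)) hu)
    have h2 := mem_map_mul_of_flat_quotient J (maximalIdeal A) hv' hv
    refine Ideal.mul_mono_left ?_ h2
    exact ((local_hom_TFAE (algebraMap A O)).out 0 2).1 (show IsLocalHom (φ.stalkMap x).hom from inferInstance)
  obtain ⟨t, htq, ht⟩ := exists_notMem_map_away_eq (O := O) (hU.primeIdealOf ⟨x, hxU⟩).asIdeal (I.ideal ⟨U, hU⟩) (Ideal.span {b 0}) hfg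
    ⟨{b 0}, by simp⟩ (by rw [← hJU, hJ, Ideal.map_span, Set.image_singleton]; exact congrArg (fun w => Ideal.span {w}) (hb 0).symm)
  have hxt : x ∈ X.basicOpen t := by
    rw [X.mem_basicOpen t x hxU]
    exact IsLocalization.map_units O (⟨t, htq⟩ : (hU.primeIdealOf ⟨x, hxU⟩).asIdeal.primeCompl)
  letI : Algebra Γ(X, U) Γ(X, X.basicOpen t) := (X.presheaf.map (homOfLE (X.basicOpen_le t)).op).hom.toAlgebra
  haveI : IsLocalization.Away t Γ(X, X.basicOpen t) := hU.isLocalization_basicOpen t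
  haveI : Module.Flat Γ(X, U) Γ(X, X.basicOpen t) := IsLocalization.flat _ (Submonoid.powers t)
  refine ⟨⟨X.basicOpen t, hU.basicOpen t⟩, hxt, algebraMap Γ(X, U) Γ(X, X.basicOpen t) (b 0), ?_, ?_⟩
  · have h1 := ((isWeaklyRegular_singleton_iff _ _).2 hwr).of_flat (S := Γ(X, X.basicOpen t))
    simp only [List.map_cons, List.map_nil, isWeaklyRegular_singleton_iff] at h1
    exact mem_nonZeroDivisors_iff_right.2 fun z hz => h1 (by simp only [smul_eq_mul, mul_zero]; rw [mul_comm, hz])
  · refine (I.map_ideal_basicOpen ⟨U, hU⟩ t).symm.trans ?_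
    show (I.ideal ⟨U, hU⟩).map (algebraMap Γ(X, U) Γ(X, X.basicOpen t)) = _
    rw [ht _ (IsLocalization.Away.algebraMap_isUnit t), Ideal.map_span, Set.image_singleton]


set_option backward.isDefEq.respectTransparency false
set_option linter.style.haveILetI false

/-- Effective Cartier ideals descend along faithfully flat morphisms. -/
theorem isEffCartier_of_comap_flat {Y' Y : Scheme.{u}} [IsLocallyNoetherian Y] (q : Y' ⟶ Y) [Flat q] [Surjective q]
    (J : Y.IdealSheafData) (hJ : BlowUp.IsEffCartierIdeal (J.comap q)) : BlowUp.IsEffCartierIdeal J := by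
  refine S1570.result Y J fun y _ U hyU => ?_
  obtain ⟨y', rfl⟩ := q.surjective y
  rw [show (J.ideal U).map (Y.presheaf.germ U (q y') hyU).hom = IntMult.stalkIdeal J (q y') from
    (stalkIdeal_eq J U (q y') hyU).symm]
  obtain ⟨W, hW, g, hg, hgW⟩ := hJ y'
  letI : Algebra Γ(Y', W) (Y'.presheaf.stalk y') := TopCat.Presheaf.algebra_section_stalk _ ⟨y', hW⟩
  haveI := W.2.isLocalization_stalk ⟨y', hW⟩
  let a := Y'.presheaf.germ W y' hW g
  have ha : a ∈ nonZeroDivisors (Y'.presheaf.stalk y') :=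
    IsLocalization.map_nonZeroDivisors_le (W.2.primeIdealOf ⟨y', hW⟩).asIdeal.primeCompl _ ⟨g, hg, rfl⟩
  let O := Y.presheaf.stalk (q y')
  let O' := Y'.presheaf.stalk y'
  letI : Algebra O O' := (q.stalkMap y').hom.toAlgebra
  haveI : Module.Flat O O' := Flat.stalkMap q y'
  haveI : IsLocalHom (algebraMap O O') := q.toLRSHom.prop y'
  haveI : Module.FaithfullyFlat O O' := Module.FaithfullyFlat.of_flat_of_isLocalHom
  have hmap : (IntMult.stalkIdeal J (q y')).map (algebraMap O O') = Ideal.span {a} := by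
    show (IntMult.stalkIdeal J (q y')).map (q.stalkMap y').hom = _
    rw [← stalkIdeal_comap, stalkIdeal_eq _ W y' hW, hgW, Ideal.map_span, Set.image_singleton]
  have hex : ∃ j ∈ IntMult.stalkIdeal J (q y'), ∃ d : O', IsUnit d ∧ algebraMap O O' j = a * d := by
    by_contra hne
    push Not at hne
    have hle : (IntMult.stalkIdeal J (q y')).map (algebraMap O O') ≤ Ideal.span {a} * maximalIdeal O' := by
      refine Ideal.map_le_iff_le_comap.2 fun j hj => ?_
      obtain ⟨d, hd⟩ := Ideal.mem_span_singleton.1 (hmap.le (Ideal.mem_map_of_mem _ hj))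
      rw [Ideal.mem_comap, hd]
      exact Ideal.mul_mem_mul (Ideal.mem_span_singleton_self a) ((mem_maximalIdeal _).2 fun hu => hne j hj d hu hd)
    obtain ⟨d, hd, hda⟩ := Ideal.mem_span_singleton_mul.1 (hle (hmap.ge (Ideal.mem_span_singleton_self a)))
    refine (mem_maximalIdeal _).1 hd ?_
    rw [(mul_cancel_left_mem_nonZeroDivisors ha).1 (hda.trans (mul_one a).symm)]
    exact isUnit_one
  obtain ⟨j, hj, d, hd, hjd⟩ := hex
  have hspan : Ideal.span {algebraMap O O' j} = Ideal.span {a} := by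
    rw [hjd, Ideal.span_singleton_mul_right_unit hd]
  refine ⟨j, mem_nonZeroDivisors_iff_right.2 fun z hz => FaithfulSMul.algebraMap_injective O O' ?_, ?_⟩
  · rw [map_zero]
    have h1 : (algebraMap O O' z * d) * a = 0 := by
      rw [mul_assoc, mul_comm d a, ← hjd, ← map_mul, hz, map_zero]
    exact hd.mul_left_eq_zero.1 (mem_nonZeroDivisors_iff_right.1 ha _ h1)
  · rw [← Ideal.comap_map_eq_self_of_faithfullyFlat (B := O') (IntMult.stalkIdeal J (q y')), hmap, ← hspan,
      ← Set.image_singleton, ← Ideal.map_span, Ideal.comap_map_eq_self_of_faithfullyFlat]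

theorem flat_comap_subschemeι {P' P H T : Scheme.{u}} {φ : P ⟶ H} {g : T ⟶ H} {k : P' ⟶ P} {φ' : P' ⟶ T}
    (h : IsPullback k φ' φ g) (I : P.IdealSheafData) [Flat (I.subschemeι ≫ φ)] :
    Flat ((I.comap k).subschemeι ≫ φ') := by
  rw [← Scheme.IdealSheafData.comapIso_hom_fst I k, Category.assoc]
  haveI : Flat (pullback.fst k I.subschemeι ≫ φ') :=
    MorphismProperty.of_isPullback (P := @Flat) ((IsPullback.of_hasPullback k I.subschemeι).flip.paste_vert h) ‹_›
  infer_instance

theorem exists_chart_comap_openImmersion {Y' Y : Scheme.{u}} {D : Y.IdealSheafData} (f : Y' ⟶ Y) [IsOpenImmersion f]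
    (x : Y') (hD : ∃ U : Y.affineOpens, f x ∈ U.1 ∧ ∃ g, g ∈ nonZeroDivisors Γ(Y, U.1) ∧ D.ideal U = Ideal.span {g}) :
    ∃ U : Y'.affineOpens, x ∈ U.1 ∧ ∃ g, g ∈ nonZeroDivisors Γ(Y', U.1) ∧ (D.comap f).ideal U = Ideal.span {g} := by
  obtain ⟨U, hxU, g, hg, hI⟩ := hD
  obtain ⟨t, htle, hxt⟩ := U.2.exists_basicOpen_le (V := U.1 ⊓ f.opensRange) ⟨f x, hxU, x, rfl⟩ hxU
  obtain ⟨g', hg', hI'⟩ := RelDivLib.generator_res D U t hg hI
  have hsub : Y.basicOpen t ≤ f.opensRange := htle.trans inf_le_right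
  have hV : IsAffineOpen (f ⁻¹ᵁ Y.basicOpen t) := (U.2.basicOpen t).preimage_of_isOpenImmersion f hsub
  haveI : IsIso (f.app (Y.basicOpen t)) := f.isIso_app _ hsub
  refine ⟨⟨_, hV⟩, hxt, (f.app (Y.basicOpen t)).hom g', ?_, ?_⟩
  · exact MulEquivClass.map_nonZeroDivisors (asIso (f.app (Y.basicOpen t))).commRingCatIsoToRingEquiv ▸ ⟨g', hg', rfl⟩
  · rw [IdealStalkLib.comap_ideal D f (U.2.basicOpen t) hV le_rfl, ← Scheme.Hom.app_eq_appLE]
    show (D.ideal (Y.affineBasicOpen (U := U) t)).map _ = _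
    rw [hI', Ideal.map_span, Set.image_singleton]
    rfl

/-- A flat family of closed subschemes is a family of divisors exactly over an open of the base. -/
theorem exists_cartier_open {P H : Scheme.{u}} [IsLocallyNoetherian H] (φ : P ⟶ H) [IsProper φ] [Flat φ]
    (I : P.IdealSheafData) [Flat (I.subschemeι ≫ φ)] :
    ∃ U : H.Opens, ∀ {T P' : Scheme.{u}} (g : T ⟶ H) (k : P' ⟶ P) (φ' : P' ⟶ T), IsPullback k φ' φ g →
      (BlowUp.IsEffCartierIdeal (I.comap k) ↔ Set.range g ⊆ (U : Set H)) := by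
  haveI : LocallyOfFinitePresentation φ := S14008.lfp_of_lft φ
  haveI : LocallyOfFinitePresentation (I.subschemeι ≫ φ) := S14008.lfp_of_lft _
  haveI : IsLocallyNoetherian P := LocallyOfFiniteType.isLocallyNoetherian φ
  let G : Set P := {x | ∃ V : P.affineOpens, x ∈ V.1 ∧ ∃ a, a ∈ nonZeroDivisors Γ(P, V.1) ∧ I.ideal V = Ideal.span {a}}
  have hG : IsOpen G := by
    refine isOpen_iff_forall_mem_open.2 fun x ⟨V, hxV, hV⟩ => ⟨V.1, fun y hy => ⟨V, hy, hV⟩, V.1.2, hxV⟩
  let U : H.Opens := ⟨(φ '' Gᶜ)ᶜ, (φ.isClosedMap _ hG.isClosed_compl).isOpen_compl⟩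
  refine ⟨U, fun {T P'} g k φ' h => ⟨fun hc => ?_, fun hr => ?_⟩⟩
  · rintro _ ⟨t, rfl⟩ ⟨x, hx, hxt⟩
    let e := Spec.map (g.residueFieldMap t)
    haveI : Surjective e := ⟨fun z => ⟨default, Subsingleton.elim _ _⟩⟩
    haveI : Flat e := by
      rw [HasRingHomProperty.Spec_iff (P := @Flat)]
      exact RingHom.Flat.of_isField (Field.toIsField _) _
    haveI := flat_comap_subschemeι h I
    have h1 : BlowUp.IsEffCartierIdeal ((I.comap k).comap (φ'.fiberι t)) :=
      RelDivLib.isEffCartier_baseChange φ' (I.comap k) hc (T.fromSpecResidueField t)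
    let c : φ'.fiber t ⟶ φ.fiber (g t) :=
      pullback.lift (φ'.fiberι t ≫ k) (φ'.fiberToSpecResidueField t ≫ e) (by
        rw [Category.assoc, h.w, ← Category.assoc, show φ'.fiberι t ≫ φ' = φ'.fiberToSpecResidueField t ≫ T.fromSpecResidueField t
          from pullback.condition, Category.assoc, Category.assoc, ← Scheme.Hom.SpecMap_residueFieldMap_fromSpecResidueField g t])
    have hsq : IsPullback c (φ'.fiberToSpecResidueField t) (φ.fiberToSpecResidueField (g t)) e := by
      refine IsPullback.of_right ?_ (pullback.lift_snd _ _ _) (IsPullback.of_hasPullback φ (H.fromSpecResidueField (g t)))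
      rw [pullback.lift_fst, Scheme.Hom.SpecMap_residueFieldMap_fromSpecResidueField g t]
      exact (IsPullback.of_hasPullback φ' (T.fromSpecResidueField t)).paste_horiz h
    haveI : Surjective c := MorphismProperty.of_isPullback (P := @Surjective) hsq.flip ‹_›
    haveI : Flat c := MorphismProperty.of_isPullback (P := @Flat) hsq.flip ‹_›
    haveI : LocallyOfFiniteType (φ.fiberToSpecResidueField (g t)) :=
      MorphismProperty.pullback_snd _ _ (inferInstanceAs (LocallyOfFiniteType φ))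
    haveI : IsLocallyNoetherian (φ.fiber (g t)) :=
      LocallyOfFiniteType.isLocallyNoetherian (φ.fiberToSpecResidueField (g t))
    rw [← Scheme.IdealSheafData.comap_comp, show φ'.fiberι t ≫ k = c ≫ φ.fiberι (g t) from (pullback.lift_fst _ _ _).symm,
      Scheme.IdealSheafData.comap_comp] at h1
    have h2 := isEffCartier_of_comap_flat c _ h1
    rw [← hxt] at h2
    exact hx (exists_chart_of_fibre_cartier φ I x h2)
  · let V : P.Opens := φ ⁻¹ᵁ U
    have hV : BlowUp.IsEffCartierIdeal (I.comap V.ι) := fun y =>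
      exists_chart_comap_openImmersion V.ι y (by
        by_contra hc
        exact y.2 ⟨y.1, hc, rfl⟩)
    haveI : Flat ((I.comap V.ι).subschemeι ≫ V.ι ≫ φ) := by
      rw [← Scheme.IdealSheafData.comapIso_hom_fst I V.ι, Category.assoc, pullback.condition_assoc]
      infer_instance
    have hk : Set.range k ⊆ Set.range V.ι := by
      rintro _ ⟨z, rfl⟩
      rw [Scheme.Opens.range_ι]
      show φ (k z) ∈ (U : Set H)
      rw [← Scheme.Hom.comp_apply, h.w, Scheme.Hom.comp_apply]
      exact hr ⟨_, rfl⟩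
    let kV := IsOpenImmersion.lift V.ι k hk
    have hkV : kV ≫ V.ι = k := IsOpenImmersion.lift_fac _ _ _
    have h1 : IsPullback kV (𝟙 _) V.ι k :=
      ⟨⟨hkV.trans (Category.id_comp _).symm⟩, ⟨PullbackCone.IsLimit.mk _ (fun s => s.snd) (fun s => by
          rw [← cancel_mono V.ι, Category.assoc, hkV, ← s.condition])
        (fun s => Category.comp_id _) (fun s m _ h2 => (Category.comp_id m).symm.trans h2)⟩⟩
    have h2 : IsPullback kV φ' (V.ι ≫ φ) g := by
      have h3 := h1.paste_vert h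
      rwa [Category.id_comp] at h3
    rw [← hkV, Scheme.IdealSheafData.comap_comp, ← h2.isoPullback_hom_fst, Scheme.IdealSheafData.comap_comp]
    exact BlowCompLib.isEffCartier_comap_openImmersion
      (RelDivLib.isEffCartier_baseChange (V.ι ≫ φ) (I.comap V.ι) hV g) _

end Groth.Agent.QuotRep
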