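import Groth.Agent.QuotRepLib.HilbQuot
import Groth.Agent.QuotRepLib.DivOpen
import Groth.Agent.SchDesc.Local
import Groth.Agent.SchDesc.QAff
import Groth.Agent.S1124

/-!
# Quotients by flat proper equivalence relations through the Hilbert scheme
-/

set_option autoImplicit false
set_option backward.isDefEq.respectTransparency false
set_option linter.style.haveILetI false

universe u

open CategoryTheory CategoryTheory.Limits AlgebraicGeometry

noncomputable section

namespace Groth.Agent.QuotRep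

/-- Points of a closed subscheme which is the inverse image of another. -/
theorem exists_factor_iff_of_ker_eq {R A B T : Scheme.{u}} (c : R ⟶ A) [IsClosedImmersion c] (I : B.IdealSheafData)
    (k : A ⟶ B) (h : c.ker = I.comap k) (t : T ⟶ A) :
    (∃ r, r ≫ c = t) ↔ ∃ z, z ≫ I.subschemeι = t ≫ k := by
  let p := pullback.fst k I.subschemeι
  have hp : p.ker = I.comap k := rfl
  constructor
  · rintro ⟨r, rfl⟩
    refine ⟨r ≫ IsClosedImmersion.lift p c (hp.trans h.symm).le ≫ pullback.snd k I.subschemeι, ?_⟩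
    rw [Category.assoc, Category.assoc, ← pullback.condition, IsClosedImmersion.lift_fac_assoc, Category.assoc]
  · rintro ⟨z, hz⟩
    refine ⟨pullback.lift t z hz.symm ≫ IsClosedImmersion.lift c p (h.trans hp.symm).le, ?_⟩
    rw [Category.assoc, IsClosedImmersion.lift_fac, pullback.lift_fst]

variable {S P : Scheme.{u}} [IsNoetherian S] (π : P ⟶ S) [IsProper π] {X R : Over S}

/-- The relation on points. -/
def RelPt (f₁ f₂ : R ⟶ X) {T : Scheme.{u}} (a b : T ⟶ X.left) : Prop :=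
  ∃ r : T ⟶ R.left, r ≫ f₁.left = a ∧ r ≫ f₂.left = b

theorem RelPt.over_eq {f₁ f₂ : R ⟶ X} {T : Scheme.{u}} {a b : T ⟶ X.left} (h : RelPt f₁ f₂ a b) :
    a ≫ X.hom = b ≫ X.hom := by
  obtain ⟨r, rfl, rfl⟩ := h
  simp only [Category.assoc, Over.w]

variable {f₁ f₂ : R ⟶ X}
  (hinj : ∀ (T : Over S) (r r' : T ⟶ R), r ≫ f₁ = r' ≫ f₁ → r ≫ f₂ = r' ≫ f₂ → r = r')
  (hequiv : ∀ T : Over S, Equivalence (fun a b : T ⟶ X => ∃ r : T ⟶ R, r ≫ f₁ = a ∧ r ≫ f₂ = b))

include hinj in
theorem relPt_unique {T : Scheme.{u}} {r r' : T ⟶ R.left} (h₁ : r ≫ f₁.left = r' ≫ f₁.left)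
    (h₂ : r ≫ f₂.left = r' ≫ f₂.left) : r = r' :=
  congrArg CommaMorphism.left (hinj (Over.mk (r ≫ R.hom)) (Over.homMk r rfl)
    (Over.homMk r' (by
      have := congrArg (· ≫ X.hom) h₁
      simp only [Category.assoc, Over.w] at this
      exact this.symm)) (Over.OverMorphism.ext h₁) (Over.OverMorphism.ext h₂))

include hequiv in
theorem relPt_refl {T : Scheme.{u}} (a : T ⟶ X.left) : RelPt f₁ f₂ a a := by
  obtain ⟨r, h₁, h₂⟩ := (hequiv (Over.mk (a ≫ X.hom))).refl (Over.homMk a rfl)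
  exact ⟨r.left, congrArg CommaMorphism.left h₁, congrArg CommaMorphism.left h₂⟩

include hequiv in
theorem relPt_symm {T : Scheme.{u}} {a b : T ⟶ X.left} (h : RelPt f₁ f₂ a b) : RelPt f₁ f₂ b a := by
  obtain ⟨r, h₁, h₂⟩ := (hequiv (Over.mk (a ≫ X.hom))).symm (x := Over.homMk a rfl)
    (y := Over.homMk b h.over_eq.symm) (by
      obtain ⟨r, h₁, h₂⟩ := h
      exact ⟨Over.homMk r (by show r ≫ R.hom = a ≫ X.hom; rw [← h₁, Category.assoc, Over.w]),
        Over.OverMorphism.ext h₁, Over.OverMorphism.ext h₂⟩)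
  exact ⟨r.left, congrArg CommaMorphism.left h₁, congrArg CommaMorphism.left h₂⟩

include hequiv in
theorem relPt_trans {T : Scheme.{u}} {a b c : T ⟶ X.left} (h : RelPt f₁ f₂ a b) (h' : RelPt f₁ f₂ b c) :
    RelPt f₁ f₂ a c := by
  obtain ⟨r, h₁, h₂⟩ := (hequiv (Over.mk (a ≫ X.hom))).trans (x := Over.homMk a rfl)
    (y := Over.homMk b h.over_eq.symm) (z := Over.homMk c (h.over_eq.trans h'.over_eq).symm)
    (by
      obtain ⟨r, h₁, h₂⟩ := h
      exact ⟨Over.homMk r (by show r ≫ R.hom = a ≫ X.hom; rw [← h₁, Category.assoc, Over.w]),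
        Over.OverMorphism.ext h₁, Over.OverMorphism.ext h₂⟩)
    (by
      have e := h.over_eq
      obtain ⟨r, h₁, h₂⟩ := h'
      exact ⟨Over.homMk r (by show r ≫ R.hom = a ≫ X.hom; rw [e, ← h₁, Category.assoc, Over.w]),
        Over.OverMorphism.ext h₁, Over.OverMorphism.ext h₂⟩)
  exact ⟨r.left, congrArg CommaMorphism.left h₁, congrArg CommaMorphism.left h₂⟩

variable (e : X.left ⟶ P) [IsImmersion e]

include hinj in
/-- The graph of the relation in the product with the ambient scheme. -/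
theorem exists_graph (he : e ≫ π = X.hom) [IsProper f₁.left] :
    ∃ c : R.left ⟶ PicF.XT π X, IsClosedImmersion c ∧ c ≫ PicF.XTproj π X = f₁.left ∧
      c ≫ pullback.fst π X.hom = f₂.left ≫ e := by
  let c : R.left ⟶ PicF.XT π X := pullback.lift (f₂.left ≫ e) f₁.left (by
    rw [Category.assoc, he, Over.w, Over.w])
  have hc : c ≫ PicF.XTproj π X = f₁.left := pullback.lift_snd _ _ _
  have hc' : c ≫ pullback.fst π X.hom = f₂.left ≫ e := pullback.lift_fst _ _ _
  haveI : IsProper (PicF.XTproj π X) := MorphismProperty.pullback_snd (P := @IsProper) _ _ ‹IsProper π›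
  haveI : IsProper (c ≫ PicF.XTproj π X) := by rw [hc]; infer_instance
  haveI : IsProper c := IsProper.of_comp c (PicF.XTproj π X)
  refine ⟨c, (IsClosedImmersion.iff_isProper_and_mono c).2 ⟨inferInstance, ⟨fun r r' h => ?_⟩⟩, hc, hc'⟩
  refine relPt_unique hinj ?_ ?_
  · rw [← hc, reassoc_of% h]
  · rw [← cancel_mono e, Category.assoc, Category.assoc, ← hc', reassoc_of% h]

include hinj hequiv in
/-- A flat proper equivalence relation has a quotient immersed in the Hilbert scheme. -/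
theorem exists_quotient_of_equivRel [Flat π] (he : e ≫ π = X.hom) [IsProper f₁.left] [Flat f₁.left]
    (H : Over S) (Z : FGA.HilbSet π H) (hH : FGA.HilbRepresentedBy π H Z) :
    ∃ (Q : Over S) (q : X ⟶ Q) (w : f₁ ≫ q = f₂ ≫ q),
      Nonempty (IsColimit (Cofork.ofπ q w)) ∧
      (∃ j : Q.left ⟶ H.left, IsImmersion j ∧ j ≫ H.hom = Q.hom) ∧ CompactSpace Q.left ∧
      Function.Surjective q.left ∧ Flat q.left ∧ IsProper q.left ∧
      ∀ (T : Over S) (a b : T ⟶ X), a ≫ q = b ≫ q → ∃ r : T ⟶ R, r ≫ f₁ = a ∧ r ≫ f₂ = b := by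
  haveI : IsLocallyNoetherian H.left := hH.1
  haveI : IsLocallyNoetherian P := LocallyOfFiniteType.isLocallyNoetherian π
  haveI : CompactSpace P := QuasiCompact.compactSpace_of_compactSpace π
  haveI : IsNoetherian P := { }
  haveI : LocallyOfFiniteType X.hom := by rw [← he]; infer_instance
  haveI : IsLocallyNoetherian X.left := LocallyOfFiniteType.isLocallyNoetherian e
  haveI : TopologicalSpace.NoetherianSpace X.left := e.isEmbedding.toIsInducing.noetherianSpace
  haveI : IsNoetherian X.left := { }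
  haveI : IsLocallyNoetherian R.left := LocallyOfFiniteType.isLocallyNoetherian f₁.left
  obtain ⟨c, hc, hcproj, hcfst⟩ := exists_graph π hinj e he
  haveI := hc
  -- the classifying map
  let Y₀ : FGA.HilbSet π X := ⟨c.ker, by
    have e1 : c.toImage ≫ c.ker.subschemeι = c := c.toImage_imageι
    have e2 : c.ker.subschemeι ≫ PicF.XTproj π X = inv c.toImage ≫ f₁.left := by
      rw [← hcproj, ← Category.assoc, (IsIso.inv_comp_eq _).2 e1.symm]
    rw [e2]
    exact ⟨inferInstance, inferInstance⟩⟩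
  obtain ⟨g, hg, -⟩ := hH.2 X Y₀
  let ι := Z.1.subschemeι
  let φZ := ι ≫ PicF.XTproj π H
  have hZp : IsProper φZ := Z.2.1
  have hZf : Flat φZ := Z.2.2
  haveI : LocallyOfFinitePresentation φZ := S14008.lfp_of_lft φZ
  -- points of the universal family
  have hpts : ∀ {T : Scheme.{u}} (a : T ⟶ X.left) (y : T ⟶ P), y ≫ π = a ≫ X.hom →
      ((∃ z : T ⟶ Z.1.subscheme, z ≫ ι ≫ pullback.fst π H.hom = y ∧ z ≫ φZ = a ≫ g.left) ↔
        ∃ b, RelPt f₁ f₂ a b ∧ b ≫ e = y) := by
    intro T a y hy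
    have hk : c.ker = Z.1.comap (PicF.XTmap π g) := ((hilbPull_eq_comap π g Z.1).symm.trans hg).symm
    let t : T ⟶ PicF.XT π X := pullback.lift y a hy
    have ht1 : t ≫ pullback.fst π X.hom = y := pullback.lift_fst _ _ _
    have ht2 : t ≫ PicF.XTproj π X = a := pullback.lift_snd _ _ _
    constructor
    · rintro ⟨z, h1, h2⟩
      obtain ⟨r, hr⟩ := (exists_factor_iff_of_ker_eq c Z.1 _ hk t).2 ⟨z, by
        apply pullback.hom_ext
        · rw [Category.assoc, Category.assoc, FGA.XTmap_fst, ht1]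
          exact h1
        · show (z ≫ ι) ≫ PicF.XTproj π H = (t ≫ PicF.XTmap π g) ≫ PicF.XTproj π H
          rw [Category.assoc, Category.assoc, XTmap_proj, reassoc_of% ht2]
          exact h2⟩
      refine ⟨r ≫ f₂.left, ⟨r, ?_, rfl⟩, ?_⟩
      · rw [← hcproj, ← Category.assoc, hr, ht2]
      · rw [Category.assoc, ← hcfst, ← Category.assoc, hr, ht1]
    · rintro ⟨b, ⟨r, h1, h2⟩, hb⟩
      have hr : r ≫ c = t := by
        apply pullback.hom_ext
        · rw [Category.assoc, hcfst, ← Category.assoc, h2, hb, ht1]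
        · show (r ≫ c) ≫ PicF.XTproj π X = t ≫ PicF.XTproj π X
          rw [Category.assoc, hcproj, h1, ht2]
      obtain ⟨z, hz⟩ := (exists_factor_iff_of_ker_eq c Z.1 _ hk t).1 ⟨r, hr⟩
      refine ⟨z, ?_, ?_⟩
      · rw [← Category.assoc, show z ≫ ι = _ from hz, Category.assoc, FGA.XTmap_fst, ht1]
      · show z ≫ ι ≫ PicF.XTproj π H = _
        rw [← Category.assoc, show z ≫ ι = _ from hz, Category.assoc, XTmap_proj, reassoc_of% ht2]
  obtain ⟨γ, hγ1, hγ2⟩ := (hpts (𝟙 X.left) e (by rw [he, Category.id_comp])).2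
    ⟨𝟙 _, relPt_refl hequiv _, Category.id_comp e⟩
  rw [Category.id_comp] at hγ2
  have hker : ∀ {T : Scheme.{u}} (a b : T ⟶ X.left), a ≫ X.hom = b ≫ X.hom → a ≫ g.left = b ≫ g.left →
      RelPt f₁ f₂ a b := by
    intro T a b hab h
    obtain ⟨b', hr, hb'⟩ := (hpts a (b ≫ e) (by rw [Category.assoc, he, hab])).1
      ⟨b ≫ γ, by rw [Category.assoc, hγ1], by rw [Category.assoc, hγ2, h]⟩
    rwa [(cancel_mono e).1 hb'] at hr
  -- invariance
  have hinv : f₁.left ≫ g.left = f₂.left ≫ g.left := by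
    have hR : ∀ {T : Scheme.{u}} (ρ : T ⟶ R.left), RelPt f₁ f₂ (ρ ≫ f₁.left) (ρ ≫ f₂.left) :=
      fun ρ => ⟨ρ, rfl, rfl⟩
    have hle : ∀ (a a' : R ⟶ X), (∀ {T : Scheme.{u}} (ρ : T ⟶ R.left), RelPt f₁ f₂ (ρ ≫ a'.left) (ρ ≫ a.left)) →
        Z.1.comap (PicF.XTmap π (a' ≫ g)) ≤ Z.1.comap (PicF.XTmap π (a ≫ g)) := by
      intro a a' hrel
      let k := PicF.XTmap π (a ≫ g)
      let k' := PicF.XTmap π (a' ≫ g)
      let p := pullback.fst k ι
      let ρ := p ≫ PicF.XTproj π R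
      let y := p ≫ pullback.fst π R.hom
      have hy : y ≫ π = (ρ ≫ a.left) ≫ X.hom := by
        simp only [y, ρ, Category.assoc, Over.w, pullback.condition]
      obtain ⟨b, hb, hby⟩ := (hpts (ρ ≫ a.left) y hy).1 ⟨pullback.snd k ι, by
          rw [← Category.assoc, ← pullback.condition, Category.assoc, FGA.XTmap_fst],
        by
          show pullback.snd k ι ≫ ι ≫ PicF.XTproj π H = _
          rw [← Category.assoc, ← pullback.condition, Category.assoc, XTmap_proj, Over.comp_left]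
          simp only [ρ, p, Category.assoc]⟩
      obtain ⟨z, hz1, hz2⟩ := (hpts (ρ ≫ a'.left) y (by
          rw [hy]; simp only [Category.assoc, Over.w])).2 ⟨b, relPt_trans hequiv (hrel ρ) hb, hby⟩
      have hz : p ≫ k' = z ≫ ι := by
        apply pullback.hom_ext
        · rw [Category.assoc, Category.assoc, FGA.XTmap_fst]
          exact hz1.symm
        · show (p ≫ k') ≫ PicF.XTproj π H = (z ≫ ι) ≫ PicF.XTproj π H
          rw [Category.assoc, Category.assoc, XTmap_proj, Over.comp_left]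
          exact (by simp only [ρ, Category.assoc] at hz2 ⊢; exact hz2.symm)
      show (pullback.fst k' ι).ker ≤ p.ker
      calc (pullback.fst k' ι).ker ≤ (pullback.lift p z hz ≫ pullback.fst k' ι).ker := Scheme.Hom.le_ker_comp _ _
        _ = p.ker := by rw [pullback.lift_fst]
    have heq : Z.1.comap (PicF.XTmap π (f₁ ≫ g)) = Z.1.comap (PicF.XTmap π (f₂ ≫ g)) :=
      le_antisymm (hle f₂ f₁ fun ρ => hR ρ) (hle f₁ f₂ fun ρ => relPt_symm hequiv (hR ρ))
    let Y : FGA.HilbSet π R := ⟨Z.1.comap (PicF.XTmap π (f₁ ≫ g)), by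
      rw [← Scheme.IdealSheafData.comapIso_hom_fst Z.1 (PicF.XTmap π (f₁ ≫ g)), Category.assoc]
      have hsq := (IsPullback.of_hasPullback (PicF.XTmap π (f₁ ≫ g)) ι).flip.paste_vert
        (isPullback_XTmap π (f₁ ≫ g))
      haveI := MorphismProperty.of_isPullback (P := @IsProper) hsq hZp
      haveI := MorphismProperty.of_isPullback (P := @Flat) hsq hZf
      exact ⟨inferInstance, inferInstance⟩⟩
    exact congrArg CommaMorphism.left ((hH.2 R Y).unique (hilbPull_eq_comap π _ _)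
      ((hilbPull_eq_comap π _ _).trans heq.symm))
  have hrelg : ∀ {T : Scheme.{u}} {a b : T ⟶ X.left}, RelPt f₁ f₂ a b → a ≫ g.left = b ≫ g.left := by
    rintro T a b ⟨r, rfl, rfl⟩
    rw [Category.assoc, Category.assoc, hinv]
  -- the covering of the image
  let U : H.left.Opens := ⟨Set.range φZ, φZ.isOpenMap.isOpen_range⟩
  let φU : Z.1.subscheme ⟶ (U : Scheme.{u}) :=
    IsOpenImmersion.lift U.ι φZ (by rw [Scheme.Opens.range_ι]; exact le_rfl)
  have hφU : φU ≫ U.ι = φZ := IsOpenImmersion.lift_fac _ _ _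
  have hsqU : IsPullback φU (𝟙 _) U.ι φZ :=
    ⟨⟨hφU.trans (Category.id_comp _).symm⟩, ⟨PullbackCone.IsLimit.mk _ (fun s => s.snd) (fun s => by
        rw [← cancel_mono U.ι, Category.assoc, hφU, ← s.condition])
      (fun s => Category.comp_id _) (fun s m _ h2 => (Category.comp_id m).symm.trans h2)⟩⟩
  haveI : IsProper φU := MorphismProperty.of_isPullback (P := @IsProper) hsqU.flip hZp
  haveI : Flat φU := MorphismProperty.of_isPullback (P := @Flat) hsqU.flip hZf
  haveI : Surjective φU := ⟨fun u => by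
    obtain ⟨z, hz⟩ := u.2
    refine ⟨z, U.ι.isOpenEmbedding.injective ?_⟩
    rw [← Scheme.Hom.comp_apply, hφU]
    exact hz⟩
  haveI : IsImmersion (γ ≫ ι ≫ pullback.fst π H.hom) := by rw [hγ1]; infer_instance
  haveI : IsImmersion γ := IsImmersion.of_comp γ (ι ≫ pullback.fst π H.hom)
  haveI : QuasiCompact γ := inferInstance
  have hmove : ∀ ⦃T : Scheme.{u}⦄ (x₀ x₁ : T ⟶ Z.1.subscheme), x₀ ≫ φU = x₁ ≫ φU →
      ∀ v : Desc.Lifts (Over.mk γ) x₀, Nonempty (Desc.Lifts (Over.mk γ) x₁) := by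
    intro T x₀ x₁ hx v
    have hv : v.1 ≫ γ = x₀ := v.2
    have hx' : x₁ ≫ φZ = v.1 ≫ g.left :=
      (congrArg (x₁ ≫ ·) hφU.symm).trans ((Category.assoc _ _ _).symm.trans ((congrArg (· ≫ U.ι) hx.symm).trans
        ((congrArg (fun k => (k ≫ φU) ≫ U.ι) hv.symm).trans (by simp only [Category.assoc, hφU, hγ2]))))
    have hy : (x₁ ≫ ι ≫ pullback.fst π H.hom) ≫ π = v.1 ≫ X.hom := by
      rw [← Over.w g, ← reassoc_of% hx']
      simp only [φZ, Category.assoc, pullback.condition]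
    obtain ⟨w, hw, hwe⟩ := (hpts v.1 _ hy).1 ⟨x₁, rfl, hx'⟩
    refine ⟨⟨w, ?_⟩⟩
    show w ≫ γ = x₁
    rw [← cancel_mono ι]
    apply pullback.hom_ext
    · simp only [Category.assoc, hγ1]
      exact hwe
    · show ((w ≫ γ) ≫ ι) ≫ PicF.XTproj π H = (x₁ ≫ ι) ≫ PicF.XTproj π H
      simp only [Category.assoc]
      rw [show γ ≫ ι ≫ PicF.XTproj π H = g.left from hγ2, show x₁ ≫ ι ≫ PicF.XTproj π H = v.1 ≫ g.left from hx']
      exact (hrelg hw).symm
  have hss : ∀ {T : Scheme.{u}} (x : T ⟶ Z.1.subscheme), Subsingleton (Desc.Lifts (Over.mk γ) x) := fun x =>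
    ⟨fun v w => Subtype.ext ((cancel_mono γ).1 (v.2.trans w.2.symm))⟩
  let D : Desc.SchDD φU :=
    { obj := Over.mk γ
      φ := fun T x₀ x₁ h =>
        { toFun := fun v => (hmove x₀ x₁ h v).some
          invFun := fun v => (hmove x₁ x₀ h.symm v).some
          left_inv := fun v => (hss x₀).elim _ _
          right_inv := fun v => (hss x₁).elim _ _ }
      φ_natural := fun T T' k x₀ x₁ h h' v v' _ => by
        refine (cancel_mono γ).1 (Eq.trans ?_ (Category.assoc _ _ _).symm)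
        exact ((hmove _ _ h' v').some.2).trans (congrArg (k ≫ ·) (hmove _ _ h v).some.2).symm
      φ_self := fun T x v => (hss x).elim _ _
      φ_comp := fun T x₀ x₁ x₂ h₀₁ h₁₂ v => (hss x₂).elim _ _ }
  haveI : SchDesc.IsFpqc φU := SchDesc.IsFpqc.of_quasiCompact φU
  obtain ⟨Qt⟩ := SchDesc.quot_top_of_affine (@IsImmersion ⊓ @QuasiCompact : MorphismProperty Scheme.{u})
    (fun f h hf => ⟨MorphismProperty.pullback_snd (P := @IsImmersion) f h hf.1,
      MorphismProperty.pullback_snd (P := @QuasiCompact) f h hf.2⟩) D ⟨‹_›, ‹_›⟩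
    fun Q' U' l q i hQ hU hl hl' _ _ _ _ D' hD' => by
      haveI : IsImmersion D'.obj.hom := hD'.1
      haveI : QuasiCompact D'.obj.hom := hD'.2
      haveI : CompactSpace D'.obj.left := QuasiCompact.compactSpace_of_compactSpace D'.obj.hom
      haveI : D'.obj.left.IsQuasiAffine := Scheme.IsQuasiAffine.of_isImmersion D'.obj.hom
      exact SchDesc.quot_of_quasiAffine D'
  let π₀ : X.left ⟶ Qt.U := Qt.π₀
  have hsq : IsPullback γ π₀ φU Qt.str := Qt.isPullback₀
  haveI : Flat π₀ := MorphismProperty.of_isPullback (P := @Flat) hsq ‹_›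
  haveI : IsProper π₀ := MorphismProperty.of_isPullback (P := @IsProper) hsq ‹_›
  haveI : Surjective π₀ := MorphismProperty.of_isPullback (P := @Surjective) hsq ‹_›
  haveI : SchDesc.IsFpqc π₀ := SchDesc.IsFpqc.of_quasiCompact π₀
  haveI : EffectiveEpi π₀ := inferInstance
  haveI := S1124.result.{u}
  have hstr : (@IsImmersion ⊓ @QuasiCompact : MorphismProperty Scheme.{u}) Qt.str :=
    MorphismProperty.of_isPullback_of_descendsAlong
      (Q := (@Surjective ⊓ @Flat ⊓ @QuasiCompact : MorphismProperty Scheme.{u})) hsq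
      ⟨⟨‹Surjective φU›, ‹Flat φU›⟩, inferInstanceAs (QuasiCompact φU)⟩ ⟨‹_›, ‹_›⟩
  haveI : IsImmersion Qt.str := hstr.1
  let j := Qt.str ≫ U.ι
  have hj : π₀ ≫ j = g.left := by
    rw [← Category.assoc, ← hsq.w, Category.assoc, hφU, hγ2]
  let Q : Over S := Over.mk (j ≫ H.hom)
  let q : X ⟶ Q := Over.homMk π₀ (by
    show π₀ ≫ j ≫ H.hom = X.hom
    rw [reassoc_of% hj, Over.w g])
  have w : f₁ ≫ q = f₂ ≫ q := Over.OverMorphism.ext (by
    show f₁.left ≫ π₀ = f₂.left ≫ π₀
    rw [← cancel_mono j, Category.assoc, Category.assoc, hj, hinv])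
  have hrel : ∀ {T : Scheme.{u}} (a b : T ⟶ X.left), a ≫ π₀ = b ≫ π₀ → RelPt f₁ f₂ a b := fun a b h => by
    have h1 : a ≫ g.left = b ≫ g.left := by rw [← hj, reassoc_of% h]
    refine hker a b ?_ h1
    rw [← Over.w g, reassoc_of% h1]
  have hdesc : ∀ (s : Cofork f₁ f₂) {T : Scheme.{u}} (a b : T ⟶ X.left), a ≫ π₀ = b ≫ π₀ →
      a ≫ s.π.left = b ≫ s.π.left := fun s T a b h => by
    obtain ⟨r, rfl, rfl⟩ := hrel a b h
    rw [Category.assoc, Category.assoc]
    exact congrArg (fun k : R ⟶ s.pt => r ≫ k.left) s.condition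
  refine ⟨Q, q, w, ⟨Cofork.IsColimit.mk _
      (fun s => Over.homMk (EffectiveEpi.desc π₀ s.π.left (hdesc s))
        ((cancel_epi π₀).1 (by
          rw [EffectiveEpi.fac_assoc, Over.w]
          exact (Over.w q).symm)))
      (fun s => Over.OverMorphism.ext (EffectiveEpi.fac π₀ _ (hdesc s)))
      (fun s m hm => Over.OverMorphism.ext (EffectiveEpi.uniq π₀ _ (hdesc s) _ (congrArg CommaMorphism.left hm)))⟩,
    ⟨j, inferInstance, rfl⟩, ?_, π₀.surjective, ‹_›, ‹_›, fun T a b h => ?_⟩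
  · refine ⟨?_⟩
    rw [← π₀.surjective.range_eq]
    exact isCompact_range π₀.continuous
  · obtain ⟨r, h₁, h₂⟩ := hrel a.left b.left (congrArg CommaMorphism.left h)
    exact ⟨Over.homMk r (by rw [← Over.w f₁, ← Category.assoc, h₁]; exact Over.w a),
      Over.OverMorphism.ext h₁, Over.OverMorphism.ext h₂⟩

end Groth.Agent.QuotRep
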