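import Groth.Agent.CMRegLib.BoundFree
import Groth.Agent.CMRegLib.EulerPoly
import Groth.Agent.HilbStratLib.ProjFibre

/-!
# Uniform regularity of quotients of a free module
-/

set_option autoImplicit false
set_option linter.style.haveILetI false
set_option backward.isDefEq.respectTransparency false

universe u

open CategoryTheory CategoryTheory.Limits AlgebraicGeometry
open Groth.Agent.DCohLib Groth.Agent.PullbackMod Groth.Agent.CMRegLib

noncomputable section

namespace Groth.Agent.QuotRep

/-- Quotients of a free module with given Hilbert polynomial are uniformly regular, as are the kernels. -/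
theorem exists_regular_bound (n p : ℕ) (Φ : Polynomial ℚ) :
    ∃ m₀ : ℕ, ∀ (k : Type u) [Field k] (F : (CohB1.ProjSpace n k).Modules)
      (q : FlatMod.freeMod (CohB1.ProjSpace n k) p ⟶ F) [Epi q], Coh.IsCoh F →
      (∀ t : ℤ, (Curv2.euler k (CohB1.ProjSpace n k) (CohB1.tensorMod F (Twist.twistProjSpace n k t)) : ℚ) =
        Φ.eval (t : ℚ)) →
      Curv2.IsMRegular k n F (m₀ : ℤ) ∧ Curv2.IsMRegular k n (kernel q) (m₀ : ℤ) := by
  let f : ℤ → ℤ := fun r => (p : ℤ) * Ring.choose (r + n) n - ⌊Φ.eval (r : ℚ)⌋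
  refine ⟨(mumB n p (n + 1) f).toNat, fun k _ F q _ hF hΦ => ?_⟩
  rcases Nat.eq_zero_or_pos n with hn | hn
  · exact ⟨fun i hi hin => by omega, fun i hi hin => by omega⟩
  haveI := isNoetherian_projSpace (k := k) (n := n)
  have hK := shortExact_ker q
  have hKcoh : Coh.IsCoh (kernel q) := (QCohLib.isCoh_kernel_cokernel q (isCoh_freeMod p) hF).1
  have hreg : Curv2.IsMRegular k n (kernel q) (mumB n p (n + 1) f) := by
    refine regular_of_sub_free (kernel.ι q) hKcoh f fun r => ?_
    have h := euler_tw (kernel.ι q) q (kernel.condition _) hK hKcoh (isCoh_freeMod p) hF r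
    rw [euler_freeMod_tw hn] at h
    show _ = (p : ℤ) * Ring.choose (r + n) n - ⌊Φ.eval (r : ℚ)⌋
    rw [← hΦ r, Int.floor_intCast]
    exact eq_sub_of_add_eq h.symm
  have hKm : Curv2.IsMRegular k n (kernel q) ((mumB n p (n + 1) f).toNat : ℤ) :=
    regular_mono hKcoh (Int.self_le_toNat _) hreg
  exact ⟨fun i hi hin => HT.right hK (HT_freeMod p _ hi (by omega))
    (vanish_ge hKcoh hKm (by omega) (by omega)), hKm⟩

end Groth.Agent.QuotRep
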