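import Groth.Agent.QuotRepLib.Bound
import Groth.Agent.QuotRepLib.FlatPull
import Groth.Agent.QuotRepLib.Basic
import Groth.Agent.HilbStratLib.RegularFibres
import Groth.Agent.FlatStratLib.Proj
import Groth.Agent.S4654

/-!
# Regularity of the fibres of quotients of a twisted free module
-/

set_option autoImplicit false
set_option backward.isDefEq.respectTransparency false
set_option linter.style.haveILetI false
set_option linter.unusedSectionVars false

universe u

open CategoryTheory CategoryTheory.Limits AlgebraicGeometry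

noncomputable section

namespace Groth.Agent.QuotRep

variable {n : ℕ} {T : Scheme.{u}} [IsLocallyNoetherian T]

/-- Modules on projective space with regular fibres have no higher fibre cohomology in high twists. -/
theorem fiberRank_eq_zero_of_regular {Q : (CohB1.ProjSpaceOver n T).Modules} (hQ : Coh.IsCoh Q) {m : ℤ}
    (y : T) (hreg : Curv2.IsMRegular (T.residueField y) n ((Scheme.Modules.pullback (GenSeesawLib.fibreMap n T y)).obj Q) m)
    {d : ℤ} {i : ℕ} (hi : 1 ≤ i) (hd : m - i ≤ d) :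
    CohIII.fiberRank (CohB1.ProjSpaceOver.toBase n T) (CohB1.tensorMod Q (Twist.twistOver n T d)) i y = 0 := by
  haveI : IsProper (CohB1.ProjSpaceOver.toBase n T) := BCLib.isProper_toBase n T
  haveI : IsLocallyNoetherian (CohB1.ProjSpaceOver n T) :=
    LocallyOfFiniteType.isLocallyNoetherian (CohB1.ProjSpaceOver.toBase n T)
  haveI : IsProper (CohB1.ProjSpace n (T.residueField y) ↘ Spec (CommRingCat.of (T.residueField y))) :=
    CompleteCurve.isProper_toSpec n _
  haveI := CMRegLib.isNoetherian_projSpace (k := T.residueField y) (n := n)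
  have hL := GenSeesawLib.isInvertible_twistOver n T d
  haveI : Coh.IsQCoh (CohB1.tensorMod Q (Twist.twistOver n T d)) := (CMRegLib.isCoh_tensor_inv hQ hL).1
  obtain ⟨e⟩ := HilbStratLib.nonempty_twist_fibre (n := n) y d
  haveI := CMRegLib.vanish_ge (PullbackMod.isCoh_pullback (GenSeesawLib.fibreMap n T y) Q hQ) hreg hi hd
  rw [HilbStratLib.fiberRank_proj, CMRegLib.hh_finrank_iso (AmpleLib.pullTensor _ Q _ ≪≫ AmpleLib.tIso (Iso.refl _) e) i]
  exact Module.finrank_zero_of_subsingleton

/-- The counit is an epimorphism in high twists of a flat module with regular fibres. -/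
theorem epi_counit_of_regular {Q : (CohB1.ProjSpaceOver n T).Modules} (hQ : Coh.IsCoh Q)
    (hflat : FlatMod.IsFlatOver (CohB1.ProjSpaceOver.toBase n T) Q) {m : ℤ}
    (hreg : ∀ y : T, Curv2.IsMRegular (T.residueField y) n ((Scheme.Modules.pullback (GenSeesawLib.fibreMap n T y)).obj Q) m)
    {d : ℤ} (hd : m ≤ d) :
    Epi ((Scheme.Modules.pullbackPushforwardAdjunction (CohB1.ProjSpaceOver.toBase n T)).counit.app
        (CohB1.tensorMod Q (Twist.twistOver n T d))) := by
  let f := CohB1.ProjSpaceOver.toBase n T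
  haveI : IsProper f := BCLib.isProper_toBase n T
  haveI := GenSeesawLib.lfp_toBase n T
  haveI : IsLocallyNoetherian (CohB1.ProjSpaceOver n T) := LocallyOfFiniteType.isLocallyNoetherian f
  haveI : HasInjectiveResolutions (CohB1.ProjSpaceOver n T).Modules := inferInstance
  have hcoh : ∀ j : ℤ, Coh.IsCoh (CohB1.tensorMod Q (Twist.twistOver n T j)) := fun j =>
    CMRegLib.isCoh_tensor_inv hQ (GenSeesawLib.isInvertible_twistOver n T j)
  refine S19429.result n T _ (hcoh d).1 fun i hi => ?_
  have hzero : IsZero ((Coh.Rpush f i).obj (CohB1.tensorMod Q (Twist.twistOver n T (d - i)))) := by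
    haveI := hQ.1
    haveI : Coh.IsQCoh (DCohLib.tmod Q (Twist.twistOver n T (d - i))) := (hcoh _).1
    haveI : Coh.IsQCoh (CohB1.tensorMod Q (Twist.twistOver n T (d - i))) := (hcoh _).1
    have hfl := TwistFlat.isFlatOver_tensor f (GenSeesawLib.isInvertible_twistOver n T (d - i)) hflat
    exact S15985.result f _ (QCohLib.isFP_of_isCoh _ (hcoh _)) hfl i fun y =>
      BCLib.subsingleton_fiberH_of_fiberRank_eq_zero f (hcoh _) hfl i y
        (fiberRank_eq_zero_of_regular hQ y (hreg y) hi (by omega))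
  obtain ⟨e1⟩ := HilbStratLib.nonempty_twistOver_mul (n := n) (S := T) (show d + -(i : ℤ) = d - i by ring)
  let e : KRR.twF n T (-(i : ℤ)) (CohB1.tensorMod Q (Twist.twistOver n T d)) ≅
      CohB1.tensorMod Q (Twist.twistOver n T (d - i)) :=
    AmpleLib.comm _ _ ≪≫ AmpleLib.assoc _ _ _ ≪≫ AmpleLib.tIso (Iso.refl Q) e1
  haveI := (hcoh (d - i)).1
  obtain ⟨e'⟩ := S11319.result f (CohB1.tensorMod Q (Twist.twistOver n T (d - i))) i
  exact (((QCohLib.toAbF T).map_isZero hzero).of_iso e'.symm).of_iso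
    ((Coh.RpushAb f i).mapIso ((QCohLib.toAbF _).mapIso e))

/-- The fibres of a flat quotient of a free module with given Hilbert polynomial, and of its kernel, are regular. -/
theorem regular_of_quotient {p : ℕ} {Φ : Polynomial ℚ} {m₀ : ℕ}
    (hb : ∀ (k : Type u) [Field k] (F : (CohB1.ProjSpace n k).Modules)
      (q : FlatMod.freeMod (CohB1.ProjSpace n k) p ⟶ F) [Epi q], Coh.IsCoh F →
      (∀ t : ℤ, (Curv2.euler k (CohB1.ProjSpace n k) (CohB1.tensorMod F (Twist.twistProjSpace n k t)) : ℚ) =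
        Φ.eval (t : ℚ)) →
      Curv2.IsMRegular k n F (m₀ : ℤ) ∧ Curv2.IsMRegular k n (kernel q) (m₀ : ℤ))
    {Q : (CohB1.ProjSpaceOver n T).Modules} (ρ : FlatMod.freeMod (CohB1.ProjSpaceOver n T) p ⟶ Q) [Epi ρ]
    (hQ : Coh.IsCoh Q) (hfl : FlatMod.IsFlatOver (CohB1.ProjSpaceOver.toBase n T) Q) (d : ℕ)
    (hΦ : ∀ (y : T) (m : ℕ), (HilbStratLib.eul (CohB1.ProjSpaceOver.toBase n T)
      (CohB1.tensorMod Q (Twist.twistOver n T d)) (Twist.twistOver n T 1) y m : ℚ) = Φ.eval ((m + d : ℕ) : ℚ)) (y : T) :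
    Curv2.IsMRegular (T.residueField y) n ((Scheme.Modules.pullback (GenSeesawLib.fibreMap n T y)).obj Q) (m₀ : ℤ) ∧
      Curv2.IsMRegular (T.residueField y) n
        ((Scheme.Modules.pullback (GenSeesawLib.fibreMap n T y)).obj (kernel ρ)) (m₀ : ℤ) := by
  let k := T.residueField y
  let i := GenSeesawLib.fibreMap n T y
  let P := CohB1.ProjSpace n k
  haveI : IsProper (CohB1.ProjSpaceOver.toBase n T) := BCLib.isProper_toBase n T
  haveI : IsLocallyNoetherian (CohB1.ProjSpaceOver n T) :=
    LocallyOfFiniteType.isLocallyNoetherian (CohB1.ProjSpaceOver.toBase n T)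
  haveI : IsProper (P ↘ Spec (CommRingCat.of k)) := CompleteCurve.isProper_toSpec n k
  haveI := CMRegLib.isNoetherian_projSpace (k := k) (n := n)
  have hfree : Coh.IsCoh (FlatMod.freeMod (CohB1.ProjSpaceOver n T) p) :=
    CMRegLib.isCoh_sigma_fin _ fun _ => DevLib.isCoh_structureModule _
  have hK : Coh.IsCoh (kernel ρ) := (QCohLib.isCoh_kernel_cokernel ρ hfree hQ).1
  haveI := hK.1; haveI := hQ.1; haveI := hfree.1
  let F := (Scheme.Modules.pullback i).obj Q
  have hF : Coh.IsCoh F := PullbackMod.isCoh_pullback i Q hQ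
  let q : FlatMod.freeMod P p ⟶ F := (DCohLib.pullFreeIso i p).inv ≫ (Scheme.Modules.pullback i).map ρ
  haveI : (Scheme.Modules.pullback i).IsLeftAdjoint :=
    (Scheme.Modules.pullbackPushforwardAdjunction i).isLeftAdjoint
  haveI : Epi q := epi_comp _ _
  have hd : ∀ t : ℤ, (Curv2.euler k P (CohB1.tensorMod F (Twist.twistProjSpace n k t)) : ℚ) = Φ.eval (t : ℚ) := by
    obtain ⟨R, hR⟩ := HilbStratLib.exists_euler_poly hF
    have hRΦ : R = Φ := by
      refine Polynomial.eq_of_infinite_eval_eq _ _ (Set.Infinite.mono (s := Set.range fun m : ℕ => ((m + d : ℕ) : ℚ)) ?_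
        (Set.infinite_range_of_injective fun a b h => by simpa using h))
      rintro _ ⟨m, rfl⟩
      show R.eval ((m + d : ℕ) : ℚ) = Φ.eval _
      rw [← hΦ y m, show ((m + d : ℕ) : ℚ) = (((m + d : ℕ) : ℤ) : ℚ) by push_cast; ring, ← hR,
        HilbStratLib.eul_eq_euler (CMRegLib.isCoh_tensor_inv hQ (GenSeesawLib.isInvertible_twistOver n T d))]
      obtain ⟨e⟩ := HilbStratLib.nonempty_twist_fibre (n := n) y (d : ℤ)
      exact congrArg Int.cast (CurveLib.euler_iso (K := k)
        (asIso (CMRegLib.mulMap F (show (d : ℤ) + (m : ℤ) = ((m + d : ℕ) : ℤ) by push_cast; ring))).symm |>.trans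
          (CurveLib.euler_iso (K := k) (AmpleLib.tIso (AmpleLib.pullTensor i Q _ ≪≫ AmpleLib.tIso (Iso.refl _) e).symm
            (Iso.refl _))))
    intro t
    rw [← hRΦ]
    exact hR t
  obtain ⟨h1, h2⟩ := hb k F q hF hd
  refine ⟨h1, fun j hj hjn => ?_⟩
  let f := CohB1.ProjSpaceOver.toBase n T
  have hc : IsPullback i ((GenSeesawLib.fibreIso n T y).hom ≫ f.fiberToSpecResidueField y) f
      (𝟙 _ ≫ T.fromSpecResidueField y) :=
    (IsPullback.of_horiz_isIso (fst := (GenSeesawLib.fibreIso n T y).hom) (g := 𝟙 _)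
      ⟨by rw [Category.comp_id]; rfl⟩).paste_horiz (IsPullback.of_hasPullback f (T.fromSpecResidueField y))
  have hS := shortExact_pullback_of_flat hc (CMRegLib.shortExact_ker ρ) hfl
  haveI : Mono ((Scheme.Modules.pullback i).map (kernel.ι ρ)) := hS.mono_f
  have hw : ((Scheme.Modules.pullback i).map (kernel.ι ρ) ≫ (DCohLib.pullFreeIso i p).hom) ≫ q = 0 := by
    simp [q, ← Functor.map_comp]
  have hS' : (ShortComplex.mk _ q hw).ShortExact :=
    ShortComplex.shortExact_of_iso
      (S₁ := (ShortComplex.mk (kernel.ι ρ) ρ (kernel.condition ρ)).map (Scheme.Modules.pullback i))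
      (ShortComplex.isoMk (Iso.refl _) (DCohLib.pullFreeIso i p) (Iso.refl _) (Category.id_comp _)
        ((Iso.hom_inv_id_assoc _ _).trans (Category.comp_id _).symm)) hS
  let e : (Scheme.Modules.pullback i).obj (kernel ρ) ≅ kernel q :=
    hS'.fIsKernel.conePointUniqueUpToIso (limit.isLimit (parallelPair q 0))
  exact CMRegLib.HT.iso e.symm (h2 j hj hjn)

end Groth.Agent.QuotRep
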