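import Groth.Agent.QuotRepLib.GoodAmb
import Groth.Agent.QuotRepLib.ProjReg
import Groth.Agent.DCohMore.DescFPPF
import Groth.Agent.GenBCLib.RankGoal
import Groth.Agent.ProjTwistLib.Mul

/-!
# Projective space as an ambient space
-/

set_option autoImplicit false
set_option backward.isDefEq.respectTransparency false
set_option linter.style.haveILetI false
set_option linter.unusedSectionVars false

universe u

open CategoryTheory CategoryTheory.Limits AlgebraicGeometry

noncomputable section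

namespace Groth.Agent.QuotRep

variable {X X' S T : Scheme.{u}}

/-- The counit is an epimorphism once the module is globally generated relative to the base after an isomorphism. -/
theorem epi_counit_of_iso {f' : X' ⟶ T} {f : X ⟶ T} (J : X' ⟶ X) [IsIso J] (hJ : J ≫ f = f') (M : X.Modules)
    (h : Epi ((Scheme.Modules.pullbackPushforwardAdjunction f').counit.app ((Scheme.Modules.pullback J).obj M))) :
    Epi ((Scheme.Modules.pullbackPushforwardAdjunction f).counit.app M) := by
  haveI := h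
  haveI : (Scheme.Modules.pullback (inv J)).IsLeftAdjoint :=
    (Scheme.Modules.pullbackPushforwardAdjunction (inv J)).isLeftAdjoint
  let A := (Scheme.Modules.pushforward f').obj ((Scheme.Modules.pullback J).obj M)
  let φ : (Scheme.Modules.pullback f).obj A ⟶ M :=
    (Scheme.Modules.pullbackCongr (show f = inv J ≫ f' by rw [← hJ, IsIso.inv_hom_id_assoc])).hom.app A ≫
      ((Scheme.Modules.pullbackComp (inv J) f').inv.app A ≫
        (Scheme.Modules.pullback (inv J)).map
          ((Scheme.Modules.pullbackPushforwardAdjunction f').counit.app ((Scheme.Modules.pullback J).obj M))) ≫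
      (Scheme.Modules.pullbackComp (inv J) J).hom.app M ≫
      (Scheme.Modules.pullbackCongr (IsIso.inv_hom_id J)).hom.app M ≫ (Scheme.Modules.pullbackId X).hom.app M
  haveI : Epi φ := by infer_instance
  let adj := Scheme.Modules.pullbackPushforwardAdjunction f
  have hφ : (Scheme.Modules.pullback f).map (adj.homEquiv _ _ φ) ≫ adj.counit.app M = φ := by
    exact (adj.homEquiv_counit _ _ _).symm.trans (Equiv.symm_apply_apply _ _)
  haveI : Epi ((Scheme.Modules.pullback f).map (adj.homEquiv _ _ φ) ≫ adj.counit.app M) := by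
    rw [hφ]; infer_instance
  exact epi_of_epi ((Scheme.Modules.pullback f).map (adj.homEquiv _ _ φ)) _

theorem epi_counit_congr {f : X ⟶ T} {M N : X.Modules} (e : M ≅ N)
    (h : Epi ((Scheme.Modules.pullbackPushforwardAdjunction f).counit.app M)) :
    Epi ((Scheme.Modules.pullbackPushforwardAdjunction f).counit.app N) := by
  haveI := h
  haveI : Epi ((Scheme.Modules.pushforward f ⋙ Scheme.Modules.pullback f).map e.hom ≫
      (Scheme.Modules.pullbackPushforwardAdjunction f).counit.app N) := by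
    rw [(Scheme.Modules.pullbackPushforwardAdjunction f).counit.naturality]
    infer_instance
  exact epi_of_epi ((Scheme.Modules.pushforward f ⋙ Scheme.Modules.pullback f).map e.hom) _

theorem nonempty_twistOver_zero (n : ℕ) (S : Scheme.{u}) :
    Nonempty (Twist.twistOver n S 0 ≅ Coh.structureModule (CohB1.ProjSpaceOver n S)) :=
  (ProjTwistLib.nonempty_zero_iso (𝒜 := CohB1.polyGrading n (ULift.{u} ℤ))).map fun e =>
    (Scheme.Modules.pullback _).mapIso e ≪≫ DCohLib.pullStructureIso _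

variable {n p d : ℕ} [IsNoetherian S]

/-- The twisted free module on projective space. -/
abbrev ambMod (n p d : ℕ) (S : Scheme.{u}) : (CohB1.ProjSpaceOver n S).Modules :=
  CohB1.tensorMod (FlatMod.freeMod (CohB1.ProjSpaceOver n S) p) (Twist.twistOver n S d)

theorem isCoh_freeMod' (Y : Scheme.{u}) [IsLocallyNoetherian Y] (p : ℕ) : Coh.IsCoh (FlatMod.freeMod Y p) :=
  CMRegLib.isCoh_sigma_fin _ fun _ => DevLib.isCoh_structureModule _

theorem isCoh_ambMod : Coh.IsCoh (ambMod n p d S) := by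
  haveI : IsProper (CohB1.ProjSpaceOver.toBase n S) := BCLib.isProper_toBase n S
  haveI : IsLocallyNoetherian (CohB1.ProjSpaceOver n S) :=
    LocallyOfFiniteType.isLocallyNoetherian (CohB1.ProjSpaceOver.toBase n S)
  exact CMRegLib.isCoh_tensor_inv (isCoh_freeMod' _ p) (GenSeesawLib.isInvertible_twistOver n S d)

theorem isFlatOver_free {T : Scheme.{u}} (p : ℕ) :
    FlatMod.IsFlatOver (CohB1.ProjSpaceOver.toBase n T) (FlatMod.freeMod (CohB1.ProjSpaceOver n T) p) := by
  haveI : Flat (CohB1.ProjSpaceOver.toBase n T) := GenSeesawLib.flat_toBase n T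
  exact TildePerf.isFlatOver_of_isFinLocFree _
    (DCohLib.isFinLocFree_freeMod p)

theorem isFlatOver_ambMod : FlatMod.IsFlatOver (CohB1.ProjSpaceOver.toBase n S) (ambMod n p d S) := by
  haveI : IsProper (CohB1.ProjSpaceOver.toBase n S) := BCLib.isProper_toBase n S
  haveI : IsLocallyNoetherian (CohB1.ProjSpaceOver n S) :=
    LocallyOfFiniteType.isLocallyNoetherian (CohB1.ProjSpaceOver.toBase n S)
  haveI := (isCoh_freeMod' (CohB1.ProjSpaceOver n S) p).1
  haveI : Coh.IsQCoh (DCohLib.tmod (FlatMod.freeMod (CohB1.ProjSpaceOver n S) p) (Twist.twistOver n S d)) :=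
    (isCoh_ambMod (n := n) (p := p) (d := d) (S := S)).1
  exact TwistFlat.isFlatOver_tensor _ (GenSeesawLib.isInvertible_twistOver n S d) (isFlatOver_free p)

theorem isIso_bc0_ambMod {T X' : Scheme.{u}} {k : X' ⟶ CohB1.ProjSpaceOver n S} {f' : X' ⟶ T} {g : T ⟶ S}
    (h : IsPullback k f' (CohB1.ProjSpaceOver.toBase n S) g) :
    IsIso (CohBC.bc0 (CohB1.ProjSpaceOver.toBase n S) g f' k h.w (ambMod n p d S)) := by
  haveI : IsProper (CohB1.ProjSpaceOver.toBase n S) := BCLib.isProper_toBase n S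
  haveI := GenSeesawLib.lfp_toBase n S
  haveI : IsLocallyNoetherian (CohB1.ProjSpaceOver n S) :=
    LocallyOfFiniteType.isLocallyNoetherian (CohB1.ProjSpaceOver.toBase n S)
  have hF := isCoh_ambMod (n := n) (p := p) (d := d) (S := S)
  refine FlatStrat.isIso_bc0_of_vanish h (QCohLib.isFP_of_isCoh _ hF) isFlatOver_ambMod fun y => ?_
  refine BCLib.subsingleton_fiberH_of_fiberRank_eq_zero _ hF isFlatOver_ambMod 1 y ?_
  refine fiberRank_eq_zero_of_regular (isCoh_freeMod' _ p) y ?_ le_rfl (m := 0) (by omega)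
  exact fun i hi hin => CMRegLib.HT.iso (DCohLib.pullFreeIso _ p).symm
    (CMRegLib.regular_freeMod p i hi hin)

theorem floor_toNat_eq {r : ℕ} {x : ℚ} (h : (r : ℚ) = x) : ⌊x⌋.toNat = r := by
  rw [← h, Int.floor_natCast, Int.toNat_natCast]

theorem amb_proj {Φ : Polynomial ℚ} {m₀ : ℕ}
    (hb : ∀ (k : Type u) [Field k] (F : (CohB1.ProjSpace n k).Modules)
      (q : FlatMod.freeMod (CohB1.ProjSpace n k) p ⟶ F) [Epi q], Coh.IsCoh F →
      (∀ t : ℤ, (Curv2.euler k (CohB1.ProjSpace n k) (CohB1.tensorMod F (Twist.twistProjSpace n k t)) : ℚ) =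
        Φ.eval (t : ℚ)) →
      Curv2.IsMRegular k n F (m₀ : ℤ) ∧ Curv2.IsMRegular k n (kernel q) (m₀ : ℤ))
    (hd : m₀ ≤ d) :
    Amb (CohB1.ProjSpaceOver.toBase n S) (ambMod n p d S) (Twist.twistOver n S 1)
      (Φ.comp (Polynomial.X + Polynomial.C (d : ℚ))) ⌊Φ.eval (d : ℚ)⌋.toNat := by
  let π := CohB1.ProjSpaceOver.toBase n S
  haveI : IsProper π := BCLib.isProper_toBase n S
  haveI : IsLocallyNoetherian (CohB1.ProjSpaceOver n S) := LocallyOfFiniteType.isLocallyNoetherian π
  refine ⟨fun T _ => isIso_bc0_ambMod (IsPullback.of_hasPullback π T.hom), fun T _ G ρ hρ hG hGfl hGΦ => ?_⟩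
  haveI := hρ
  let P := CohB1.ProjSpaceOver n T.left
  let f := CohB1.ProjSpaceOver.toBase n T.left
  let fT := PicF.XTproj π T
  haveI : IsProper f := BCLib.isProper_toBase n T.left
  haveI := GenSeesawLib.lfp_toBase n T.left
  haveI : IsLocallyNoetherian P := LocallyOfFiniteType.isLocallyNoetherian f
  haveI : IsProper fT := MorphismProperty.pullback_snd (P := @IsProper) _ _ ‹IsProper π›
  haveI := isLocallyNoetherian_XT (f := π) (T := T)
  let J : P ⟶ PicF.XT π T :=
    pullback.lift (FGA.projMap n T.hom) f (FlatStrat.isPullback_projMap T.hom).w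
  have hJ1 : J ≫ pullback.fst π T.hom = FGA.projMap n T.hom := pullback.lift_fst _ _ _
  have hJ : J ≫ fT = f := pullback.lift_snd _ _ _
  haveI : IsIso J := by
    have : J = (FlatStrat.isPullback_projMap T.hom).isoPullback.hom := by
      apply pullback.hom_ext
      · exact hJ1.trans (IsPullback.isoPullback_hom_fst _).symm
      · exact hJ.trans (IsPullback.isoPullback_hom_snd _).symm
    rw [this]; infer_instance
  have hsq : IsPullback J f fT (𝟙 T.left) := IsPullback.of_horiz_isIso ⟨by rw [Category.comp_id]; exact hJ⟩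
  haveI : PreservesFiniteLimits (Scheme.Modules.pullback J) := DCohMore.preservesFiniteLimits_pullback_of_flat J
  haveI := hG.1
  haveI : Coh.IsQCoh (ambMod n p d S) := (isCoh_ambMod (n := n) (p := p) (d := d) (S := S)).1
  let E' := FGA.ET π (ambMod n p d S) T
  have hE' : Coh.IsCoh E' := PullbackMod.isCoh_pullback _ _ isCoh_ambMod
  haveI := hE'.1
  let K := kernel ρ
  have hK : Coh.IsCoh K := (QCohLib.isCoh_kernel_cokernel ρ hE' hG).1
  haveI := hK.1
  have hS := CMRegLib.shortExact_ker ρ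
  have hE'fl : FlatMod.IsFlatOver fT E' :=
    FlatStrat.isFlatOver_baseChange (IsPullback.of_hasPullback π T.hom) isFlatOver_ambMod
  have hKfl : FlatMod.IsFlatOver fT K := (S4654.result fT _ hS hK.1 hE'.1 hG.1 hGfl).1 hE'fl
  -- the modules on projective space over `T`
  let G₀ := (Scheme.Modules.pullback J).obj G
  let K₀ := (Scheme.Modules.pullback J).obj K
  let L₁ := Twist.twistOver n T.left (-(d : ℤ))
  let Ld := Twist.twistOver n T.left (d : ℤ)
  have hL₁ := GenSeesawLib.isInvertible_twistOver n T.left (-(d : ℤ))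
  have hG₀ : Coh.IsCoh G₀ := PullbackMod.isCoh_pullback J G hG
  have hK₀ : Coh.IsCoh K₀ := PullbackMod.isCoh_pullback J K hK
  haveI := hG₀.1; haveI := hK₀.1
  let Q := CohB1.tensorMod G₀ L₁
  let K' := CohB1.tensorMod K₀ L₁
  have hQ : Coh.IsCoh Q := CMRegLib.isCoh_tensor_inv hG₀ hL₁
  have hK' : Coh.IsCoh K' := CMRegLib.isCoh_tensor_inv hK₀ hL₁
  haveI := hQ.1; haveI := hK'.1
  haveI : Coh.IsQCoh (DCohLib.tmod G₀ L₁) := hQ.1
  haveI : Coh.IsQCoh (DCohLib.tmod K₀ L₁) := hK'.1
  obtain ⟨e₀⟩ := HilbStratLib.nonempty_twistOver_mul (n := n) (S := T.left) (show -(d : ℤ) + (d : ℤ) = 0 by ring)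
  obtain ⟨e₁⟩ := HilbStratLib.nonempty_twistOver_mul (n := n) (S := T.left) (show (d : ℤ) + -(d : ℤ) = 0 by ring)
  obtain ⟨e2⟩ := nonempty_twistOver_zero n T.left
  let cancel : ∀ M : P.Modules, CohB1.tensorMod (CohB1.tensorMod M L₁) Ld ≅ M := fun M =>
    AmpleLib.assoc _ _ _ ≪≫ AmpleLib.tIso (Iso.refl _) (e₀ ≪≫ e2) ≪≫ AmpleLib.unitR M
  let cancel' : ∀ M : P.Modules, CohB1.tensorMod (CohB1.tensorMod M Ld) L₁ ≅ M := fun M =>
    AmpleLib.assoc _ _ _ ≪≫ AmpleLib.tIso (Iso.refl _) (e₁ ≪≫ e2) ≪≫ AmpleLib.unitR M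
  let eJ : (Scheme.Modules.pullback J).obj E' ≅ CohB1.tensorMod (FlatMod.freeMod P p) Ld :=
    (Scheme.Modules.pullbackComp J (pullback.fst π T.hom)).app _ ≪≫ (Scheme.Modules.pullbackCongr hJ1).app _ ≪≫
      AmpleLib.pullTensor _ _ _ ≪≫ AmpleLib.tIso (DCohLib.pullFreeIso _ p) (FlatStrat.pullTwist T.hom d)
  let eF : CohB1.tensorMod ((Scheme.Modules.pullback J).obj E') L₁ ≅ FlatMod.freeMod P p :=
    AmpleLib.tIso eJ (Iso.refl _) ≪≫ cancel' _
  let Sq := (((ShortComplex.mk (kernel.ι ρ) ρ (kernel.condition ρ)).map (Scheme.Modules.pullback J)).map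
    (CurveLib.tensR L₁))
  have hSq : Sq.ShortExact := CurveLib.shortExact_tensR (hS.map_of_exact _)
    fun x => CurveLib.freeAt_one_of_isInvertible hL₁ x
  haveI := hSq.epi_g
  let ρ₀ : FlatMod.freeMod P p ⟶ Q := eF.inv ≫ Sq.g
  haveI : Epi ρ₀ := epi_comp _ _
  let eK : kernel ρ₀ ≅ K' :=
    kernelIsIsoComp eF.inv Sq.g ≪≫ (hSq.fIsKernel.conePointUniqueUpToIso (limit.isLimit (parallelPair Sq.g 0))).symm
  have hQfl : FlatMod.IsFlatOver f Q := TwistFlat.isFlatOver_tensor f hL₁ (FlatStrat.isFlatOver_baseChange hsq hGfl)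
  have hK'fl : FlatMod.IsFlatOver f K' := TwistFlat.isFlatOver_tensor f hL₁ (FlatStrat.isFlatOver_baseChange hsq hKfl)
  have heul : ∀ (y : T.left) (m : ℕ), (HilbStratLib.eul f G₀ (Twist.twistOver n T.left 1) y m : ℚ) =
      Φ.eval ((m + d : ℕ) : ℚ) := by
    intro y m
    let eL : (Scheme.Modules.pullback J).obj (FGA.ET π (Twist.twistOver n S 1) T) ≅ Twist.twistOver n T.left 1 :=
      (Scheme.Modules.pullbackComp J (pullback.fst π T.hom)).app _ ≪≫ (Scheme.Modules.pullbackCongr hJ1).app _ ≪≫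
        FlatStrat.pullTwist T.hom 1
    rw [← congrFun (FlatStrat.eul_congr f (Iso.refl G₀) eL y) m,
      congrFun (HilbStratLib.eul_baseChange hsq (QCohLib.isFP_of_isCoh G hG)
        (AmpleLib.isInvertible_pullback _ (GenSeesawLib.isInvertible_twistOver n S 1)) y) m]
    refine (hGΦ y m).trans ?_
    simp [Polynomial.eval_comp]
  have hreg := fun y => regular_of_quotient hb ρ₀ hQ hQfl d (fun y m => by
    rw [congrFun (FlatStrat.eul_congr f (cancel G₀) (Iso.refl _) y) m]
    exact heul y m) y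
  have hregK : ∀ y : T.left, Curv2.IsMRegular (T.left.residueField y) n
      ((Scheme.Modules.pullback (GenSeesawLib.fibreMap n T.left y)).obj K') (m₀ : ℤ) := fun y i hi hin =>
    CMRegLib.HT.iso ((Scheme.Modules.pullback _).mapIso eK) ((hreg y).2 i hi hin)
  have hz : ∀ (M : P.Modules) (N : (PicF.XT π T).Modules) [Coh.IsQCoh N], Coh.IsCoh M →
      (CohB1.tensorMod M Ld ≅ (Scheme.Modules.pullback J).obj N) →
      (∀ y : T.left, Curv2.IsMRegular (T.left.residueField y) n
        ((Scheme.Modules.pullback (GenSeesawLib.fibreMap n T.left y)).obj M) (m₀ : ℤ)) →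
      ∀ (y : T.left) (i : ℕ), 1 ≤ i → CohIII.fiberRank fT N i y = 0 := by
    intro M N _ hM e hr y i hi
    rw [← show CohIII.fiberRank f ((Scheme.Modules.pullback J).obj N) i y = CohIII.fiberRank fT N i y from
      BCLib.fiberRank_baseChange hsq N i y]
    haveI : Coh.IsQCoh (CohB1.tensorMod M Ld) :=
      (CMRegLib.isCoh_tensor_inv hM (GenSeesawLib.isInvertible_twistOver n T.left d)).1
    rw [← BCLib.fiberRank_congr f e i y]
    exact fiberRank_eq_zero_of_regular hM y (hr y) hi (by omega)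
  have hzG := hz Q G hQ (cancel G₀) fun y => (hreg y).1
  have hzK := hz K' K hK' (cancel K₀) hregK
  haveI : LocallyOfFinitePresentation fT :=
    MorphismProperty.pullback_snd (P := @LocallyOfFinitePresentation) _ _ (GenSeesawLib.lfp_toBase n S)
  refine ⟨?_, ?_, ?_⟩
  · refine GenBCLib.isFinLocFreeOfRank_of_ptGood _ fun t => ?_
    obtain ⟨V, D, htV⟩ := GenBCLib.exists_dat_at (QCohLib.isFP_of_isCoh G hG) hGfl t
    obtain ⟨a, ha, -, hsp, -⟩ := D.exists_vanish htV
      (BCLib.subsingleton_fiberH_of_fiberRank_eq_zero fT hG hGfl 1 t (hzG t 1 le_rfl))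
    rw [show ⌊Φ.eval (d : ℚ)⌋.toNat = CohIII.fiberRank fT G 0 t from floor_toNat_eq ?_]
    · exact ⟨⟨V, D, a, ha, hsp⟩, D.freeAt_of_good ha hsp⟩
    · have h0 := hGΦ t 0
      have he : HilbStratLib.eul fT G (FGA.ET π (Twist.twistOver n S 1) T) t 0 =
          (CohIII.fiberRank fT G 0 t : ℤ) := by
        refine (finsum_eq_single _ 0 fun i hi => ?_).trans ?_
        · show (-1 : ℤ) ^ i * (CohIII.fiberRank fT _ i t : ℤ) = 0
          rw [(BCLib.fiberRank_congr fT (AmpleLib.unitR G) i t).trans (hzG t i (Nat.one_le_iff_ne_zero.2 hi)) |> (id : _ → CohIII.fiberRank fT (CohB1.tensorMod G (CohB1.tensorPow (FGA.ET π (Twist.twistOver n S 1) T) 0)) i t = 0)]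
          simp
        · show (-1 : ℤ) ^ 0 * (CohIII.fiberRank fT _ 0 t : ℤ) = _
          rw [pow_zero, one_mul]
          exact congrArg Nat.cast (BCLib.fiberRank_congr fT (AmpleLib.unitR G) 0 t)
      rw [he] at h0
      simpa [Polynomial.eval_comp] using h0
  · haveI : HasInjectiveResolutions (PicF.XT π T).Modules := inferInstance
    refine SpSeqLib.epi_map_of_isZero_rightDerived_one (S := Scheme.Modules.pushforward fT) hS ?_
    exact S15985.result fT _ (QCohLib.isFP_of_isCoh _ hK) hKfl 1 fun y =>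
      BCLib.subsingleton_fiberH_of_fiberRank_eq_zero fT hK hKfl 1 y (hzK y 1 le_rfl)
  · refine epi_counit_of_iso J hJ K ?_
    haveI := epi_counit_of_regular hK' hK'fl hregK (d := (d : ℤ)) (by omega)
    exact epi_counit_congr (cancel K₀) inferInstance

end Groth.Agent.QuotRep
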