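import Groth.Agent.QuotRepLib.Sub
import Groth.Agent.GrassShLib.Proper
import Groth.Agent.GrassRepLib.MapEpi
import Groth.Agent.FlatStratLib.Stratum
import Groth.Agent.RpushLib.Finite
import Groth.Agent.S14008

/-!
# The Quot scheme as a flattening stratum in a Grassmannian
-/

set_option autoImplicit false
set_option backward.isDefEq.respectTransparency false
set_option linter.style.haveILetI false
set_option linter.unusedSectionVars false

universe u

open CategoryTheory CategoryTheory.Limits AlgebraicGeometry Grass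
open Groth.Agent.FlagLib Groth.Agent.GrassShLib

noncomputable section

namespace Groth.Agent.QuotRep

variable {X S : Scheme.{u}} (f : X ⟶ S) (E L : X.Modules) (Φ : Polynomial ℚ)

/-- The fibres of `Q` have Euler characteristics given by `Φ`. -/
def HilbCond (T : Over S) (Q : (PicF.XT f T).Modules) : Prop :=
  ∀ (t : T.left) (n : ℕ), (HilbStratLib.eul (PicF.XTproj f T) Q (FGA.ET f L T) t n : ℚ) = Φ.eval (n : ℚ)

/-- The map to the direct image of a quotient. -/
def compT (T : Over S) (K : Subobject (FGA.ET f E T)) :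
    (Scheme.Modules.pullback T.hom).obj (Wd f E) ⟶ (Scheme.Modules.pushforward (PicF.XTproj f T)).obj (cokernel K.arrow) :=
  vT f E T ≫ (Scheme.Modules.pushforward (PicF.XTproj f T)).map (cokernel.π K.arrow)

/-- A submodule determined by the induced quotient of rank `q` of the direct image. -/
structure Good (q : ℕ) (T : Over S) (K : Subobject (FGA.ET f E T)) : Prop where
  rank : FlatMod.IsFinLocFreeOfRank q ((Scheme.Modules.pushforward (PicF.XTproj f T)).obj (cokernel K.arrow))
  epi : Epi (compT f E T K)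
  gen : imageSubobject (((Scheme.Modules.pullbackPushforwardAdjunction (PicF.XTproj f T)).homEquiv _ _).symm
    (kernel.ι (compT f E T K) ≫ vT f E T)) = K

variable {f E L Φ}

/-- The quotient of the direct image attached to a good submodule. -/
def Good.data {q : ℕ} {T : Over S} {K : Subobject (FGA.ET f E T)} (h : Good f E q T K) :
    QData (Wd f E) q T.hom where
  L := _
  s := compT f E T K
  rank := h.rank
  epi := h.epi

theorem Good.sub_data {q : ℕ} {T : Over S} {K : Subobject (FGA.ET f E T)} (h : Good f E q T K) :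
    sub f E T h.data = K := h.gen

theorem Good.cls_eq {q : ℕ} {T : Over S} {K : Subobject (FGA.ET f E T)} (h : Good f E q T K)
    (D : QData (Wd f E) q T.hom) (hD : sub f E T D = K) : D.cls = h.data.cls := by
  have h0 := (imageSubobject_le_iff _ K).1 hD.le
  let adj := Scheme.Modules.pullbackPushforwardAdjunction (PicF.XTproj f T)
  have h1 : (kernel.ι D.s ≫ vT f E T) ≫
      (Scheme.Modules.pushforward (PicF.XTproj f T)).map (cokernel.π K.arrow) = 0 := by
    apply (adj.homEquiv _ _).symm.injective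
    refine (Adjunction.homEquiv_naturality_right_symm adj _ _).trans (h0.trans ?_)
    simp [Adjunction.homEquiv_counit]
  haveI := D.epi
  obtain ⟨u, hu⟩ := CokernelCofork.IsColimit.desc'
    (Abelian.epiIsCokernelOfKernel (KernelFork.ofι (kernel.ι D.s) (kernel.condition _)) (kernelIsKernel D.s))
    (compT f E T K) (by rw [compT, ← Category.assoc]; exact h1)
  change D.s ≫ u = compT f E T K at hu
  haveI := h.epi
  haveI : Epi (D.s ≫ u) := by rw [hu]; infer_instance
  haveI : Epi u := epi_of_epi D.s u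
  haveI : IsIso u := GrassRepLib.isIso_of_epi_rank u D.rank h.rank
  refine Subtype.ext ?_
  show kerS D.s = kerS (compT f E T K)
  rw [← hu]
  exact (kerS_comp_iso _ (asIso u)).symm

theorem hilbCond_iso [IsProper f] {T : Over S} {Q Q' : (PicF.XT f T).Modules} (e : Q ≅ Q')
    (h : HilbCond f L Φ T Q) : HilbCond f L Φ T Q' := fun t n => by
  haveI : IsProper (PicF.XTproj f T) := MorphismProperty.pullback_snd (P := @IsProper) _ _ ‹_›
  rw [← FlatStrat.eul_congr (PicF.XTproj f T) e (Iso.refl _) t]
  exact h t n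

theorem eul_XTmap [IsProper f] {T T' : Over S} (g : T' ⟶ T) {Q : (PicF.XT f T).Modules} (hQ : CohB1.IsFP Q)
    (hL : PicF.IsInvertible L) (t : T'.left) :
    HilbStratLib.eul (PicF.XTproj f T') ((Scheme.Modules.pullback (PicF.XTmap f g)).obj Q) (FGA.ET f L T') t =
      HilbStratLib.eul (PicF.XTproj f T) Q (FGA.ET f L T) (g.left t) := by
  haveI : IsProper (PicF.XTproj f T) := MorphismProperty.pullback_snd (P := @IsProper) _ _ ‹_›
  haveI : IsProper (PicF.XTproj f T') := MorphismProperty.pullback_snd (P := @IsProper) _ _ ‹_›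
  rw [← FlatStrat.eul_congr (PicF.XTproj f T') (Iso.refl _) (FGA.ETiso f L g) t]
  exact HilbStratLib.eul_baseChange (isPullback_XTmap f g) hQ (AmpleLib.isInvertible_pullback _ hL) t

theorem isLocallyNoetherian_XT [IsProper f] {T : Over S} [IsLocallyNoetherian T.left] :
    IsLocallyNoetherian (PicF.XT f T) :=
  haveI : IsProper (PicF.XTproj f T) := MorphismProperty.pullback_snd (P := @IsProper) _ _ ‹_›
  LocallyOfFiniteType.isLocallyNoetherian (PicF.XTproj f T)

theorem hilbCond_qPull [IsProper f] (hL : PicF.IsInvertible L) {T T' : Over S} [IsLocallyNoetherian T.left]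
    (g : T' ⟶ T) (K : FGA.QuotSet f E T) (h : HilbCond f L Φ T (cokernel K.1.arrow)) :
    HilbCond f L Φ T' (cokernel (qPull f E g K).1.arrow) := by
  refine hilbCond_iso (nonempty_cokernel_quotPull f E g K.1).some.symm fun t n => ?_
  haveI := isLocallyNoetherian_XT (f := f) (T := T)
  rw [eul_XTmap g (QCohLib.isFP_of_isCoh _ K.2.1) hL t]
  exact h _ n

variable (f E L Φ) in
/-- The Quot scheme of `Φ`, as a subscheme of the Grassmannian of rank `q` quotients of the direct image. -/
theorem representable [IsNoetherian S] [IsProper f] (hE : Coh.IsCoh E) (hL : RelAmple.IsRelAmple f L) (q : ℕ)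
    (hgood : ∀ (T : Over S) [IsLocallyNoetherian T.left] (K : FGA.QuotSet f E T),
      HilbCond f L Φ T (cokernel K.1.arrow) → Good f E q T K.1) :
    ∃ (Q : Over S) (K : FGA.QuotSet f E Q) (G : Scheme.{u}) (π : G ⟶ S) (U : G.Modules)
      (u : (Scheme.Modules.pullback π).obj (Wd f E) ⟶ U) (e : Q.left ⟶ G),
      Grass.IsGrass π (Wd f E) q U u ∧ IsProper π ∧ IsImmersion e ∧ QuasiCompact e ∧ e ≫ π = Q.hom ∧
      IsLocallyNoetherian Q.left ∧ HilbCond f L Φ Q (cokernel K.1.arrow) ∧
      ∀ (T : Over S) [IsLocallyNoetherian T.left] (K' : FGA.QuotSet f E T),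
        HilbCond f L Φ T (cokernel K'.1.arrow) → ∃! g : T ⟶ Q, FGA.quotPull f E g K.1 = K'.1 := by
  have hLi := AmpleLib.isInvertible_of_isRelAmple hL
  haveI : LocallyOfFinitePresentation f := S14008.lfp_of_lft f
  haveI := hE.1
  have hW : Coh.IsCoh (Wd f E) := RpushLib.isCoh_push f hE
  haveI := hW.1
  obtain ⟨G, π, U, u, hG⟩ := GrassShLib.exists_isGrass (Wd f E) hW q
  have hπ : IsProper π := GrassShLib.isProper_grass hG hW.2
  haveI := hπ
  haveI : IsLocallyNoetherian G := LocallyOfFiniteType.isLocallyNoetherian π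
  let TG : Over S := Over.mk π
  let DG : QData (Wd f E) q TG.hom := ⟨U, u, hG.rank, hG.epi⟩
  haveI : IsProper (PicF.XTproj f TG) := MorphismProperty.pullback_snd (P := @IsProper) _ _ ‹_›
  haveI : LocallyOfFinitePresentation (PicF.XTproj f TG) :=
    MorphismProperty.pullback_snd (P := @LocallyOfFinitePresentation) _ _ ‹_›
  haveI : IsLocallyNoetherian TG.left := ‹IsLocallyNoetherian G›
  haveI : IsLocallyNoetherian (PicF.XT f TG) := isLocallyNoetherian_XT
  let M := cokernel (sub f E TG DG).arrow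
  have hM : Coh.IsCoh M := by
    have hker : Coh.IsCoh (kernel DG.s) := (QCohLib.isCoh_kernel_cokernel DG.s
      (PullbackMod.isCoh_pullback π _ hW) (DegDevLib.isCoh_of_rank hG.rank)).1
    let φ := ((Scheme.Modules.pullbackPushforwardAdjunction (PicF.XTproj f TG)).homEquiv _ _).symm
      (kernel.ι DG.s ≫ vT f E TG)
    have hc := (QCohLib.isCoh_kernel_cokernel φ (PullbackMod.isCoh_pullback _ _ hker)
      (PullbackMod.isCoh_pullback _ _ hE)).2
    let e : cokernel φ ≅ M := cokernelIsoOfEq (imageSubobject_arrow_comp φ).symm ≪≫ cokernelEpiComp _ _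
    exact TildeOpenLib.isCoh_of_iso' e hc
  haveI := hM.1
  have hMfp : CohB1.IsFP M := QCohLib.isFP_of_isCoh M hM
  obtain ⟨W, e, hei, heq, -, -, hu⟩ := FlatStrat.exists_flattening_stratum (PicF.XTproj f TG)
    (AmpleLib.isRelAmple_baseChange f π hL) hMfp Φ
  haveI := hei
  haveI := heq
  haveI : IsLocallyNoetherian W := LocallyOfFiniteType.isLocallyNoetherian e
  -- the condition on a morphism to the Grassmannian
  have hcond : ∀ {T : Over S} (a : T ⟶ TG), FlatStrat.FlatHilb (PicF.XTproj f TG) M (FGA.ET f L TG) Φ a.left ↔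
      (FlatMod.IsFlatOver (PicF.XTproj f T) ((Scheme.Modules.pullback (PicF.XTmap f a)).obj M) ∧
        HilbCond f L Φ T ((Scheme.Modules.pullback (PicF.XTmap f a)).obj M)) := by
    intro T a
    refine and_congr ⟨fun h => FlatStrat.isFlatOver_sq (IsPullback.of_hasPullback _ _) (isPullback_XTmap f a) h,
      fun h => FlatStrat.isFlatOver_sq (isPullback_XTmap f a) (IsPullback.of_hasPullback _ _) h⟩ ?_
    refine forall_congr' fun t => forall_congr' fun n => ?_
    rw [eul_XTmap a hMfp hLi t]
  -- pulling back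
  have hpull : ∀ {T : Over S} (a : T ⟶ TG),
      Nonempty (cokernel (sub f E T (DG.bc a.left (Over.w a))).arrow ≅
        (Scheme.Modules.pullback (PicF.XTmap f a)).obj M) := fun a => by
    rw [← quotPull_sub a DG]
    exact nonempty_cokernel_quotPull f E a _
  let Q : Over S := Over.mk (e ≫ π)
  let eQ : Q ⟶ TG := Over.homMk e rfl
  haveI : IsLocallyNoetherian Q.left := ‹IsLocallyNoetherian W›
  obtain ⟨hfl, hQΦ⟩ := (hcond eQ).1 ((hu _ e).1 ⟨𝟙 _, Category.id_comp _⟩)
  obtain ⟨iQ⟩ := hpull eQ
  let K : FGA.QuotSet f E Q := ⟨sub f E Q (DG.bc e (Over.w eQ)),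
    TildeOpenLib.isCoh_of_iso' iQ.symm (PullbackMod.isCoh_pullback _ _ hM),
    DCohMore.isFlatOver_of_iso _ iQ.symm hfl⟩
  have hKΦ : HilbCond f L Φ Q (cokernel K.1.arrow) := hilbCond_iso iQ.symm hQΦ
  refine ⟨Q, K, G, π, U, u, e, hG, hπ, hei, heq, rfl, ‹_›, hKΦ, fun T _ K' hK' => ?_⟩
  have hgd := hgood T K' hK'
  have hval : ∀ g : T ⟶ Q, FGA.quotPull f E g K.1 = sub f E T (DG.bc (g.left ≫ e) (by
      rw [Category.assoc]; exact Over.w g)) := fun g => by
    show FGA.quotPull f E g (sub f E Q (DG.bc e (Over.w eQ))) = _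
    rw [quotPull_sub]
    refine sub_congr ?_
    exact Subtype.ext (QData.bc_bc DG e (Over.w eQ) g.left (Over.w g))
  let a : T ⟶ TG := Over.homMk (clsMap hG hgd.data) (clsMap_comp hG hgd.data)
  have ha : sub f E T (DG.bc a.left (Over.w a)) = K'.1 := by
    rw [← hgd.sub_data]
    refine sub_congr ?_
    rw [← QData.bc_cls]
    exact bc_clsMap hG hgd.data
  obtain ⟨iT⟩ := hpull a
  rw [ha] at iT
  obtain ⟨h, hh⟩ := (hu _ a.left).2 ((hcond a).2 ⟨DCohMore.isFlatOver_of_iso _ iT K'.2.2, hilbCond_iso iT hK'⟩)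
  refine ⟨Over.homMk h (by
    show h ≫ e ≫ π = T.hom
    rw [← Category.assoc, hh]; exact Over.w a), ?_, fun g hg => ?_⟩
  · show FGA.quotPull f E _ K.1 = _
    rw [hval, ← ha]
    exact sub_congr (by simp only [← QData.bc_cls]; congr 1)
  · refine Over.OverMorphism.ext ?_
    rw [← cancel_mono e]
    show g.left ≫ e = h ≫ e
    rw [hh]
    refine hom_ext_of_cls hG (g := T.hom) (by rw [Category.assoc]; exact Over.w g) (Over.w a) ?_
    rw [QData.bc_cls, QData.bc_cls]
    exact (hgd.cls_eq _ ((hval g).symm.trans hg)).trans (hgd.cls_eq _ ha).symm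

end Groth.Agent.QuotRep
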