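import Groth.Agent.QuotRepLib.Basic

/-!
# Base change maps of a composite morphism
-/

set_option autoImplicit false
set_option backward.isDefEq.respectTransparency false
set_option linter.style.haveILetI false
set_option linter.unusedSectionVars false

universe u

open CategoryTheory CategoryTheory.Limits AlgebraicGeometry TopologicalSpace Opposite
open Groth.Agent.PullbackMod Groth.Agent.GenBCLib

noncomputable section

namespace Groth.Agent.QuotRep

variable {X P S T XT PT : Scheme.{u}} {i : X ⟶ P} {π : P ⟶ S} {g : T ⟶ S} {π' : PT ⟶ T} {h : PT ⟶ P}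
  {iT : XT ⟶ PT} {k : XT ⟶ X}

/-- The identification of the direct images of a composite. -/
def pushTwo {f' : XT ⟶ T} (hf : iT ≫ π' = f') (N : XT.Modules) :
    (Scheme.Modules.pushforward π').obj ((Scheme.Modules.pushforward iT).obj N) ⟶ (Scheme.Modules.pushforward f').obj N :=
  (Scheme.Modules.pushforwardComp iT π').hom.app N ≫ (Scheme.Modules.pushforwardCongr hf).hom.app N

instance {f' : XT ⟶ T} (hf : iT ≫ π' = f') (N : XT.Modules) : IsIso (pushTwo (π' := π') hf N) := by
  unfold pushTwo; infer_instance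

theorem pushTwo_natural {f' : XT ⟶ T} (hf : iT ≫ π' = f') {M N : XT.Modules} (φ : M ⟶ N) :
    (Scheme.Modules.pushforward π').map ((Scheme.Modules.pushforward iT).map φ) ≫ pushTwo hf N =
      pushTwo hf M ≫ (Scheme.Modules.pushforward f').map φ := by
  simp only [pushTwo, Category.assoc]
  rw [← NatTrans.naturality, ← Category.assoc, ← Category.assoc]
  congr 1

theorem pushTwo_app (N : XT.Modules) (O : T.Opens) (s : Γ(N, iT ⁻¹ᵁ (π' ⁻¹ᵁ O))) :
    (pushTwo (π' := π') (rfl : iT ≫ π' = _) N).app O s = s := by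
  simp only [pushTwo, Scheme.Modules.Hom.comp_app, ConcreteCategory.comp_apply]
  rw [Scheme.Modules.pushforwardCongr_hom_app_app]
  exact congrArg (fun ψ => ψ s) (congrArg (fun φ => (ConcreteCategory.hom φ)) (N.presheaf.map_id _))

theorem bc0_vertical (wP : h ≫ π = π' ≫ g) (wi : k ≫ i = iT ≫ h) (w : k ≫ i ≫ π = (iT ≫ π') ≫ g) (M : X.Modules) :
    (Scheme.Modules.pullback g).map (pushTwo (iT := i) (π' := π) rfl M) ≫
        CohBC.bc0 (i ≫ π) g (iT ≫ π') k w M =
      CohBC.bc0 π g π' h wP ((Scheme.Modules.pushforward i).obj M) ≫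
        (Scheme.Modules.pushforward π').map (CohBC.bc0 i h iT k wi M) ≫ pushTwo rfl _ := by
  refine pullback_hom_ext g fun O m y hy => ⟨O, le_rfl, hy, ?_⟩
  generalize ((Scheme.Modules.pushforward π).obj ((Scheme.Modules.pushforward i).obj M)).presheaf.map
    (homOfLE (le_refl O)).op m = s
  have le := CohCmp.sqLE (i ≫ π) g (iT ≫ π') k w O
  have le₁ := CohCmp.sqLE π g π' h wP O
  have le₂ : iT ⁻¹ᵁ (π' ⁻¹ᵁ (g ⁻¹ᵁ O)) ≤ k ⁻¹ᵁ (i ⁻¹ᵁ (π ⁻¹ᵁ O)) := le
  simp only [Scheme.Modules.Hom.comp_app, ConcreteCategory.comp_apply]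
  refine ((congrArg ((CohBC.bc0 (i ≫ π) g (iT ≫ π') k w M).app (g ⁻¹ᵁ O))
    ((pullMap_natural g (pushTwo (iT := i) (π' := π) rfl M) le_rfl s).trans
      (congrArg (pullMap g _ le_rfl) (pushTwo_app (iT := i) (π' := π) M O s)))).trans
    (bc0_pullMap w M le_rfl le (show Γ(M, (i ≫ π) ⁻¹ᵁ O) from s))).trans ?_
  symm
  refine (congrArg _ (congrArg _ (bc0_pullMap wP ((Scheme.Modules.pushforward i).obj M) le_rfl le₁
    (show Γ((Scheme.Modules.pushforward i).obj M, π ⁻¹ᵁ O) from s)))).trans ?_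
  refine (congrArg _ (bc0_pullMap wi M le₁ le₂ (show Γ(M, i ⁻¹ᵁ (π ⁻¹ᵁ O)) from s))).trans ?_
  exact pushTwo_app _ _ _

end Groth.Agent.QuotRep
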