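import Groth.Agent.QuotRepLib.Core
import Groth.Agent.QuotRepLib.Vert
import Groth.Agent.FlatStratLib.Reduce
import Groth.Agent.DCohMore.GoodMod
import Groth.Agent.DCohMore.FinPushRes
import Groth.Agent.ChRingLib.Basic

/-!
# Good submodules from an ambient space
-/

set_option autoImplicit false
set_option backward.isDefEq.respectTransparency false
set_option linter.style.haveILetI false
set_option linter.unusedSectionVars false

universe u

open CategoryTheory CategoryTheory.Limits AlgebraicGeometry Opposite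

noncomputable section

namespace Groth.Agent.QuotRep

variable {X P S : Scheme.{u}}

/-- What is needed from the ambient space. -/
structure Amb (π : P ⟶ S) (E₀ O : P.Modules) (Φ : Polynomial ℚ) (q : ℕ) : Prop where
  iso : ∀ (T : Over S) [IsLocallyNoetherian T.left], IsIso (vT π E₀ T)
  spec : ∀ (T : Over S) [IsLocallyNoetherian T.left] (G : (PicF.XT π T).Modules) (ρ : FGA.ET π E₀ T ⟶ G),
    Epi ρ → Coh.IsCoh G → FlatMod.IsFlatOver (PicF.XTproj π T) G → HilbCond π O Φ T G →
      FlatMod.IsFinLocFreeOfRank q ((Scheme.Modules.pushforward (PicF.XTproj π T)).obj G) ∧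
        Epi ((Scheme.Modules.pushforward (PicF.XTproj π T)).map ρ) ∧
        Epi ((Scheme.Modules.pullbackPushforwardAdjunction (PicF.XTproj π T)).counit.app (kernel ρ))

theorem pushforwardCongr_rfl_app {Y Z : Scheme.{u}} (f : Y ⟶ Z) (M : Y.Modules) :
    (Scheme.Modules.pushforwardCongr (rfl : f = f)).hom.app M = 𝟙 _ := by
  refine Scheme.Modules.hom_ext _ _ fun U => ?_
  exact M.presheaf.map_id _

theorem bc0_congr_proj {T XT : Scheme.{u}} {f : X ⟶ S} {g : T ⟶ S} {k : XT ⟶ X} {f₁ f₂ : XT ⟶ T} (h : f₁ = f₂)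
    (w₁ : k ≫ f = f₁ ≫ g) (w₂ : k ≫ f = f₂ ≫ g) (M : X.Modules) :
    CohBC.bc0 f g f₁ k w₁ M ≫ (Scheme.Modules.pushforwardCongr h).hom.app _ = CohBC.bc0 f g f₂ k w₂ M := by
  subst h
  rw [pushforwardCongr_rfl_app, Category.comp_id]

theorem good_of_amb [IsNoetherian S] (i : X ⟶ P) [IsClosedImmersion i] (π : P ⟶ S) [IsProper π]
    [IsProper (i ≫ π)] {E₀ O : P.Modules} (hE₀ : Coh.IsCoh E₀) (hO : PicF.IsInvertible O) {E : X.Modules}
    (hE : Coh.IsCoh E) (β : E₀ ⟶ (Scheme.Modules.pushforward i).obj E) [Epi β] {Φ : Polynomial ℚ} {q : ℕ}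
    (hamb : Amb π E₀ O Φ q) (T : Over S) [IsLocallyNoetherian T.left] (K : FGA.QuotSet (i ≫ π) E T)
    (hK : HilbCond (i ≫ π) ((Scheme.Modules.pullback i).obj O) Φ T (cokernel K.1.arrow)) :
    Good (i ≫ π) E q T K.1 := by
  let fT := PicF.XTproj (i ≫ π) T
  let πT := PicF.XTproj π T
  let k := pullback.fst (i ≫ π) T.hom
  let h := pullback.fst π T.hom
  let iT : PicF.XT (i ≫ π) T ⟶ PicF.XT π T := pullback.lift (k ≫ i) fT (by
    rw [Category.assoc]; exact pullback.condition)
  have wi : k ≫ i = iT ≫ h := (pullback.lift_fst _ _ _).symm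
  have hiT : iT ≫ πT = fT := pullback.lift_snd _ _ _
  have hsq : IsPullback k iT i h := by
    refine IsPullback.of_bot ?_ wi (IsPullback.of_hasPullback π T.hom)
    rw [show iT ≫ pullback.snd π T.hom = fT from hiT]
    exact IsPullback.of_hasPullback (i ≫ π) T.hom
  haveI : IsClosedImmersion iT := MorphismProperty.of_isPullback (P := @IsClosedImmersion) hsq inferInstance
  haveI : IsProper πT := MorphismProperty.pullback_snd (P := @IsProper) _ _ ‹IsProper π›
  haveI : IsProper fT := MorphismProperty.pullback_snd (P := @IsProper) _ _ ‹IsProper (i ≫ π)›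
  haveI := isLocallyNoetherian_XT (f := π) (T := T)
  haveI := isLocallyNoetherian_XT (f := i ≫ π) (T := T)
  haveI := hE.1
  haveI := hamb.iso T
  let ET' := FGA.ET (i ≫ π) E T
  let Q' := cokernel K.1.arrow
  have hET : Coh.IsCoh ET' := PullbackMod.isCoh_pullback _ _ hE
  haveI := K.2.1.1
  haveI : IsIso (CohBC.bc0 i h iT k hsq.w E) := S12131.result i h k iT hsq E
  haveI : Epi ((Scheme.Modules.pullback h).map β) := by
    haveI : (Scheme.Modules.pullback h).IsLeftAdjoint :=
      (Scheme.Modules.pullbackPushforwardAdjunction h).isLeftAdjoint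
    infer_instance
  let βT : FGA.ET π E₀ T ⟶ (Scheme.Modules.pushforward iT).obj ET' :=
    (Scheme.Modules.pullback h).map β ≫ CohBC.bc0 i h iT k hsq.w E
  haveI : Epi βT := epi_comp _ _
  let ρ : FGA.ET π E₀ T ⟶ (Scheme.Modules.pushforward iT).obj Q' :=
    βT ≫ (Scheme.Modules.pushforward iT).map (cokernel.π K.1.arrow)
  haveI : Epi ((Scheme.Modules.pushforward iT).map (cokernel.π K.1.arrow)) :=
    DCohMore.epi_push_of_qcoh (f := iT) hET.1 K.2.1.1 _
  haveI : Epi ρ := epi_comp _ _
  -- the comparison of the two base change maps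
  let γ : (Scheme.Modules.pushforward π).obj E₀ ⟶ Wd (i ≫ π) E :=
    (Scheme.Modules.pushforward π).map β ≫ pushTwo (iT := i) (π' := π) rfl E
  have key : (Scheme.Modules.pullback T.hom).map γ ≫ vT (i ≫ π) E T =
      vT π E₀ T ≫ (Scheme.Modules.pushforward πT).map βT ≫ pushTwo hiT ET' := by
    have hv := bc0_vertical (pullback.condition (f := π) (g := T.hom)) hsq.w
      (show k ≫ i ≫ π = (iT ≫ πT) ≫ T.hom by rw [hiT]; exact pullback.condition) E
    have hc := bc0_congr_proj (f := i ≫ π) (g := T.hom) (k := k) hiT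
      (show k ≫ i ≫ π = (iT ≫ πT) ≫ T.hom by rw [hiT]; exact pullback.condition) pullback.condition E
    have hn := FlatStrat.bc0_natural (pullback.condition (f := π) (g := T.hom)) β
    have hp : pushTwo (π' := πT) hiT ET' =
        pushTwo (π' := πT) rfl ET' ≫ (Scheme.Modules.pushforwardCongr hiT).hom.app ET' := by
      simp [pushTwo, Scheme.Modules.pushforwardCongr]
      rfl
    rw [hp, vT, ← hc, Functor.map_comp, Category.assoc, reassoc_of% hv, reassoc_of% hn, Functor.map_comp]
    rfl
  have hcomp : (Scheme.Modules.pullback T.hom).map γ ≫ compT (i ≫ π) E T K.1 =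
      vT π E₀ T ≫ (Scheme.Modules.pushforward πT).map ρ ≫ pushTwo hiT Q' := by
    rw [compT, reassoc_of% key, ← pushTwo_natural]
    simp only [ρ, Q', Functor.map_comp, Category.assoc]
  -- the ambient facts
  have hG : Coh.IsCoh ((Scheme.Modules.pushforward iT).obj Q') := DevLib.isCoh_pushforward_closed iT K.2.1
  have hGfl : FlatMod.IsFlatOver πT ((Scheme.Modules.pushforward iT).obj Q') := by
    have h2 : FlatMod.IsFlatOver (iT ≫ πT) Q' := by rw [hiT]; exact K.2.2
    exact (HilbObsLib.isFlatOver_pushforward_iff iT πT Q').2 h2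
  have hGΦ : HilbCond π O Φ T ((Scheme.Modules.pushforward iT).obj Q') := by
    intro t n
    let e : (Scheme.Modules.pullback iT).obj (FGA.ET π O T) ≅
        CohB1.tensorPow (FGA.ET (i ≫ π) ((Scheme.Modules.pullback i).obj O) T) 1 :=
      (Scheme.Modules.pullbackComp iT h).app O ≪≫ (Scheme.Modules.pullbackCongr wi.symm).app O ≪≫
        ((Scheme.Modules.pullbackComp k i).app O).symm ≪≫ (AmpleLib.powOne _).symm
    rw [FlatStrat.eul_closed fT πT iT hiT (QCohLib.isFP_of_isCoh _ K.2.1)
      (AmpleLib.isInvertible_pullback _ (AmpleLib.isInvertible_pullback i hO)) e t n, one_mul]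
    exact hK t n
  obtain ⟨hrank, hepi, hcounit⟩ := hamb.spec T _ ρ inferInstance hG hGfl hGΦ
  haveI := hepi
  haveI := hcounit
  haveI hce : Epi (compT (i ≫ π) E T K.1) := by
    haveI : Epi ((Scheme.Modules.pullback T.hom).map γ ≫ compT (i ≫ π) E T K.1) := by rw [hcomp]; infer_instance
    exact epi_of_epi ((Scheme.Modules.pullback T.hom).map γ) _
  refine ⟨fun x => (hrank x).imp fun U hU => ⟨hU.1, hU.2.map fun e' =>
    (Scheme.Modules.restrictFunctor U.ι).mapIso (asIso (pushTwo hiT Q')).symm ≪≫ e'⟩, hce, ?_⟩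
  let adjf := Scheme.Modules.pullbackPushforwardAdjunction fT
  let ψ := (adjf.homEquiv _ _).symm (kernel.ι (compT (i ≫ π) E T K.1) ≫ vT (i ≫ π) E T)
  show imageSubobject ψ = K.1
  apply le_antisymm
  · rw [imageSubobject_le_iff]
    refine (adjf.homEquiv_naturality_right_symm _ _).symm.trans ?_
    have h0 : (kernel.ι (compT (i ≫ π) E T K.1) ≫ vT (i ≫ π) E T) ≫
        (Scheme.Modules.pushforward fT).map (cokernel.π K.1.arrow) = 0 := by
      rw [Category.assoc]; exact kernel.condition _
    erw [h0]
    simp [Adjunction.homEquiv_counit]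
  · let I := imageSubobject ψ
    let c := cokernel.π I.arrow
    have hψc : ψ ≫ c = 0 := (imageSubobject_le_iff ψ I).1 le_rfl
    have h1 : kernel.ι (compT (i ≫ π) E T K.1) ≫ vT (i ≫ π) E T ≫ (Scheme.Modules.pushforward fT).map c = 0 := by
      apply (adjf.homEquiv _ _).symm.injective
      refine Eq.trans ?_ (hψc.trans (by simp [Adjunction.homEquiv_counit]))
      rw [← Category.assoc]
      exact adjf.homEquiv_naturality_right_symm _ _
    -- the kernel of `ρ` is killed by the composite to the quotient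
    let χ := βT ≫ (Scheme.Modules.pushforward iT).map c
    let adjπ := Scheme.Modules.pullbackPushforwardAdjunction πT
    have hχ : kernel.ι ρ ≫ χ = 0 := by
      rw [← cancel_epi (adjπ.counit.app (kernel ρ)), comp_zero]
      suffices h2 : (Scheme.Modules.pushforward πT).map (kernel.ι ρ ≫ χ) = 0 by
        refine (adjπ.counit_naturality (kernel.ι ρ ≫ χ)).symm.trans ?_
        rw [h2, Functor.map_zero, zero_comp]
      rw [Functor.map_comp, ← cancel_mono (pushTwo hiT (cokernel I.arrow)), zero_comp]
      let lft := (Scheme.Modules.pushforward πT).map (kernel.ι ρ) ≫ inv (vT π E₀ T) ≫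
        (Scheme.Modules.pullback T.hom).map γ
      have hl : lft ≫ compT (i ≫ π) E T K.1 = 0 := by
        simp only [lft, Category.assoc, hcomp, IsIso.inv_hom_id_assoc]
        rw [← Functor.map_comp_assoc, kernel.condition, Functor.map_zero, zero_comp]
      calc ((Scheme.Modules.pushforward πT).map (kernel.ι ρ) ≫ (Scheme.Modules.pushforward πT).map χ) ≫
            pushTwo hiT (cokernel I.arrow)
          = lft ≫ vT (i ≫ π) E T ≫ (Scheme.Modules.pushforward fT).map c := by
            simp only [lft, Category.assoc, reassoc_of% key, IsIso.inv_hom_id_assoc]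
            rw [← pushTwo_natural, ← Functor.map_comp_assoc (F := Scheme.Modules.pushforward πT) βT]
        _ = kernel.lift _ lft hl ≫
              kernel.ι (compT (i ≫ π) E T K.1) ≫ vT (i ≫ π) E T ≫ (Scheme.Modules.pushforward fT).map c := by
            rw [kernel.lift_ι_assoc]
        _ = 0 := by rw [h1, comp_zero]
    obtain ⟨θ, hθ⟩ := CokernelCofork.IsColimit.desc'
      (Abelian.epiIsCokernelOfKernel (KernelFork.ofι (kernel.ι ρ) (kernel.condition _)) (kernelIsKernel ρ)) χ hχ
    change ρ ≫ θ = χ at hθ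
    have h3 : (Scheme.Modules.pushforward iT).map c =
        (Scheme.Modules.pushforward iT).map (cokernel.π K.1.arrow) ≫ θ := by
      rw [← cancel_epi βT]
      exact (hθ.symm.trans (Category.assoc _ _ _))
    have h4 : K.1.arrow ≫ c = 0 := (ChRingLib.ffPush iT).map_injective (by
      rw [Functor.map_comp, h3, ← Functor.map_comp_assoc, cokernel.condition, Functor.map_zero, zero_comp,
        Functor.map_zero])
    calc K.1 = imageSubobject K.1.arrow := by rw [imageSubobject_mono, Subobject.mk_arrow]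
      _ ≤ I := (imageSubobject_le_iff _ _).2 h4

end Groth.Agent.QuotRep
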