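import Groth.Agent.QuotRepLib.Core
import Groth.Agent.GrassShLib.Kernel
import Groth.Agent.DCohMore.DescFPPF
import Groth.Agent.RelTildeLib.Restrict
import Groth.Agent.S4812
import Groth.Agent.DCohMore.PCClosedPush

/-!
# Families of quotients form a Zariski sheaf
-/

set_option autoImplicit false
set_option backward.isDefEq.respectTransparency false
set_option linter.style.haveILetI false
set_option linter.unusedSectionVars false

universe u

open CategoryTheory CategoryTheory.Limits AlgebraicGeometry Grass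
open Groth.Agent.FlagLib Groth.Agent.GrassShLib Groth.Agent.PullbackMod

noncomputable section

namespace Groth.Agent.QuotRep

/-- Submodules with the same quotient are equal. -/
theorem subobject_eq_of_cokernel {C : Type*} [Category C] [Abelian C] {B : C} (K L : Subobject B)
    (e : cokernel L.arrow ≅ cokernel K.arrow) (h : cokernel.π L.arrow ≫ e.hom = cokernel.π K.arrow) : K = L := by
  have hle : ∀ (K L : Subobject B) (e : cokernel L.arrow ≅ cokernel K.arrow),
      cokernel.π L.arrow ≫ e.hom = cokernel.π K.arrow → L ≤ K := fun K L e h => by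
    refine Subobject.le_of_comm (Abelian.monoLift K.arrow L.arrow ?_) (Abelian.monoLift_comp _ _ _)
    rw [← h, cokernel.condition_assoc, zero_comp]
  exact le_antisymm (hle L K e.symm (by rw [← h, Category.assoc, Iso.symm_hom, e.hom_inv_id, Category.comp_id]))
    (hle K L e h)

variable {X S : Scheme.{u}} (f : X ⟶ S) (E : X.Modules)

theorem isIso_qb_id {A B C : Scheme.{u}} {φ : B ⟶ C} {h : A ⟶ B} {g : A ⟶ C} (hg : h ≫ φ = g) (M : C.Modules) :
    IsIso (qb (𝟙 ((Scheme.Modules.pullback φ).obj M)) hg) := by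
  unfold qb quotBC
  infer_instance

theorem exists_cokernel_image {C : Type*} [Category C] [Abelian C] {A B : C} (φ : A ⟶ B) :
    ∃ ε : cokernel φ ≅ cokernel (imageSubobject φ).arrow, cokernel.π φ ≫ ε.hom = cokernel.π (imageSubobject φ).arrow := by
  let a : cokernel φ ⟶ cokernel (imageSubobject φ).arrow := cokernel.desc φ (cokernel.π _) (by
    exact (imageSubobject_le_iff φ _).1 le_rfl)
  let b : cokernel (imageSubobject φ).arrow ⟶ cokernel φ := cokernel.desc _ (cokernel.π φ) (by
    rw [← cancel_epi (factorThruImageSubobject φ), ← Category.assoc, imageSubobject_arrow_comp, cokernel.condition,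
      comp_zero])
  exact ⟨⟨a, b, by ext; simp [a, b], by ext; simp [a, b]⟩, cokernel.π_desc _ _ _⟩

theorem exists_preimage_sq {A B C D : Scheme.{u}} {p : A ⟶ B} {q : A ⟶ C} {r : B ⟶ D} {s : C ⟶ D}
    (h : IsPullback p q r s) {b : B} {c : C} (e : r b = s c) : ∃ a, p a = b := by
  obtain ⟨z, hz, -⟩ := Scheme.Pullback.exists_preimage_pullback b c e
  refine ⟨h.isoPullback.inv z, ?_⟩
  rw [← Scheme.Hom.comp_apply, h.isoPullback_inv_fst]
  exact hz

theorem exists_cokernel_quotPull {T T' : Over S} (g : T' ⟶ T) (K : Subobject (FGA.ET f E T)) :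
    ∃ ε : (Scheme.Modules.pullback (PicF.XTmap f g)).obj (cokernel K.arrow) ≅ cokernel (FGA.quotPull f E g K).arrow,
      (FGA.ETiso f E g).inv ≫ (Scheme.Modules.pullback (PicF.XTmap f g)).map (cokernel.π K.arrow) ≫ ε.hom =
        cokernel.π (FGA.quotPull f E g K).arrow := by
  let P := Scheme.Modules.pullback (PicF.XTmap f g)
  obtain ⟨a, ha⟩ := exists_cokernel_image (P.map K.arrow ≫ (FGA.ETiso f E g).hom)
  refine ⟨PreservesCokernel.iso P K.arrow ≪≫ (cokernel.mapIso (P.map K.arrow)
    (P.map K.arrow ≫ (FGA.ETiso f E g).hom) (Iso.refl _) (FGA.ETiso f E g) (Category.id_comp _).symm) ≪≫ a, ?_⟩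
  rw [Iso.trans_hom, PreservesCokernel.π_iso_hom_assoc (G := P), Iso.trans_hom, cokernel.mapIso_hom,
    cokernel.π_desc_assoc, Category.assoc, ha, Iso.inv_hom_id_assoc]
  rfl

/-- Families of quotients agreeing on an open covering are equal. -/
theorem quot_ext {T : Over S} {σ : Type u} {U : σ → Over S} (g : ∀ i, U i ⟶ T) [∀ i, IsOpenImmersion (g i).left]
    (hcov : ∀ x : T.left, ∃ i y, (g i).left y = x) {K K' : Subobject (FGA.ET f E T)}
    (h : ∀ i, FGA.quotPull f E (g i) K = FGA.quotPull f E (g i) K') : K = K' := by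
  haveI : ∀ i, IsOpenImmersion (PicF.XTmap f (g i)) := fun i =>
    MorphismProperty.of_isPullback (P := @IsOpenImmersion) (isPullback_XTmap f (g i)).flip inferInstance
  have hcov' : ∀ z : PicF.XT f T, ∃ i w, PicF.XTmap f (g i) w = z := fun z => by
    obtain ⟨i, y, hy⟩ := hcov (PicF.XTproj f T z)
    obtain ⟨w, hw⟩ := exists_preimage_sq (isPullback_XTmap f (g i)) (b := z) hy.symm
    exact ⟨i, w, hw⟩
  have hle : ∀ K K' : Subobject (FGA.ET f E T), (∀ i, FGA.quotPull f E (g i) K = FGA.quotPull f E (g i) K') → K ≤ K' := by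
    intro K K' h
    refine Subobject.le_of_comm (Abelian.monoLift K'.arrow K.arrow ?_) (Abelian.monoLift_comp _ _ _)
    refine eq_zero_of_cover (fun i => PicF.XTmap f (g i)) hcov' _ fun i => ?_
    obtain ⟨ε, hε⟩ := exists_cokernel_quotPull f E (g i) K'
    have h0 : ((Scheme.Modules.pullback (PicF.XTmap f (g i))).map K.arrow ≫ (FGA.ETiso f E (g i)).hom) ≫
        cokernel.π (FGA.quotPull f E (g i) K').arrow = 0 :=
      (imageSubobject_le_iff _ _).1 (h i).le
    rw [← hε, Category.assoc, Iso.hom_inv_id_assoc, ← Functor.map_comp_assoc] at h0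
    exact (cancel_mono ε.hom).1 (h0.trans zero_comp.symm)
  exact le_antisymm (hle K K' h) (hle K' K fun i => (h i).symm)

/-- The quotient map of a submodule on the source of a morphism. -/
abbrev qmap {T U : Over S} (g : U ⟶ T) (L : Subobject (FGA.ET f E U)) :
    (Scheme.Modules.pullback (PicF.XTmap f g)).obj (FGA.ET f E T) ⟶ cokernel L.arrow :=
  (FGA.ETiso f E g).hom ≫ cokernel.π L.arrow

theorem kerS_qb_qmap {T U V : Over S} (g : U ⟶ T) (a : V ⟶ U) {c : V ⟶ T} (hc : a ≫ g = c)
    (hd : PicF.XTmap f a ≫ PicF.XTmap f g = PicF.XTmap f c) (L : Subobject (FGA.ET f E U)) :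
    kerS (qb (qmap f E g L) hd) = kerS (qmap f E c (FGA.quotPull f E a L)) := by
  subst hc
  obtain ⟨ε, hε⟩ := exists_cokernel_quotPull f E a L
  have h1 : (Scheme.Modules.pullback (PicF.XTmap f a)).map (FGA.ETiso f E g).hom =
      (Scheme.Modules.pullbackComp (PicF.XTmap f a) (PicF.XTmap f g)).hom.app (FGA.ET f E T) ≫
        (Scheme.Modules.pullbackCongr hd).hom.app (FGA.ET f E T) ≫ (FGA.ETiso f E (a ≫ g)).hom ≫
          (FGA.ETiso f E a).inv := by
    rw [← cancel_mono (FGA.ETiso f E a).hom]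
    simp only [Category.assoc, Iso.inv_hom_id, Category.comp_id]
    exact HilbObsLib.etiso_comp f E a g hd
  have key : qb (qmap f E g L) hd ≫ ε.hom = qmap f E (a ≫ g) (FGA.quotPull f E a L) := by
    simp only [qb, quotBC, qmap, Category.assoc, Functor.map_comp, h1, Iso.inv_hom_id_app_assoc]
    rw [hε]
  rw [← key]
  exact (kerS_comp_iso _ ε).symm

/-- Families of quotients given on an open covering and agreeing on the overlaps glue. -/
theorem quot_glue {T : Over S} {σ : Type u} {U : σ → Over S} (g : ∀ i, U i ⟶ T) [∀ i, IsOpenImmersion (g i).left]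
    (hcov : ∀ x : T.left, ∃ i y, (g i).left y = x) (hE : Coh.IsCoh E)
    (K : ∀ i, FGA.QuotSet f E (U i))
    (hcompat : ∀ i k (V : Over S) (a : V ⟶ U i) (b : V ⟶ U k), a ≫ g i = b ≫ g k →
      FGA.quotPull f E a (K i).1 = FGA.quotPull f E b (K k).1) :
    ∃ K₀ : FGA.QuotSet f E T, ∀ i, FGA.quotPull f E (g i) K₀.1 = (K i).1 := by
  let t := fun i => PicF.XTmap f (g i)
  haveI : ∀ i, IsOpenImmersion (t i) := fun i =>
    MorphismProperty.of_isPullback (P := @IsOpenImmersion) (isPullback_XTmap f (g i)).flip inferInstance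
  have hcov' : ∀ z : PicF.XT f T, ∃ i w, t i w = z := fun z => by
    obtain ⟨i, y, hy⟩ := hcov (PicF.XTproj f T z)
    obtain ⟨w, hw⟩ := exists_preimage_sq (isPullback_XTmap f (g i)) (b := z) hy.symm
    exact ⟨i, w, hw⟩
  let s := fun i => qmap f E (g i) (K i).1
  haveI : ∀ i, Epi (s i) := fun i => epi_comp _ _
  have hc : ∀ i k, kerS (qb (s i) (rfl : pullback.fst (t i) (t k) ≫ t i = pullback.fst (t i) (t k) ≫ t i)) =
      kerS (qb (s k) (pullback.condition.symm : pullback.snd (t i) (t k) ≫ t k = pullback.fst (t i) (t k) ≫ t i)) := by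
    intro i k
    let V : Over S := Over.mk (pullback.fst (g i).left (g k).left ≫ (U i).hom)
    let a : V ⟶ U i := Over.homMk (pullback.fst _ _) rfl
    let b : V ⟶ U k := Over.homMk (pullback.snd (g i).left (g k).left) (by
      show pullback.snd (g i).left (g k).left ≫ (U k).hom = pullback.fst (g i).left (g k).left ≫ (U i).hom
      rw [← Over.w (g k), ← pullback.condition_assoc, Over.w (g i)])
    have hab : a ≫ g i = b ≫ g k := Over.OverMorphism.ext pullback.condition
    have ha : PicF.XTmap f a ≫ t i = PicF.XTmap f (a ≫ g i) := XTmap_comp f a (g i)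
    have hb : PicF.XTmap f b ≫ t k = PicF.XTmap f (a ≫ g i) := by rw [hab]; exact XTmap_comp f b (g k)
    -- the overlap upstairs
    have hVpb : IsPullback (PicF.XTmap f a) (PicF.XTmap f b) (t i) (t k) := by
      refine IsPullback.of_bot ?_ (ha.trans hb.symm) (isPullback_XTmap f (g k))
      rw [XTmap_proj f b, XTmap_proj f (g i)]
      exact (isPullback_XTmap f a).paste_vert (IsPullback.of_hasPullback (g i).left (g k).left)
    have hkS : kerS (qb (s i) ha) = kerS (qb (s k) hb) := by
      rw [kerS_qb_qmap f E (g i) a rfl ha (K i).1, kerS_qb_qmap f E (g k) b hab.symm hb (K k).1, hcompat i k V a b hab]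
    let e := hVpb.isoPullback
    haveI := epi_qb (s i) ha
    haveI := epi_qb (s k) hb
    obtain ⟨ε, hε⟩ := exists_iso_of_kerS_eq (qb (s i) ha) (qb (s k) hb) hkS
    have h1 : e.inv ≫ PicF.XTmap f a = pullback.fst (t i) (t k) := hVpb.isoPullback_inv_fst
    have h2 : e.inv ≫ PicF.XTmap f b = pullback.snd (t i) (t k) := hVpb.isoPullback_inv_snd
    have h3 : e.inv ≫ PicF.XTmap f (a ≫ g i) = pullback.fst (t i) (t k) ≫ t i := by
      rw [← ha, reassoc_of% h1]
    have h3' : e.inv ≫ PicF.XTmap f (a ≫ g i) = pullback.fst (t i) (t k) ≫ t i := h3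
    have h4 := qb_qb (s i) ha h1 h3' rfl (𝟙 ((Scheme.Modules.pullback (PicF.XTmap f a)).obj (cokernel (K i).1.arrow)))
    have h5 := qb_qb (s k) hb h2 h3' pullback.condition.symm
      (𝟙 ((Scheme.Modules.pullback (PicF.XTmap f b)).obj (cokernel (K k).1.arrow)))
    rw [Category.comp_id] at h4 h5
    have h6 : qb (qb (s i) ha) h3' ≫ (Scheme.Modules.pullback e.inv).map ε.hom = qb (qb (s k) hb) h3' := by
      rw [qb_comp, hε]
    rw [h4, h5, Category.assoc] at h6
    haveI := isIso_qb_id h1 (cokernel (K i).1.arrow)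
    haveI := isIso_qb_id h2 (cokernel (K k).1.arrow)
    let ζ := asIso (qb (𝟙 ((Scheme.Modules.pullback (PicF.XTmap f a)).obj (cokernel (K i).1.arrow))) h1) ≪≫
      (Scheme.Modules.pullback e.inv).mapIso ε ≪≫
      (asIso (qb (𝟙 ((Scheme.Modules.pullback (PicF.XTmap f b)).obj (cokernel (K k).1.arrow))) h2)).symm
    have h7 : qb (s i) rfl ≫ ζ.hom = qb (s k) pullback.condition.symm := by
      simp only [ζ, Iso.trans_hom, asIso_hom, Functor.mapIso_hom, Iso.symm_hom, asIso_inv]
      rw [reassoc_of% h6]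
      simp
    rw [← h7]
    exact (kerS_comp_iso _ ζ).symm
  let N := glueKer t s
  let π₀ := gluedπ t s
  haveI : Epi π₀ := inferInstanceAs (Epi (cokernel.π _))
  let K₀ := imageSubobject (SubLib.subι N)
  obtain ⟨ε₀, hε₀⟩ := exists_cokernel_image (SubLib.subι N)
  let e₀ : cokernel K₀.arrow ≅ cokernel (SubLib.subι N) := ε₀.symm
  have he₀ : cokernel.π K₀.arrow ≫ e₀.hom = π₀ := by
    refine (congrArg (· ≫ e₀.hom) hε₀.symm).trans ?_
    refine (Category.assoc _ _ _).trans ?_
    refine (congrArg (_ ≫ ·) ε₀.hom_inv_id).trans (Category.comp_id _)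
  choose ei hei using fun i => exists_iso_glued t s hc i
  have hloc : ∀ i, ∃ e : (Scheme.Modules.pullback (t i)).obj (cokernel K₀.arrow) ≅ cokernel (K i).1.arrow,
      (Scheme.Modules.pullback (t i)).map (cokernel.π K₀.arrow) ≫ e.hom = s i := fun i => by
    refine ⟨(Scheme.Modules.pullback (t i)).mapIso e₀ ≪≫ ei i, ?_⟩
    rw [Iso.trans_hom, Functor.mapIso_hom, ← Functor.map_comp_assoc, he₀]
    exact hei i
  choose l hl using hloc
  have hq : ∀ i, FGA.quotPull f E (g i) K₀ = (K i).1 := fun i => by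
    obtain ⟨ε, hε⟩ := exists_cokernel_quotPull f E (g i) K₀
    refine subobject_eq_of_cokernel _ _ ((l i).symm ≪≫ ε) ?_
    rw [← hε, ← cancel_epi (FGA.ETiso f E (g i)).hom, Iso.hom_inv_id_assoc]
    refine (Category.assoc _ _ _).symm.trans ?_
    rw [show (FGA.ETiso f E (g i)).hom ≫ cokernel.π (K i).1.arrow = s i from rfl, ← hl i]
    simp [t]
  haveI : Coh.IsQCoh (cokernel K₀.arrow) := RelTildeLib.isQCoh_of_cover (fun i => PicF.XT f (U i)) t
    (fun z => (hcov' z).imp fun i ⟨w, hw⟩ => ⟨w, hw⟩) fun i => by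
      haveI := (TildeOpenLib.isCoh_of_iso' (l i).symm (K i).2.1).1
      exact (SheafOfModules.isQuasicoherent (PicF.XT f (U i)).ringCatSheaf).prop_of_iso
        ((Scheme.Modules.restrictFunctorIsoPullback (t i)).app _).symm ‹_›
  have hET : Coh.IsQCoh (FGA.ET f E T) ∧ CohB1.IsFT (FGA.ET f E T) := by
    haveI := hE.1
    exact ⟨isQCoh_pullback _ _, DCohMore.ClosedPush.isFT_pullback _ hE.2⟩
  haveI := hET.1
  refine ⟨⟨K₀, ⟨inferInstance, S4812.isFT_of_epi hET.2 (cokernel.π K₀.arrow)⟩, fun z => ?_⟩, hq⟩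
  obtain ⟨i, w, rfl⟩ := hcov' z
  refine (isFlatOverAt_pullback_comp_iff (t i) (PicF.XTproj f T) _ w (Flat.stalkMap (t i) w)).1 ?_
  rw [show t i ≫ PicF.XTproj f T = PicF.XTproj f (U i) ≫ (g i).left from XTmap_proj f (g i)]
  exact isFlatOverAt_comp _ _ _ w (Flat.stalkMap (g i).left _) (isFlatOverAt_of_iso (l i).symm _ w ((K i).2.2 w))

end Groth.Agent.QuotRep
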