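import Groth.Agent.QuotRepLib.GoodAmb
import Groth.Agent.QuotRepLib.Sheaf

/-!
# Good submodules from an ambient space given over an open of the base
-/

set_option autoImplicit false
set_option backward.isDefEq.respectTransparency false
set_option linter.style.haveILetI false
set_option linter.unusedSectionVars false

universe u

open CategoryTheory CategoryTheory.Limits AlgebraicGeometry Opposite Grass
open Groth.Agent.FlagLib Groth.Agent.GrassShLib

noncomputable section

namespace Groth.Agent.QuotRep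

variable {X P S : Scheme.{u}} (i : X ⟶ P) (π : P ⟶ S)

/-- The map to the base changed ambient space. -/
def iOf (T : Over S) : PicF.XT (i ≫ π) T ⟶ PicF.XT π T :=
  pullback.lift (pullback.fst (i ≫ π) T.hom ≫ i) (PicF.XTproj (i ≫ π) T) (by
    rw [Category.assoc]; exact pullback.condition)

theorem iOf_proj (T : Over S) : iOf i π T ≫ PicF.XTproj π T = PicF.XTproj (i ≫ π) T := pullback.lift_snd _ _ _

theorem iOf_fst (T : Over S) : pullback.fst (i ≫ π) T.hom ≫ i = iOf i π T ≫ pullback.fst π T.hom :=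
  (pullback.lift_fst _ _ _).symm

theorem isPullback_iOf (T : Over S) :
    IsPullback (pullback.fst (i ≫ π) T.hom) (iOf i π T) i (pullback.fst π T.hom) := by
  refine IsPullback.of_bot ?_ (iOf_fst i π T) (IsPullback.of_hasPullback π T.hom)
  rw [show iOf i π T ≫ pullback.snd π T.hom = _ from iOf_proj i π T]
  exact IsPullback.of_hasPullback (i ≫ π) T.hom

theorem isClosedImmersion_iOf [IsClosedImmersion i] (T : Over S) : IsClosedImmersion (iOf i π T) :=
  MorphismProperty.of_isPullback (P := @IsClosedImmersion) (isPullback_iOf i π T) inferInstance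

theorem iOf_map {T T' : Over S} (g : T' ⟶ T) :
    PicF.XTmap (i ≫ π) g ≫ iOf i π T = iOf i π T' ≫ PicF.XTmap π g := by
  apply pullback.hom_ext <;> simp [iOf, PicF.XTmap, PicF.XTproj, pullback.map]

theorem isPullback_iOf_map {T T' : Over S} (g : T' ⟶ T) :
    IsPullback (PicF.XTmap (i ≫ π) g) (iOf i π T') (iOf i π T) (PicF.XTmap π g) := by
  refine IsPullback.of_bot ?_ (iOf_map i π g) (isPullback_XTmap π g)
  rw [iOf_proj, iOf_proj]
  exact isPullback_XTmap (i ≫ π) g

variable {i π}

/-- What is needed from the ambient space for a given base. -/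
structure AmbAt (π : P ⟶ S) (E₀ O : P.Modules) (Φ : Polynomial ℚ) (q : ℕ) (T : Over S) : Prop where
  iso : IsIso (vT π E₀ T)
  spec : ∀ (G : (PicF.XT π T).Modules) (ρ : FGA.ET π E₀ T ⟶ G),
    Epi ρ → Coh.IsCoh G → FlatMod.IsFlatOver (PicF.XTproj π T) G → HilbCond π O Φ T G →
      FlatMod.IsFinLocFreeOfRank q ((Scheme.Modules.pushforward (PicF.XTproj π T)).obj G) ∧
        Epi ((Scheme.Modules.pushforward (PicF.XTproj π T)).map ρ) ∧
        Epi ((Scheme.Modules.pullbackPushforwardAdjunction (PicF.XTproj π T)).counit.app (kernel ρ))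

theorem Amb.at {π : P ⟶ S} {E₀ O : P.Modules} {Φ : Polynomial ℚ} {q : ℕ} (h : Amb π E₀ O Φ q) (T : Over S)
    [IsLocallyNoetherian T.left] : AmbAt π E₀ O Φ q T :=
  ⟨h.iso T, h.spec T⟩

theorem bc0_vertical' {T T' : Scheme.{u}} {g : T' ⟶ T} {X₀ P₀ X₁ P₁ : Scheme.{u}} {j : X₀ ⟶ P₀} {ρ : P₀ ⟶ T}
    {fj : X₀ ⟶ T} {j' : X₁ ⟶ P₁} {ρ' : P₁ ⟶ T'} {fj' : X₁ ⟶ T'} {h : P₁ ⟶ P₀} {k : X₁ ⟶ X₀}
    (wP : h ≫ ρ = ρ' ≫ g) (wi : k ≫ j = j' ≫ h) (hj : j ≫ ρ = fj) (hj' : j' ≫ ρ' = fj')
    (w : k ≫ fj = fj' ≫ g) (M : X₀.Modules) :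
    (Scheme.Modules.pullback g).map (pushTwo hj M) ≫ CohBC.bc0 fj g fj' k w M =
      CohBC.bc0 ρ g ρ' h wP ((Scheme.Modules.pushforward j).obj M) ≫
        (Scheme.Modules.pushforward ρ').map (CohBC.bc0 j h j' k wi M) ≫ pushTwo hj' _ := by
  subst hj hj'
  exact bc0_vertical wP wi w M

theorem good_of_data [IsNoetherian S] [IsClosedImmersion i] [IsProper π]
    [IsProper (i ≫ π)] {E₀ O : P.Modules} (hE₀ : Coh.IsCoh E₀) (hO : PicF.IsInvertible O) {E : X.Modules}
    (hE : Coh.IsCoh E) {Φ : Polynomial ℚ} {q : ℕ}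
    (T : Over S) [IsLocallyNoetherian T.left] (hamb : AmbAt π E₀ O Φ q T)
    (βT : FGA.ET π E₀ T ⟶ (Scheme.Modules.pushforward (iOf i π T)).obj (FGA.ET (i ≫ π) E T)) [Epi βT]
    (γ : (Scheme.Modules.pullback T.hom).obj (Wd π E₀) ⟶ (Scheme.Modules.pullback T.hom).obj (Wd (i ≫ π) E))
    (key : γ ≫ vT (i ≫ π) E T =
      vT π E₀ T ≫ (Scheme.Modules.pushforward (PicF.XTproj π T)).map βT ≫ pushTwo (iOf_proj i π T) _)
    (K : FGA.QuotSet (i ≫ π) E T)
    (hK : HilbCond (i ≫ π) ((Scheme.Modules.pullback i).obj O) Φ T (cokernel K.1.arrow)) :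
    Good (i ≫ π) E q T K.1 := by
  let fT := PicF.XTproj (i ≫ π) T
  let πT := PicF.XTproj π T
  let k := pullback.fst (i ≫ π) T.hom
  let h := pullback.fst π T.hom
  let iT := iOf i π T
  have wi : k ≫ i = iT ≫ h := iOf_fst i π T
  have hiT : iT ≫ πT = fT := iOf_proj i π T
  have hsq : IsPullback k iT i h := isPullback_iOf i π T
  haveI : IsClosedImmersion iT := MorphismProperty.of_isPullback (P := @IsClosedImmersion) hsq inferInstance
  haveI : IsProper πT := MorphismProperty.pullback_snd (P := @IsProper) _ _ ‹IsProper π›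
  haveI : IsProper fT := MorphismProperty.pullback_snd (P := @IsProper) _ _ ‹IsProper (i ≫ π)›
  haveI := isLocallyNoetherian_XT (f := π) (T := T)
  haveI := isLocallyNoetherian_XT (f := i ≫ π) (T := T)
  haveI := hE.1
  haveI := hamb.iso
  let ET' := FGA.ET (i ≫ π) E T
  let Q' := cokernel K.1.arrow
  have hET : Coh.IsCoh ET' := PullbackMod.isCoh_pullback _ _ hE
  haveI := K.2.1.1
  let ρ : FGA.ET π E₀ T ⟶ (Scheme.Modules.pushforward iT).obj Q' :=
    βT ≫ (Scheme.Modules.pushforward iT).map (cokernel.π K.1.arrow)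
  haveI : Epi ((Scheme.Modules.pushforward iT).map (cokernel.π K.1.arrow)) :=
    DCohMore.epi_push_of_qcoh (f := iT) hET.1 K.2.1.1 _
  haveI : Epi ρ := epi_comp _ _
  have hcomp : γ ≫ compT (i ≫ π) E T K.1 =
      vT π E₀ T ≫ (Scheme.Modules.pushforward πT).map ρ ≫ pushTwo hiT Q' := by
    rw [compT, reassoc_of% key, ← pushTwo_natural]
    simp only [ρ, Q', Functor.map_comp, Category.assoc]
    rfl
  -- the ambient facts
  have hG : Coh.IsCoh ((Scheme.Modules.pushforward iT).obj Q') := DevLib.isCoh_pushforward_closed iT K.2.1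
  have hGfl : FlatMod.IsFlatOver πT ((Scheme.Modules.pushforward iT).obj Q') := by
    have h2 : FlatMod.IsFlatOver (iT ≫ πT) Q' := by rw [hiT]; exact K.2.2
    exact (HilbObsLib.isFlatOver_pushforward_iff iT πT Q').2 h2
  have hGΦ : HilbCond π O Φ T ((Scheme.Modules.pushforward iT).obj Q') := by
    intro t n
    let e : (Scheme.Modules.pullback iT).obj (FGA.ET π O T) ≅
        CohB1.tensorPow (FGA.ET (i ≫ π) ((Scheme.Modules.pullback i).obj O) T) 1 :=
      (Scheme.Modules.pullbackComp iT h).app O ≪≫ (Scheme.Modules.pullbackCongr wi.symm).app O ≪≫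
        ((Scheme.Modules.pullbackComp k i).app O).symm ≪≫ (AmpleLib.powOne _).symm
    rw [FlatStrat.eul_closed fT πT iT hiT (QCohLib.isFP_of_isCoh _ K.2.1)
      (AmpleLib.isInvertible_pullback _ (AmpleLib.isInvertible_pullback i hO)) e t n, one_mul]
    exact hK t n
  obtain ⟨hrank, hepi, hcounit⟩ := hamb.spec _ ρ inferInstance hG hGfl hGΦ
  haveI := hepi
  haveI := hcounit
  haveI hce : Epi (compT (i ≫ π) E T K.1) := by
    haveI : Epi (γ ≫ compT (i ≫ π) E T K.1) := by rw [hcomp]; infer_instance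
    exact epi_of_epi (γ) _
  refine ⟨fun x => (hrank x).imp fun U hU => ⟨hU.1, hU.2.map fun e' =>
    (Scheme.Modules.restrictFunctor U.ι).mapIso (asIso (pushTwo hiT Q')).symm ≪≫ e'⟩, hce, ?_⟩
  let adjf := Scheme.Modules.pullbackPushforwardAdjunction fT
  let ψ := (adjf.homEquiv _ _).symm (kernel.ι (compT (i ≫ π) E T K.1) ≫ vT (i ≫ π) E T)
  show imageSubobject ψ = K.1
  apply le_antisymm
  · rw [imageSubobject_le_iff]
    refine (adjf.homEquiv_naturality_right_symm _ _).symm.trans ?_
    have h0 : (kernel.ι (compT (i ≫ π) E T K.1) ≫ vT (i ≫ π) E T) ≫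
        (Scheme.Modules.pushforward fT).map (cokernel.π K.1.arrow) = 0 := by
      rw [Category.assoc]; exact kernel.condition _
    erw [h0]
    simp [Adjunction.homEquiv_counit]
  · let I := imageSubobject ψ
    let c := cokernel.π I.arrow
    have hψc : ψ ≫ c = 0 := (imageSubobject_le_iff ψ I).1 le_rfl
    have h1 : kernel.ι (compT (i ≫ π) E T K.1) ≫ vT (i ≫ π) E T ≫ (Scheme.Modules.pushforward fT).map c = 0 := by
      apply (adjf.homEquiv _ _).symm.injective
      refine Eq.trans ?_ (hψc.trans (by simp [Adjunction.homEquiv_counit]))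
      rw [← Category.assoc]
      exact adjf.homEquiv_naturality_right_symm _ _
    -- the kernel of `ρ` is killed by the composite to the quotient
    let χ := βT ≫ (Scheme.Modules.pushforward iT).map c
    let adjπ := Scheme.Modules.pullbackPushforwardAdjunction πT
    have hχ : kernel.ι ρ ≫ χ = 0 := by
      rw [← cancel_epi (adjπ.counit.app (kernel ρ)), comp_zero]
      suffices h2 : (Scheme.Modules.pushforward πT).map (kernel.ι ρ ≫ χ) = 0 by
        refine (adjπ.counit_naturality (kernel.ι ρ ≫ χ)).symm.trans ?_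
        rw [h2, Functor.map_zero, zero_comp]
      rw [Functor.map_comp, ← cancel_mono (pushTwo hiT (cokernel I.arrow)), zero_comp]
      let lft := (Scheme.Modules.pushforward πT).map (kernel.ι ρ) ≫ inv (vT π E₀ T) ≫
        γ
      have hl : lft ≫ compT (i ≫ π) E T K.1 = 0 := by
        simp only [lft, Category.assoc, hcomp, IsIso.inv_hom_id_assoc]
        rw [← Functor.map_comp_assoc, kernel.condition, Functor.map_zero, zero_comp]
      calc ((Scheme.Modules.pushforward πT).map (kernel.ι ρ) ≫ (Scheme.Modules.pushforward πT).map χ) ≫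
            pushTwo hiT (cokernel I.arrow)
          = lft ≫ vT (i ≫ π) E T ≫ (Scheme.Modules.pushforward fT).map c := by
            simp only [lft, Category.assoc, reassoc_of% key, IsIso.inv_hom_id_assoc]
            rw [← pushTwo_natural, ← Functor.map_comp_assoc (F := Scheme.Modules.pushforward πT) βT]
        _ = kernel.lift _ lft hl ≫
              kernel.ι (compT (i ≫ π) E T K.1) ≫ vT (i ≫ π) E T ≫ (Scheme.Modules.pushforward fT).map c := by
            rw [kernel.lift_ι_assoc]
        _ = 0 := by rw [h1, comp_zero]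
    obtain ⟨θ, hθ⟩ := CokernelCofork.IsColimit.desc'
      (Abelian.epiIsCokernelOfKernel (KernelFork.ofι (kernel.ι ρ) (kernel.condition _)) (kernelIsKernel ρ)) χ hχ
    change ρ ≫ θ = χ at hθ
    have h3 : (Scheme.Modules.pushforward iT).map c =
        (Scheme.Modules.pushforward iT).map (cokernel.π K.1.arrow) ≫ θ := by
      rw [← cancel_epi βT]
      exact (hθ.symm.trans (Category.assoc _ _ _))
    have h4 : K.1.arrow ≫ c = 0 := (ChRingLib.ffPush iT).map_injective (by
      rw [Functor.map_comp, h3, ← Functor.map_comp_assoc, cokernel.condition, Functor.map_zero, zero_comp,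
        Functor.map_zero])
    calc K.1 = imageSubobject K.1.arrow := by rw [imageSubobject_mono, Subobject.mk_arrow]
      _ ≤ I := (imageSubobject_le_iff _ _).2 h4

/-- Families whose base maps to a scheme over which the ambient data exist. -/
theorem good_of_local [IsNoetherian S] [IsClosedImmersion i] [IsProper π]
    [IsProper (i ≫ π)] {E₀ O : P.Modules} (hE₀ : Coh.IsCoh E₀) (hO : PicF.IsInvertible O) {E : X.Modules}
    (hE : Coh.IsCoh E) {Φ : Polynomial ℚ} {q : ℕ}
    (V : Over S) [IsIso (vT (i ≫ π) E V)]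
    (β : FGA.ET π E₀ V ⟶ (Scheme.Modules.pushforward (iOf i π V)).obj (FGA.ET (i ≫ π) E V)) [Epi β]
    (T : Over S) [IsLocallyNoetherian T.left] (hamb : AmbAt π E₀ O Φ q T) (g : T ⟶ V) (K : FGA.QuotSet (i ≫ π) E T)
    (hK : HilbCond (i ≫ π) ((Scheme.Modules.pullback i).obj O) Φ T (cokernel K.1.arrow)) :
    Good (i ≫ π) E q T K.1 := by
  let f := i ≫ π
  haveI := isClosedImmersion_iOf (i := i) (π := π) V
  haveI := hE.1
  haveI : Coh.IsQCoh (FGA.ET (i ≫ π) E V) := PullbackMod.isQCoh_pullback _ _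
  haveI : IsIso (CohBC.bc0 (iOf i π V) (PicF.XTmap π g) (iOf i π T) (PicF.XTmap (i ≫ π) g) (iOf_map i π g)
      (FGA.ET (i ≫ π) E V)) :=
    S12131.result _ _ _ _ (isPullback_iOf_map i π g) _
  haveI : (Scheme.Modules.pullback (PicF.XTmap π g)).IsLeftAdjoint :=
    (Scheme.Modules.pullbackPushforwardAdjunction _).isLeftAdjoint
  let bi := CohBC.bc0 (iOf i π V) (PicF.XTmap π g) (iOf i π T) (PicF.XTmap (i ≫ π) g) (iOf_map i π g)
      (FGA.ET (i ≫ π) E V)
  let βT : FGA.ET π E₀ T ⟶ (Scheme.Modules.pushforward (iOf i π T)).obj (FGA.ET (i ≫ π) E T) :=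
    (FGA.ETiso π E₀ g).inv ≫ (Scheme.Modules.pullback (PicF.XTmap π g)).map β ≫ bi ≫
      (Scheme.Modules.pushforward (iOf i π T)).map (FGA.ETiso (i ≫ π) E g).hom
  haveI : Epi βT := epi_comp' inferInstance (epi_comp' inferInstance (epi_comp' inferInstance inferInstance))
  let γV : (Scheme.Modules.pullback V.hom).obj (Wd π E₀) ⟶ (Scheme.Modules.pullback V.hom).obj (Wd (i ≫ π) E) :=
    vT π E₀ V ≫ (Scheme.Modules.pushforward (PicF.XTproj π V)).map β ≫ pushTwo (iOf_proj i π V) _ ≫
      inv (vT (i ≫ π) E V)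
  let cc := fun (Y : P.Modules) => ((Scheme.Modules.pullbackComp g.left V.hom).app (Wd π Y) ≪≫
      (Scheme.Modules.pullbackCongr (Over.w g)).app (Wd π Y))
  let cX := (Scheme.Modules.pullbackComp g.left V.hom).app (Wd (i ≫ π) E) ≪≫
      (Scheme.Modules.pullbackCongr (Over.w g)).app (Wd (i ≫ π) E)
  refine good_of_data hE₀ hO hE T hamb βT ((cc E₀).inv ≫ (Scheme.Modules.pullback g.left).map γV ≫ cX.hom) ?_ K hK
  have hf := vT_map (f := i ≫ π) (E := E) g
  have hπ := vT_map (f := π) (E := E₀) g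
  have hv : (Scheme.Modules.pullback g.left).map (pushTwo (iOf_proj i π V) (FGA.ET (i ≫ π) E V)) ≫
      CohBC.bc0 (PicF.XTproj (i ≫ π) V) g.left (PicF.XTproj (i ≫ π) T) (PicF.XTmap (i ≫ π) g)
        (XTmap_proj (i ≫ π) g) (FGA.ET (i ≫ π) E V) =
      CohBC.bc0 (PicF.XTproj π V) g.left (PicF.XTproj π T) (PicF.XTmap π g) (XTmap_proj π g)
          ((Scheme.Modules.pushforward (iOf i π V)).obj (FGA.ET (i ≫ π) E V)) ≫
        (Scheme.Modules.pushforward (PicF.XTproj π T)).map bi ≫ pushTwo (iOf_proj i π T) _ :=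
    bc0_vertical' (XTmap_proj π g) (iOf_map i π g) (iOf_proj i π V) (iOf_proj i π T) (XTmap_proj (i ≫ π) g) _
  have hn := FlatStrat.bc0_natural (XTmap_proj π g) β
  have hcX : cX.hom ≫ vT (i ≫ π) E T = (Scheme.Modules.pullback g.left).map (vT (i ≫ π) E V) ≫
      CohBC.bc0 (PicF.XTproj (i ≫ π) V) g.left (PicF.XTproj (i ≫ π) T) (PicF.XTmap (i ≫ π) g)
        (XTmap_proj (i ≫ π) g) (FGA.ET (i ≫ π) E V) ≫
        (Scheme.Modules.pushforward (PicF.XTproj (i ≫ π) T)).map (FGA.ETiso (i ≫ π) E g).hom :=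
    (Category.assoc _ _ _).trans hf.symm
  have hc₀ : (cc E₀).inv ≫ (Scheme.Modules.pullback g.left).map (vT π E₀ V) ≫
      CohBC.bc0 (PicF.XTproj π V) g.left (PicF.XTproj π T) (PicF.XTmap π g) (XTmap_proj π g) (FGA.ET π E₀ V) =
      vT π E₀ T ≫ (Scheme.Modules.pushforward (PicF.XTproj π T)).map (FGA.ETiso π E₀ g).inv := by
    rw [← cancel_mono ((Scheme.Modules.pushforward (PicF.XTproj π T)).map (FGA.ETiso π E₀ g).hom)]
    simp only [Category.assoc, ← Functor.map_comp, Iso.inv_hom_id]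
    rw [CategoryTheory.Functor.map_id, Category.comp_id, hπ]
    exact (congrArg ((cc E₀).inv ≫ ·) (Category.assoc _ _ _).symm).trans ((cc E₀).inv_hom_id_assoc _)
  calc ((cc E₀).inv ≫ (Scheme.Modules.pullback g.left).map γV ≫ cX.hom) ≫ vT (i ≫ π) E T
      = (cc E₀).inv ≫ (Scheme.Modules.pullback g.left).map (vT π E₀ V) ≫
          (Scheme.Modules.pullback g.left).map ((Scheme.Modules.pushforward (PicF.XTproj π V)).map β) ≫
          ((Scheme.Modules.pullback g.left).map (pushTwo (iOf_proj i π V) (FGA.ET (i ≫ π) E V)) ≫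
            CohBC.bc0 (PicF.XTproj (i ≫ π) V) g.left (PicF.XTproj (i ≫ π) T) (PicF.XTmap (i ≫ π) g)
              (XTmap_proj (i ≫ π) g) (FGA.ET (i ≫ π) E V)) ≫
          (Scheme.Modules.pushforward (PicF.XTproj (i ≫ π) T)).map (FGA.ETiso (i ≫ π) E g).hom := by
        simp only [Category.assoc]
        rw [hcX]
        simp only [γV, Functor.map_comp, Category.assoc]
        rw [← Functor.map_comp_assoc (F := Scheme.Modules.pullback g.left) (inv (vT (i ≫ π) E V)),
          IsIso.inv_hom_id, CategoryTheory.Functor.map_id, Category.id_comp]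
    _ = vT π E₀ T ≫ (Scheme.Modules.pushforward (PicF.XTproj π T)).map βT ≫ pushTwo (iOf_proj i π T) _ := by
        rw [hv]
        simp only [Category.assoc]
        rw [reassoc_of% hn, reassoc_of% hc₀, ← pushTwo_natural]
        simp only [βT, Functor.map_comp, Category.assoc]

section cover

variable {f : X ⟶ S} {E : X.Modules} {q : ℕ}

theorem exists_compT_map [IsProper f] {T T' : Over S} [IsLocallyNoetherian T.left] (g : T' ⟶ T)
    [IsOpenImmersion g.left] (K : FGA.QuotSet f E T) :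
    ∃ ζ : (Scheme.Modules.pullback g.left).obj ((Scheme.Modules.pushforward (PicF.XTproj f T)).obj (cokernel K.1.arrow)) ≅
        (Scheme.Modules.pushforward (PicF.XTproj f T')).obj (cokernel (FGA.quotPull f E g K.1).arrow),
      (Scheme.Modules.pullback g.left).map (compT f E T K.1) ≫ ζ.hom =
        (Scheme.Modules.pullbackComp g.left T.hom).hom.app (Wd f E) ≫
          (Scheme.Modules.pullbackCongr (Over.w g)).hom.app (Wd f E) ≫ compT f E T' (FGA.quotPull f E g K.1) := by
  haveI := K.2.1.1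
  haveI : IsProper (PicF.XTproj f T) := MorphismProperty.pullback_snd (P := @IsProper) _ _ ‹_›
  haveI := FlatStrat.isIso_bc0_flat (isPullback_XTmap f g) (cokernel K.1.arrow)
  obtain ⟨ε, hε⟩ := exists_cokernel_quotPull f E g K.1
  refine ⟨asIso (CohBC.bc0 (PicF.XTproj f T) g.left (PicF.XTproj f T') (PicF.XTmap f g) (XTmap_proj f g)
    (cokernel K.1.arrow)) ≪≫ (Scheme.Modules.pushforward _).mapIso ε, ?_⟩
  have hn := FlatStrat.bc0_natural (XTmap_proj f g) (cokernel.π K.1.arrow)
  have hε' : (Scheme.Modules.pullback (PicF.XTmap f g)).map (cokernel.π K.1.arrow) ≫ ε.hom =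
      (FGA.ETiso f E g).hom ≫ cokernel.π (FGA.quotPull f E g K.1).arrow :=
    (Iso.inv_comp_eq _).1 hε
  simp only [compT, Functor.map_comp, Category.assoc, Iso.trans_hom, asIso_hom, Functor.mapIso_hom]
  rw [reassoc_of% hn, ← Functor.map_comp, hε', Functor.map_comp, ← reassoc_of% (vT_map (f := f) (E := E) g)]

/-- Being good is local on the base. -/
theorem good_of_cover [IsProper f] {T : Over S} [IsLocallyNoetherian T.left] {σ : Type u} {U : σ → Over S}
    (g : ∀ a, U a ⟶ T) [∀ a, IsOpenImmersion (g a).left] (hcov : ∀ x : T.left, ∃ a y, (g a).left y = x)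
    (K : FGA.QuotSet f E T) (h : ∀ a, Good f E q (U a) (FGA.quotPull f E (g a) K.1)) : Good f E q T K.1 := by
  choose ζ hζ using fun a => exists_compT_map (g a) K
  have hrank : FlatMod.IsFinLocFreeOfRank q
      ((Scheme.Modules.pushforward (PicF.XTproj f T)).obj (cokernel K.1.arrow)) :=
    rank_of_cover (fun a => (g a).left) hcov fun a x => ((h a).rank x).imp fun V hV => ⟨hV.1, hV.2.map fun e' =>
      (Scheme.Modules.restrictFunctor V.ι).mapIso (ζ a) ≪≫ e'⟩
  have hepi : Epi (compT f E T K.1) := by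
    refine Preadditive.epi_of_cokernel_zero ?_
    refine eq_zero_of_cover (fun a => (g a).left) hcov _ fun a => ?_
    haveI := (h a).epi
    haveI : Epi ((Scheme.Modules.pullback (g a).left).map (compT f E T K.1)) := by
      haveI : Epi ((Scheme.Modules.pullback (g a).left).map (compT f E T K.1) ≫ (ζ a).hom) := by
        rw [hζ a]; infer_instance
      rw [show (Scheme.Modules.pullback (g a).left).map (compT f E T K.1) =
        ((Scheme.Modules.pullback (g a).left).map (compT f E T K.1) ≫ (ζ a).hom) ≫ (ζ a).inv by simp]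
      infer_instance
    rw [← cancel_epi ((Scheme.Modules.pullback (g a).left).map (compT f E T K.1)), ← Functor.map_comp,
      cokernel.condition, Functor.map_zero, comp_zero]
  refine ⟨hrank, hepi, ?_⟩
  let D : QData (Wd f E) q T.hom := ⟨_, compT f E T K.1, hrank, hepi⟩
  refine quot_ext f E g hcov (K := sub f E T D) (K' := K.1) fun a => ?_
  rw [quotPull_sub (g a) D]
  refine Eq.trans (sub_congr ?_) (h a).sub_data
  refine Subtype.ext ?_
  show kerS (qb (compT f E T K.1) (Over.w (g a))) = kerS (compT f E (U a) (FGA.quotPull f E (g a) K.1))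
  have hk : qb (compT f E T K.1) (Over.w (g a)) ≫ (ζ a).hom = compT f E (U a) (FGA.quotPull f E (g a) K.1) := by
    simp only [qb, quotBC, Category.assoc, hζ a, Iso.inv_hom_id_app_assoc]
  rw [← hk]
  exact (kerS_comp_iso _ (ζ a)).symm

end cover

end Groth.Agent.QuotRep
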